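import Cfsg.Agent.H9.Basic

set_option autoImplicit false
open Subgroup

namespace H2M

variable {X : Type*} [Group X]

/-- minimal normal subgroup -/
def MinN (V : Subgroup X) : Prop :=
  V.Normal ∧ V ≠ ⊥ ∧ ∀ N : Subgroup X, N.Normal → N ≤ V → N = ⊥ ∨ N = V

theorem exists_indep [Finite X] (Mn : Subgroup X → Prop) (hM : ∀ V, Mn V → MinN V) :
    ∃ (n : ℕ) (V : Fin n → Subgroup X), (∀ i, Mn (V i)) ∧ iSupIndep V ∧
      (⨆ i, V i) = sSup {V : Subgroup X | Mn V} := by
  classical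
  let P : Subgroup X → Prop := fun D => ∃ (n : ℕ) (V : Fin n → Subgroup X),
    (∀ i, Mn (V i)) ∧ iSupIndep V ∧ (⨆ i, V i) = D
  obtain ⟨D, ⟨n, V, h1, h2, rfl⟩, hm⟩ := exists_maximal_of_wellFoundedGT P
    ⟨⊥, 0, Fin.elim0, fun i => i.elim0, iSupIndep_subsingleton _, by simp⟩
  refine ⟨n, V, h1, h2, le_antisymm (iSup_le fun i => le_sSup (h1 i)) (sSup_le fun W hW => ?_)⟩
  have nn : ∀ (s : Fin n → Prop), (⨆ i, ⨆ _ : s i, V i).Normal := fun s =>
    H9.normal_iff_cj.2 fun g => by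
      simp only [H9.cj_iSup]
      exact iSup_congr fun i => iSup_congr fun _ => (H9.normal_iff_cj.1 (hM _ (h1 i)).1 g)
  haveI : (⨆ i, V i).Normal := by simpa using nn fun _ => True
  haveI := (hM _ hW).1
  rcases (hM _ hW).2.2 (W ⊓ ⨆ i, V i) inferInstance inf_le_left with h | h
  swap
  · exact h.ge.trans inf_le_right
  have e : (⨆ i, (Fin.cons W V : Fin (n + 1) → Subgroup X) i) = W ⊔ ⨆ i, V i :=
    le_antisymm (iSup_le (Fin.cases le_sup_left fun j => le_sup_of_le_right (le_iSup V j)))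
      (sup_le (le_iSup_of_le 0 le_rfl) (iSup_le fun j => le_iSup_of_le j.succ le_rfl))
  refine le_sup_left.trans (hm ⟨n + 1, Fin.cons W V, Fin.cases hW h1, ?_, e⟩ le_sup_right)
  intro i
  induction i using Fin.cases with
  | zero => exact (disjoint_iff.2 h).mono_right (iSup₂_le fun j hj => by
      obtain ⟨j, rfl⟩ := Fin.exists_succ_eq.2 hj
      exact le_iSup V j)
  | succ i =>
    have : (⨆ j, ⨆ _ : j ≠ i.succ, (Fin.cons W V : Fin (n + 1) → Subgroup X) j) ≤
        W ⊔ ⨆ j, ⨆ _ : j ≠ i, V j :=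
      iSup₂_le fun j hj => by
        induction j using Fin.cases with
        | zero => exact le_sup_left
        | succ j => exact le_sup_of_le_right (le_iSup₂_of_le j (fun e => hj (e ▸ rfl)) le_rfl)
    refine Disjoint.mono_right this (disjoint_def.2 fun {x} hx hx' => ?_)
    haveI := nn fun j => j ≠ i
    obtain ⟨a, ha, b, hb, rfl⟩ := mem_sup_of_normal_right.1 hx'
    have h3 : a ∈ W ⊓ ⨆ i, V i := ⟨ha, by
      have := mul_mem (le_iSup V i hx)
        (inv_mem ((iSup₂_le fun j _ => le_iSup V j : _ ≤ ⨆ i, V i) hb))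
      rwa [mul_inv_cancel_right] at this⟩
    rw [h, mem_bot] at h3
    subst h3
    exact disjoint_def.1 (h2 i) hx (by rwa [one_mul])

theorem comm_of_indep {n : ℕ} {V : Fin n → Subgroup X} (hn : ∀ i, (V i).Normal) (h : iSupIndep V) :
    Pairwise fun i j => ∀ x y : X, x ∈ V i → y ∈ V j → Commute x y := fun i j hij x y hx hy => by
  haveI := hn i; haveI := hn j
  exact commute_of_normal_of_disjoint _ _ (hn i) (hn j) (h.pairwiseDisjoint hij) x y hx hy

/-- the internal direct product -/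
theorem exists_equiv_pi {n : ℕ} {V : Fin n → Subgroup X} (hn : ∀ i, (V i).Normal)
    (h : iSupIndep V) (ht : (⨆ i, V i) = ⊤) :
    ∃ e : (∀ i, V i) ≃* X, ∀ i (y : V i), e (Pi.mulSingle i y) = y := by
  classical
  refine ⟨MulEquiv.ofBijective (Subgroup.noncommPiCoprod (comm_of_indep hn h))
    ⟨injective_noncommPiCoprod_of_iSupIndep h, ?_⟩, fun i y => ?_⟩
  · rw [← MonoidHom.range_eq_top, noncommPiCoprod_range, ht]
  · exact Subgroup.noncommPiCoprod_mulSingle (hcomm := comm_of_indep hn h) i y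

theorem simple_of_indep [Finite X] {n : ℕ} {V : Fin n → Subgroup X} (hn : ∀ i, MinN (V i))
    (h : iSupIndep V) (ht : (⨆ i, V i) = ⊤) (i : Fin n) : IsSimpleGroup (V i) := by
  haveI : Nontrivial (V i) := (nontrivial_iff_ne_bot _).2 (hn i).2.1
  refine ⟨fun K hK => ?_⟩
  have hc := comm_of_indep (fun i => (hn i).1) h
  have : (K.map (V i).subtype).Normal := by
    rw [← normalizer_eq_top_iff, eq_top_iff, ← ht]
    refine iSup_le fun j => ?_
    by_cases hij : j = i
    · subst hij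
      intro g hg
      refine mem_normalizer_fintype ?_
      rintro _ ⟨k, hk, rfl⟩
      exact ⟨_, hK.conj_mem k hk ⟨g, hg⟩, rfl⟩
    · intro g hg
      refine mem_normalizer_fintype ?_
      rintro _ ⟨k, hk, rfl⟩
      have := (hc hij g k hg k.2).eq
      simp only [coe_subtype]
      rw [this, mul_inv_cancel_right]
      exact ⟨k, hk, rfl⟩
  rcases (hn i).2.2 _ this (map_subtype_le _) with h | h
  · left; exact (map_eq_bot_iff_of_injective _ (V i).subtype_injective).1 h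
  · right
    apply map_injective (V i).subtype_injective
    rw [h, ← MonoidHom.range_eq_map, range_subtype]

theorem MinN.map_equiv {Y : Type*} [Group Y] {V : Subgroup X} (h : MinN V) (e : X ≃* Y) :
    MinN (V.map e.toMonoidHom) := by
  refine ⟨h.1.map _ e.surjective, fun h0 => h.2.1 ((map_eq_bot_iff_of_injective _ e.injective).1 h0),
    fun N hN hle => ?_⟩
  have e1 : (N.comap e.toMonoidHom).map e.toMonoidHom = N := map_comap_eq_self_of_surjective e.surjective _
  rcases h.2.2 (N.comap e.toMonoidHom) (hN.comap _) (fun x hx => by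
    obtain ⟨y, hy, hxy⟩ := hle hx
    exact e.injective hxy ▸ hy) with h' | h'
  · left; rw [← e1, h', Subgroup.map_bot]
  · right; rw [← e1, h']

theorem exists_minN [Finite X] {N : Subgroup X} [N.Normal] (hN : N ≠ ⊥) : ∃ V ≤ N, MinN V := by
  obtain ⟨V, ⟨h1, h2, h3⟩, hm⟩ := exists_minimal_of_wellFoundedLT
    (fun V : Subgroup X => V.Normal ∧ V ≠ ⊥ ∧ V ≤ N) ⟨N, inferInstance, hN, le_rfl⟩
  refine ⟨V, h3, h1, h2, fun K hK hle => ?_⟩
  by_cases h : K = ⊥
  · exact Or.inl h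
  · exact Or.inr (le_antisymm hle (hm ⟨hK, h, hle.trans h3⟩ hle))

/-- A characteristically simple finite group is a direct product of automorphic simple normal subgroups. -/
theorem char_simple [Finite X] [Nontrivial X]
    (h : ∀ K : Subgroup X, K.Characteristic → K = ⊥ ∨ K = ⊤) :
    ∃ (n : ℕ) (V : Fin n → Subgroup X), 0 < n ∧ (∀ i, MinN (V i)) ∧ iSupIndep V ∧ (⨆ i, V i) = ⊤ ∧
      ∀ i j, ∃ φ : X ≃* X, (V i).map φ.toMonoidHom = V j := by
  obtain ⟨K, -, hK⟩ := exists_minN (X := X) (N := ⊤) top_ne_bot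
  obtain ⟨n, V, h1, h2, h3⟩ := exists_indep (fun V => ∃ φ : X ≃* X, K.map φ.toMonoidHom = V)
    (by rintro _ ⟨φ, rfl⟩; exact hK.map_equiv φ)
  have hKle : K ≤ ⨆ i, V i := h3 ▸ le_sSup ⟨MulEquiv.refl _, by ext; simp⟩
  have ht : (⨆ i, V i) = ⊤ := by
    refine (h _ ?_).resolve_left fun h0 => hK.2.1 (le_bot_iff.1 (h0 ▸ hKle))
    rw [h3, characteristic_iff_map_le]
    intro ψ
    rw [map_le_iff_le_comap]
    refine sSup_le ?_
    rintro _ ⟨φ, rfl⟩
    rw [← map_le_iff_le_comap, map_map]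
    exact le_sSup ⟨φ.trans ψ, rfl⟩
  refine ⟨n, V, Nat.pos_of_ne_zero ?_, fun i => ?_, h2, ht, fun i j => ?_⟩
  · rintro rfl
    rw [iSup_of_empty] at ht
    exact bot_ne_top ht
  · obtain ⟨φ, e⟩ := h1 i
    exact e ▸ hK.map_equiv φ
  · obtain ⟨φ, e⟩ := h1 i
    obtain ⟨ψ, e'⟩ := h1 j
    refine ⟨φ.symm.trans ψ, ?_⟩
    rw [← e, ← e', map_map]
    congr 1
    ext; simp

theorem char_simple_pow [Finite X] [Nontrivial X]
    (h : ∀ K : Subgroup X, K.Characteristic → K = ⊥ ∨ K = ⊤) :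
    ∃ (T : Type) (_ : Group T) (m : ℕ), IsSimpleGroup T ∧ 0 < m ∧ Nonempty (X ≃* (Fin m → T)) := by
  obtain ⟨n, V, hn, h1, h2, h3, h4⟩ := char_simple h
  obtain ⟨e, -⟩ := exists_equiv_pi (fun i => (h1 i).1) h2 h3
  let i0 : Fin n := ⟨0, hn⟩
  haveI := simple_of_indep h1 h2 h3 i0
  have e0 : Shrink.{0} (V i0) ≃* V i0 := Shrink.mulEquiv
  have : ∀ i, Nonempty (V i ≃* Shrink.{0} (V i0)) := fun i => by
    obtain ⟨φ, hφ⟩ := h4 i i0
    exact ⟨((φ.subgroupMap (V i)).trans (MulEquiv.subgroupCongr hφ)).trans e0.symm⟩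
  refine ⟨Shrink.{0} (V i0), inferInstance, n, ?_, hn,
    ⟨e.symm.trans (MulEquiv.piCongrRight fun i => (this i).some)⟩⟩
  exact e0.isSimpleGroup

theorem MinN.char_simple {N : Subgroup X} (h : MinN N) (K : Subgroup N) (hK : K.Characteristic) :
    K = ⊥ ∨ K = ⊤ := by
  haveI := h.1
  rcases h.2.2 (K.map N.subtype) inferInstance (map_subtype_le _) with h | h
  · left; exact (map_eq_bot_iff_of_injective _ N.subtype_injective).1 h
  · right
    apply map_injective N.subtype_injective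
    rw [h, ← MonoidHom.range_eq_map, range_subtype]

theorem MinN.pow [Finite X] {N : Subgroup X} (h : MinN N) :
    ∃ (T : Type) (_ : Group T) (m : ℕ), IsSimpleGroup T ∧ 0 < m ∧ Nonempty (N ≃* (Fin m → T)) := by
  haveI : Nontrivial N := (nontrivial_iff_ne_bot _).2 h.2.1
  exact char_simple_pow h.char_simple

end H2M
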