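import Mathlib
import Cfsg.Agent.H1.Frob
import Cfsg.Agent.H1.SylowIn

/-! H2.Aff: affine maps from 3-point agreement (`affine_of_three`), determinant adjustment
(`exists_det_one`), the three primes lemma (`three_primes`). -/

set_option autoImplicit false

namespace H2
open MulAction Subgroup

theorem affine_of_three {K V : Type*} [Field K] [AddCommGroup V] [Module K V] (h2 : (2 : K) ≠ 0)
    (σ : Equiv.Perm V)
    (h : ∀ t : Fin 3 → V, ∃ (A : V ≃ₗ[K] V) (b : V), ∀ i, σ (t i) = A (t i) + b) :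
    ∃ (A : V ≃ₗ[K] V) (b : V), ∀ x, σ x = A x + b := by
  have hl : ∀ (x y : V) (c : K), σ (x + c • (y - x)) = σ x + c • (σ y - σ x) := fun x y c => by
    obtain ⟨A, b, hA⟩ := h ![x, y, x + c • (y - x)]
    have e0 := hA 0
    have e1 := hA 1
    have e2 := hA 2
    simp only [Matrix.cons_val_zero, Matrix.cons_val_one, Matrix.cons_val] at e0 e1 e2
    rw [e0, e1, e2, map_add, map_smul, map_sub]
    module
  have hs : ∀ (c : K) (y : V), σ (c • y) - σ 0 = c • (σ y - σ 0) := fun c y => by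
    have := hl 0 y c
    rw [zero_add, sub_zero] at this
    rw [this]; abel
  let τ : V →ₗ[K] V :=
    { toFun := fun x => σ x - σ 0
      map_add' := fun x y => by
        have e : x + y = (2 : K) • (x + (2 : K)⁻¹ • (y - x)) := by
          rw [smul_add, smul_smul, mul_inv_cancel₀ h2]; module
        rw [e, hs, hl, smul_sub, smul_add, smul_smul, mul_inv_cancel₀ h2]; module
      map_smul' := hs }
  refine ⟨LinearEquiv.ofBijective τ (σ.trans (Equiv.subRight (σ 0))).bijective, σ 0, fun x => ?_⟩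
  show σ x = σ x - σ 0 + σ 0
  abel

theorem exists_det_one {K V : Type*} [Field K] [AddCommGroup V] [Module K V] [FiniteDimensional K V]
    (A : V ≃ₗ[K] V) (W : Submodule K V) (hW : W ≠ ⊤) :
    ∃ A' : V ≃ₗ[K] V, LinearMap.det (A' : V →ₗ[K] V) = 1 ∧ ∀ w ∈ W, A' w = A w := by
  obtain ⟨f, hf, hfW⟩ := Submodule.exists_dual_map_eq_bot_of_lt_top hW.lt_top inferInstance
  obtain ⟨v, hv⟩ : ∃ v, f v ≠ 0 := by
    by_contra h; push Not at h; exact hf (LinearMap.ext h)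
  have hd : LinearMap.det (A : V →ₗ[K] V) ≠ 0 := A.isUnit_det'.ne_zero
  let B : V →ₗ[K] V := (A : V →ₗ[K] V) ∘ₗ LinearMap.transvection
    ((((LinearMap.det (A : V →ₗ[K] V))⁻¹ - 1) * (f v)⁻¹) • f) v
  have hB : LinearMap.det B = 1 := by
    rw [LinearMap.det_comp, LinearMap.transvection.det, LinearMap.smul_apply, smul_eq_mul]
    field_simp; ring
  refine ⟨LinearMap.equivOfDetNeZero B (hB ▸ one_ne_zero), ?_, fun w hw => ?_⟩
  · refine Eq.trans ?_ hB; congr 1
  · have : f w = 0 := by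
      have : f w ∈ W.map f := ⟨w, hw, rfl⟩
      rwa [hfW] at this
    simp [B, LinearMap.transvection.apply, this]

variable {G : Type*} [Group G]

theorem exists_orderOf_of_dvd [Finite G] {x : G} {n : ℕ} (h : n ∣ orderOf x) :
    ∃ y : G, orderOf y = n :=
  ⟨x ^ (orderOf x / n), orderOf_pow_orderOf_div (orderOf_pos x).ne' h⟩

theorem exists_mem_orderOf [Finite G] {p : ℕ} (hp : p.Prime) {H : Subgroup G} (h : p ∣ Nat.card H) :
    ∃ x ∈ H, orderOf x = p := by
  haveI := Fact.mk hp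
  obtain ⟨x, hx⟩ := exists_prime_orderOf_dvd_card' p h
  exact ⟨x, x.2, by rw [orderOf_coe, hx]⟩

theorem exists_orderOf_mul_of_comm [Finite G] {p q : ℕ} (hp : p.Prime) (hq : q.Prime) (hpq : p ≠ q)
    {P Q : Subgroup G} (hP : IsPGroup p P) (hQ : IsPGroup q Q) {a b : G} (ha : a ∈ P) (hb : b ∈ Q)
    (ha1 : a ≠ 1) (hb1 : b ≠ 1) (h : a * b = b * a) : ∃ x : G, orderOf x = p * q := by
  haveI := Fact.mk hp
  haveI := Fact.mk hq
  obtain ⟨i, hi⟩ := IsPGroup.iff_orderOf.1 hP ⟨a, ha⟩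
  obtain ⟨j, hj⟩ := IsPGroup.iff_orderOf.1 hQ ⟨b, hb⟩
  rw [← orderOf_coe] at hi hj
  have hi0 : i ≠ 0 := by rintro rfl; exact ha1 (orderOf_eq_one_iff.1 hi)
  have hj0 : j ≠ 0 := by rintro rfl; exact hb1 (orderOf_eq_one_iff.1 hj)
  refine exists_orderOf_of_dvd (x := a * b) ?_
  rw [(show Commute a b from h).orderOf_mul_eq_mul_orderOf_of_coprime
    (hi ▸ hj ▸ Nat.Coprime.pow _ _ ((Nat.coprime_primes hp hq).2 hpq))]
  exact mul_dvd_mul (hi ▸ dvd_pow_self _ hi0) (hj ▸ dvd_pow_self _ hj0)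

theorem dvd_card_of_sup [Finite G] {q : ℕ} {K N M : Subgroup G} (hK : N ≤ normalizer (K : Set G))
    (h : K ⊔ N = M) (hq : q ∣ K.relIndex M) : q ∣ Nat.card N := by
  rw [← h, sup_comm, H1.relIndex_sup_of_le_normalizer hK] at hq
  exact hq.trans (relIndex_dvd_card _ _)

theorem three_primes [Finite G] (K M : Subgroup G) [K.Normal] [M.Normal] (hKM : K ≤ M)
    {p q r : ℕ} (hp : p.Prime) (hq : q.Prime) (hr : r.Prime) (hpq : p ≠ q) (hpr : p ≠ r) (hqr : q ≠ r)
    (hpK : p ∣ Nat.card K) (hqM : q ∣ K.relIndex M) (hrG : r ∣ M.index) :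
    (∃ x : G, orderOf x = p * q) ∨ (∃ x : G, orderOf x = p * r) ∨ (∃ x : G, orderOf x = q * r) := by
  haveI := Fact.mk hp
  haveI := Fact.mk hq
  haveI := Fact.mk hr
  by_contra hne
  push Not at hne
  obtain ⟨h1, h2, h3⟩ := hne
  obtain ⟨P, hP⟩ := H1.exists_isSylowIn (p := p) K
  set N := normalizer (P : Set G)
  have e1 := hP.frattini_sup hKM le_normalizer_of_normal
  have e2 := dvd_card_of_sup le_normalizer_of_normal e1 hqM
  obtain ⟨Q, hQ⟩ := H1.exists_isSylowIn (p := q) (N ⊓ M)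
  have e3 := hQ.frattini_sup (L := N) inf_le_left
    (H1.le_normalizer_inf le_normalizer le_normalizer_of_normal)
  have e4 : M ⊔ (normalizer (Q : Set G) ⊓ N) = ⊤ := by
    rw [eq_top_iff, ← hP.frattini_top]
    refine sup_le (hKM.trans le_sup_left) (e3.ge.trans (sup_le (inf_le_right.trans le_sup_left) le_sup_right))
  have e5 := dvd_card_of_sup (q := r) le_normalizer_of_normal e4 (by rwa [relIndex_top_right])
  obtain ⟨x, hx, hxr⟩ := exists_mem_orderOf hr e5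
  have hX : IsPGroup r (zpowers x) := IsPGroup.of_card (n := 1) (by rw [Nat.card_zpowers, hxr, pow_one])
  have hP0 : P ≠ ⊥ := fun h => hP.eq_bot_iff.1 h hpK
  have hQ0 : Q ≠ ⊥ := fun h => hQ.eq_bot_iff.1 h e2
  have hx1 : x ≠ 1 := by rintro rfl; rw [orderOf_one] at hxr; exact hr.one_lt.ne hxr
  have hPs : Group.IsSolvable P := by haveI := hP.2.isNilpotent; infer_instance
  have key := H1.le_centralizer_of_frob_action (K := Q) (H := zpowers x) (V := P) hPs
    (zpowers_le.2 hx.1) (H1.fpf_iff.2 fun a ha b hb h => by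
      by_contra hc; push Not at hc
      obtain ⟨y, hy⟩ := exists_orderOf_mul_of_comm hq hr hqr hQ.2 hX hb ha hc.2 hc.1 h.symm
      exact h3 y hy)
    (hQ.1.trans inf_le_left) (zpowers_le.2 hx.2) (IsPGroup.coprime_card_of_ne q p hpq.symm _ _ hQ.2 hP.2)
    (IsPGroup.coprime_card_of_ne r p hpr.symm _ _ hX hP.2) (by
      rw [eq_bot_iff]
      intro a ha
      by_contra ha1
      obtain ⟨y, hy⟩ := exists_orderOf_mul_of_comm hp hr hpr hP.2 hX ha.1 (mem_zpowers x) ha1 hx1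
        (ha.2 x (mem_zpowers x)).symm
      exact h2 y hy)
  obtain ⟨⟨a, ha⟩, ha1⟩ := ne_bot_iff_exists_ne_one.1 hP0
  obtain ⟨⟨b, hb⟩, hb1⟩ := ne_bot_iff_exists_ne_one.1 hQ0
  obtain ⟨y, hy⟩ := exists_orderOf_mul_of_comm hp hq hpq hP.2 hQ.2 ha hb
    (fun h => ha1 (Subtype.ext h)) (fun h => hb1 (Subtype.ext h)) (key hb a ha)
  exact h1 y hy

/-- one step up a solvable normal series, catching exactly one prime of a coclique -/
theorem coclique_step [Finite G] (K A : Subgroup G) [K.Normal] [A.Normal] (hAK : A ≤ K)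
    (hK : Group.IsSolvable K) (T : Set ℕ) (hT : ∀ r ∈ T, r.Prime)
    (hc : ∀ r ∈ T, ∀ s ∈ T, r ≠ s → ¬ ∃ x : G, orderOf x = r * s)
    (hA : ∀ r ∈ T, ¬ r ∣ Nat.card A) (h : ∃ r ∈ T, r ∣ Nat.card K) :
    ∃ B : Subgroup G, B.Normal ∧ A ≤ B ∧ B ≤ K ∧ ∃ r ∈ T, r ∣ A.relIndex B ∧
      ∀ s ∈ T, s ∣ Nat.card B → s = r := by
  obtain ⟨B, ⟨hB, h1, h2, r, hr, hrB⟩, hmin⟩ := (wellFounded_lt (α := Subgroup G)).has_min
    {B | B.Normal ∧ A ≤ B ∧ B ≤ K ∧ ∃ r ∈ T, r ∣ Nat.card B} ⟨K, inferInstance, hAK, le_rfl, h⟩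
  have hd : ∀ {C : Subgroup G}, C ≤ B → ∀ s ∈ T, ¬ s ∣ Nat.card C → s ∣ Nat.card B → s ∣ C.relIndex B :=
    fun hC s hs h3 h4 => ((Nat.Prime.dvd_mul (hT s hs)).1 (by rwa [H1.card_mul_relIndex hC])).resolve_left h3
  refine ⟨B, hB, h1, h2, r, hr, hd h1 r hr (hA r hr) hrB, fun s hs hsB => ?_⟩
  by_contra hne
  let C := A ⊔ ⁅B, B⁆
  have hCB : C ≤ B := sup_le h1 (commutator_le_left _ _)
  have hAB : A ≠ B := fun h => hA r hr (h ▸ hrB)
  have hC : C < B := by
    refine lt_of_le_of_ne hCB fun h => ?_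
    have h5 := H1.commutator_lt_of_solvable (H1.isSolvable_map (QuotientGroup.mk' A) (H1.isSolvable_of_le h2 hK))
      (fun h6 => hAB (le_antisymm h1 (by simpa using (Subgroup.map_eq_bot_iff _).1 h6)))
    refine h5.ne ?_
    rw [← map_commutator]
    conv_rhs => rw [← h]
    rw [Subgroup.map_sup, (Subgroup.map_eq_bot_iff A).2 (by simp), bot_sup_eq]
  have hC' : ∀ s ∈ T, ¬ s ∣ Nat.card C := fun s hs h =>
    hmin C ⟨inferInstance, le_sup_left, hCB.trans h2, s, hs, h⟩ hC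
  have e : ∀ s ∈ T, s ∣ Nat.card B → ∃ x ∈ B.map (QuotientGroup.mk' C), orderOf x = s := fun s hs h =>
    exists_mem_orderOf (hT s hs) (by rw [H1.card_map_mk']; exact hd hCB s hs (hC' s hs) h)
  obtain ⟨_, ⟨x, hx, rfl⟩, hx'⟩ := e r hr hrB
  obtain ⟨_, ⟨y, hy, rfl⟩, hy'⟩ := e s hs hsB
  refine hc s hs r hr hne (exists_orderOf_of_dvd (x := y * x) (dvd_trans ?_ (orderOf_map_dvd (QuotientGroup.mk' C) _)))
  have hcm : Commute (QuotientGroup.mk' C y) (QuotientGroup.mk' C x) := by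
    rw [← commutatorElement_eq_one_iff_commute, ← map_commutatorElement]
    exact (QuotientGroup.eq_one_iff _).2 (mem_sup_right (commutator_mem_commutator hy hx))
  rw [map_mul, hcm.orderOf_mul_eq_mul_orderOf_of_coprime
    (hx' ▸ hy' ▸ (Nat.coprime_primes (hT s hs) (hT r hr)).2 hne), hx', hy']

end H2
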