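import Cfsg.Agent.H9.FG4
import Cfsg.Agent.H9.MS3
import Cfsg.Agent.H5.SL2
import Cfsg.Agent.H1.Product

/-!
H2.FF: failure of factorization for minimal parabolic groups gives `Qd(p)`; Glauberman's weak closure theorem.
-/

set_option linter.unusedSectionVars false

namespace H2F

open Subgroup Cfsg H9 Matrix
open scoped Pointwise commutatorElement MatrixGroups

universe u

variable {G : Type*} [Group G] [Finite G] {p : ℕ} [hp : Fact p.Prime] {W A Y M : Subgroup G} {a b g u v : G}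

/-- an irreducible quadratic module for a group generated by two conjugates of an offender -/
structure FF (W A Y M : Subgroup G) : Prop where
  nrm : W.Normal
  ab : W ≤ centralizer (W : Set G)
  irr : ∀ N : Subgroup G, N.Normal → N ≤ W → N = ⊥ ∨ N = W
  nc : ¬ W ≤ center G
  um : UM (A ⊔ Y) M ⊤
  gen : ∀ g ∉ M, A ⊔ cj g A ⊔ Y = ⊤
  nY : Y.Normal
  cY : Y ≤ centralizer (W : Set G)
  quad : ⁅W, A⁆ ≤ centralizer (A : Set G)
  off : Nat.card W ≤ Nat.card (W ⊓ centralizer (A : Set G) : Subgroup G) * M.normalCore.relIndex A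

namespace FF

theorem fix (h : FF W A Y M) (hu : u ∈ W) (h1 : ⊤ ≤ centralizer {u}) : u = 1 := by
  have := h.nrm
  rcases h.irr (W ⊓ center G) inferInstance inf_le_left with e | e
  · exact mem_bot.1 (e.le ⟨hu, mem_center_iff.2 fun g => (h1 (mem_top g) u rfl).symm⟩)
  · exact (h.nc (inf_eq_left.1 e)).elim

theorem cm (h : FF W A Y M) (hu : u ∈ W) (ha : a ∈ A) : u⁻¹ * (a * u * a⁻¹) ∈ W ⊓ centralizer (A : Set G) :=
  ⟨W.mul_mem (W.inv_mem hu) (h.nrm.conj_mem u hu a), h.quad (by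
    simpa [commutatorElement_def, mul_assoc] using commutator_mem_commutator (inv_mem hu) ha)⟩

theorem cj_eq (h : FF W A Y M) (g : G) : cj g (W ⊓ centralizer (A : Set G)) = W ⊓ centralizer (cj g A : Set G) := by
  have := h.nrm
  rw [cj_inf, cj_centralizer, cj_eq_of_normal]

theorem cj' (h : FF W A Y M) (g : G) : FF W (cj g A) Y (cj g M) := by
  have := h.nrm
  have := h.nY
  refine ⟨h.nrm, h.ab, h.irr, h.nc, ?_, fun x hx => ?_, h.nY, h.cY, ?_, ?_⟩
  · simpa [cj_sup, cj_eq_of_normal] using h.um.cj g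
  · have := congrArg (cj g) (h.gen _ fun e => hx (mem_cj.2 e))
    simpa [cj_sup, cj_eq_of_normal, ← cj_mul, mul_assoc] using this
  · rw [← cj_centralizer, ← cj_eq_of_normal g W, ← cj_commutator]; exact cj_mono g h.quad
  · rw [← h.cj_eq, card_cj, ← relIndex_cj g⁻¹, ← cj_mul, inv_mul_cancel, cj_eq_of_mem (one_mem _), cj_eq_of_normal]
    refine h.off.trans (Nat.mul_le_mul_left _ (le_of_eq ?_))
    congr 1
    ext x
    refine ⟨fun hx y => mem_cj.2 (by simpa [mul_assoc] using hx (g⁻¹ * y)), fun hx y => ?_⟩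
    simpa [mul_assoc] using mem_cj.1 (hx (g * y))

theorem disj (h : FF W A Y M) (hg : g ∉ M) : W ⊓ centralizer (A : Set G) ⊓ cj g (W ⊓ centralizer (A : Set G)) = ⊥ := by
  refine eq_bot_iff.2 fun u hu => h.fix hu.1.1 ((h.gen g hg).ge.trans (sup_le (sup_le ?_ ?_) ?_))
  exacts [le_centralizer_singleton_iff.2 hu.1.2, le_centralizer_singleton_iff.2 ((h.cj_eq g).le hu.2).2,
    fun y hy c hc => hc ▸ h.cY hy _ hu.1.1]

theorem ne_bot (h : FF W A Y M) : W ⊓ centralizer (A : Set G) ≠ ⊥ := fun e => by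
  have h1 : W ≤ W ⊓ centralizer (A : Set G) := fun u hu => ⟨hu, fun a ha => by
    have := mem_bot.1 (e.le (h.cm hu ha))
    rwa [inv_mul_eq_one, eq_mul_inv_iff_mul_eq, eq_comm] at this⟩
  exact h.nc (h1.trans (e.le.trans bot_le))

theorem sup_eq (h : FF W A Y M) (hg : g ∉ M) : W ⊓ centralizer (A : Set G) ⊔ cj g (W ⊓ centralizer (A : Set G)) = W := by
  have h1 : W ⊓ centralizer (A : Set G) ⊔ cj g (W ⊓ centralizer (A : Set G)) ≤ W :=
    sup_le inf_le_left ((h.cj_eq g).le.trans inf_le_left)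
  have := h.nrm
  refine (h.irr _ (normal_of_top_le ((h.gen g hg).ge.trans (sup_le (sup_le ?_ ?_) ?_))) h1).resolve_left
    fun e => h.ne_bot (eq_bot_iff.2 (le_sup_left.trans e.le))
  · exact le_normalizer_of_commutator_le ((le_inf (commutator_le_left _ _) h.quad).trans le_sup_left) h1
  · exact le_normalizer_of_commutator_le ((le_inf (commutator_le_left _ _) (h.cj' g).quad).trans
      ((h.cj_eq g).ge.trans le_sup_right)) h1
  · exact (h.cY.trans (centralizer_anti h1)).trans (centralizer_le_normalizer' _)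

theorem exists_nm (h : FF W A Y M) : ∃ g, g ∉ M := by
  by_contra! h1
  exact h.um.lt.ne (eq_top_iff.2 fun g _ => h1 g)

theorem card (h : FF W A Y M) : Nat.card W =
    Nat.card (W ⊓ centralizer (A : Set G) : Subgroup G) * Nat.card (W ⊓ centralizer (A : Set G) : Subgroup G) := by
  obtain ⟨g, hg⟩ := h.exists_nm
  have := H1.card_sup_of_disjoint ((inf_le_left.trans h.ab).trans ((centralizer_anti
    ((h.cj_eq g).le.trans inf_le_left)).trans (centralizer_le_normalizer' _))) (h.disj hg)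
  rwa [h.sup_eq hg, card_cj] at this

theorem cent_eq (h : FF W A Y M) (ha : a ∈ A) (h1 : a ∉ M.normalCore) :
    W ⊓ centralizer {a} = W ⊓ centralizer (A : Set G) := by
  obtain ⟨g, hg⟩ : ∃ g, g * a * g⁻¹ ∉ M := not_forall.1 h1
  have := h.nY
  have h2 : W ⊓ centralizer {a} ⊓ cj g⁻¹ (W ⊓ centralizer (A : Set G)) = ⊥ := eq_bot_iff.2 fun u hu => h.fix hu.1.1 (by
    have b1 : A ⊔ Y ≤ cj g (centralizer {u}) := sup_le (le_cj_iff.2 (le_centralizer_singleton_iff.2 ((h.cj_eq _).le hu.2).2))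
      (le_cj_iff.2 ((cj_eq_of_normal _ Y).le.trans fun y hy c hc => hc ▸ h.cY hy _ hu.1.1))
    have b2 := h.um.eq_of_not_le b1 le_top fun e => hg (e (conj_mem_cj fun c hc => hc ▸ (hu.1.2 a rfl).symm))
    rw [cj_eq_iff, cj_eq_of_normal] at b2
    exact b2.ge)
  have h3 := H1.card_mul_card_le (inf_le_left : W ⊓ centralizer {a} ≤ W) ((h.cj_eq g⁻¹).le.trans inf_le_left)
  rw [h2, card_bot, mul_one, card_cj, h.card] at h3
  exact (eq_of_le_of_card_ge (inf_le_inf_left _ (centralizer_le (Set.singleton_subset_iff.2 ha)))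
    (Nat.le_of_mul_le_mul_right h3 Nat.card_pos)).symm

theorem trans (h : FF W A Y M) (hu : u ∈ W) (h1 : u ∉ centralizer (A : Set G)) (hv : v ∈ W ⊓ centralizer (A : Set G)) :
    ∃ a ∈ A, a * u * a⁻¹ = u * v := by
  let φ : A →* G := MonoidHom.mk' (fun a => u⁻¹ * (a * u * a⁻¹)) fun a b => by
    have := (h.cm hu b.2).2 a a.2
    calc u⁻¹ * ((a : G) * b * u * ((a : G) * b)⁻¹) = u⁻¹ * (a * u * (a : G)⁻¹) * (a * (u⁻¹ * (b * u * (b : G)⁻¹)) * (a : G)⁻¹) := by group
      _ = _ := by rw [this]; simp [mul_assoc]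
  have h2 : φ.range ≤ W ⊓ centralizer (A : Set G) := by rintro _ ⟨a, rfl⟩; exact h.cm hu a.2
  have h3 : φ.ker ≤ M.normalCore.subgroupOf A := fun a ha => by
    by_contra h4
    refine h1 ((h.cent_eq a.2 h4).le ⟨hu, fun c hc => ?_⟩).2
    rw [hc, eq_comm, ← eq_mul_inv_iff_mul_eq, ← inv_mul_eq_one]; exact ha
  have h4 := h.off
  rw [h.card] at h4
  have h5 := (Nat.le_of_mul_le_mul_left h4 Nat.card_pos).trans
    (Nat.le_of_dvd (Nat.pos_of_ne_zero index_ne_zero_of_finite) (index_dvd_of_le h3))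
  rw [index_ker] at h5
  obtain ⟨a, ha⟩ := (eq_of_le_of_card_ge h2 h5).ge hv
  exact ⟨a, a.2, (eq_inv_mul_iff_mul_eq.1 ha.symm).symm⟩

theorem norm_eq (h : FF W A Y M) : normalizer ((W ⊓ centralizer (A : Set G) : Subgroup G) : Set G) = M := by
  obtain ⟨g, hg⟩ := h.exists_nm
  refine le_antisymm (fun x hx => by_contra fun hx' => h.ne_bot ?_) fun x hx => mem_normalizer_of_cj_le fun u hu => ?_
  · have := h.disj hx'
    rwa [mem_normalizer_iff_cj.1 hx, inf_idem] at this
  by_contra h1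
  have hu' := ((h.cj_eq x).le hu).1
  obtain ⟨s, hs, t, ht, rfl⟩ := (mem_sup_of_le_normalizer' (((h.cj_eq g).le.trans inf_le_left).trans (h.ab.trans
    ((centralizer_anti inf_le_left).trans (centralizer_le_normalizer' _))))).1 ((h.sup_eq hg).ge hu')
  have ht' := ((h.cj_eq g).le ht).1
  obtain ⟨a, ha, h2⟩ := h.trans ht' (fun e => h1 (mul_mem hs ⟨ht', e⟩)) hs
  have h3 : x⁻¹ * a * g ∉ M := fun e => hg (by
    simpa [mul_assoc] using mul_mem (inv_mem (h.um.le (mem_sup_left ha))) (mul_mem hx e))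
  have h4 : x⁻¹ * (s * t) * x ∈ W ⊓ centralizer (A : Set G) ⊓ cj (x⁻¹ * a * g) (W ⊓ centralizer (A : Set G)) :=
    ⟨mem_cj.1 hu, mem_cj.2 (by rw [h.ab ht' s hs.1, ← h2]; simpa [mul_assoc] using mem_cj.1 ht)⟩
  rw [h.disj h3, mem_bot, mul_assoc, inv_mul_eq_one, eq_comm, mul_eq_right] at h4
  exact h1 (h4 ▸ one_mem _)

theorem cent_le (h : FF W A Y M) : centralizer (W : Set G) ≤ M :=
  ((centralizer_anti inf_le_left).trans (centralizer_le_normalizer' _)).trans h.norm_eq.le

theorem not_mem (h : FF W A Y M) (hg : g ∉ M) (hu : u ∈ cj g (W ⊓ centralizer (A : Set G))) (h1 : u ≠ 1) :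
    u ∉ centralizer (A : Set G) := fun e => h1 (mem_bot.1 ((h.disj hg).le ⟨⟨((h.cj_eq g).le hu).1, e⟩, hu⟩))

theorem not_mem' (h : FF W A Y M) (hg : g ∉ M) (hu : u ∈ W ⊓ centralizer (A : Set G)) (h1 : u ≠ 1) :
    u ∉ centralizer (cj g A : Set G) := fun e => h1 (mem_bot.1 ((h.disj hg).le ⟨hu, (h.cj_eq g).ge ⟨hu.1, e⟩⟩))

theorem exists_neg (h : FF W A Y M) : ∃ w ∈ M, ∀ u ∈ W, w * u * w⁻¹ = u⁻¹ := by
  obtain ⟨g, hg⟩ := h.exists_nm
  obtain ⟨⟨u, hu⟩, h1⟩ := ne_bot_iff_exists_ne_one.1 h.ne_bot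
  replace h1 : u ≠ 1 := fun e => h1 (Subtype.ext e)
  have hv := conj_mem_cj (g := g) hu
  have h2 : g * u * g⁻¹ ≠ 1 := by simpa using h1
  generalize g * u * g⁻¹ = v at hv h2
  have hv' := (h.cj_eq g).le hv
  obtain ⟨a, ha, h3⟩ := h.trans hv'.1 (h.not_mem hg hv h2) hu
  obtain ⟨b, hb, h4⟩ := (h.cj' g).trans hu.1 (h.not_mem' hg hu h1) (inv_mem hv')
  have ca : ∀ x ∈ W ⊓ centralizer (A : Set G), a * x * a⁻¹ = x := fun x hx => by rw [hx.2 a ha, mul_inv_cancel_right]
  have cb : ∀ x ∈ W ⊓ centralizer (cj g A : Set G), b * x * b⁻¹ = x := fun x hx => by rw [hx.2 b hb, mul_inv_cancel_right]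
  have h5 : b * a * g ∈ M := by_contra fun e => h.not_mem e (u := u) (mem_cj.2 (by
    have : b * a * v * (b * a)⁻¹ = u := by
      calc _ = b * (a * v * a⁻¹) * b⁻¹ := by group
        _ = (b * v * b⁻¹) * (b * u * b⁻¹) := by rw [h3]; group
        _ = u := by rw [cb v hv', h4, ← mul_assoc, ← h.ab hv'.1 u hu.1, mul_inv_cancel_right]
    rw [← this]; simpa [mul_assoc] using mem_cj.1 hv)) h1 hu.2
  have h6 : cj (a * b * a) (cj g (W ⊓ centralizer (A : Set G))) = W ⊓ centralizer (A : Set G) := by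
    rw [← cj_mul, ← mem_normalizer_iff_cj, h.norm_eq]
    simpa [mul_assoc] using mul_mem (h.um.le (mem_sup_left ha)) h5
  have h7 : ∀ x ∈ cj g (W ⊓ centralizer (A : Set G)), (a * b * a) ^ 2 * x * ((a * b * a) ^ 2)⁻¹ = x⁻¹ := fun x hx => by
    have hx' := (h.cj_eq g).le hx
    have c1 := h.cm hx'.1 ha
    have c2 := (h.cj_eq g).ge ((h.cj' g).cm c1.1 hb)
    have c3 := h6.le (conj_mem_cj hx)
    generalize hs : x⁻¹ * (a * x * a⁻¹) = s at c1 c2
    generalize ht : s⁻¹ * (b * s * b⁻¹) = t at c2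
    have e1 : a * x * a⁻¹ = x * s := by rw [← hs]; group
    have e2 : b * s * b⁻¹ = s * t := by rw [← ht]; group
    have e3 : b * a * x * (b * a)⁻¹ = s * (x * t) := by
      calc _ = b * (a * x * a⁻¹) * b⁻¹ := by group
        _ = (b * x * b⁻¹) * (b * s * b⁻¹) := by rw [e1]; group
        _ = _ := by rw [cb x hx', e2, ← mul_assoc, h.ab c1.1 x hx'.1, mul_assoc]
    have c4 : s * (x * t) ∈ W ⊓ centralizer (A : Set G) := by
      have := conj_mem_of_le_normalizer' (K := A) (le_normalizer_of_commutator_le (le_inf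
        (haveI := h.nrm; commutator_le_left _ _) h.quad) inf_le_left) ha c3
      rw [← e3]; simpa [mul_assoc] using this
    have e4 : x * t = 1 := mem_bot.1 ((h.disj hg).le ⟨(mul_mem_cancel_left c1).1 c4, mul_mem hx c2⟩)
    rw [e4, mul_one] at e3
    calc _ = a * (b * (a * (a * (b * a * x * (b * a)⁻¹) * a⁻¹) * a⁻¹) * b⁻¹) * a⁻¹ := by rw [sq]; group
      _ = (a * s * a⁻¹) * (a * x * a⁻¹)⁻¹ := by
        rw [e3, ca s c1, ca s c1, e2, eq_inv_of_mul_eq_one_right e4, ← mul_assoc, c1.2 a ha]; group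
      _ = _ := by rw [ca s c1, e1]; group
  have h8 : ∀ x ∈ W ⊓ centralizer (A : Set G), (a * b * a) ^ 2 * x * ((a * b * a) ^ 2)⁻¹ = x⁻¹ := fun x hx => by
    have := h7 _ (mem_cj.1 (h6.ge hx))
    generalize a * b * a = n at this
    calc _ = n * (n ^ 2 * (n⁻¹ * x * n) * (n ^ 2)⁻¹) * n⁻¹ := by group
      _ = _ := by rw [this]; group
  generalize (a * b * a) ^ 2 = w at h7 h8
  refine ⟨w, h.norm_eq.le (mem_normalizer_of_cj_le fun x hx => ?_), fun x hx => ?_⟩
  · have := h8 _ (mem_cj.1 hx)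
    rw [show x = (w⁻¹ * x * w)⁻¹ by rw [← this]; group]; exact inv_mem (mem_cj.1 hx)
  obtain ⟨s, hs, t, ht, rfl⟩ := (mem_sup_of_le_normalizer' (((h.cj_eq g).le.trans inf_le_left).trans (h.ab.trans
    ((centralizer_anti inf_le_left).trans (centralizer_le_normalizer' _))))).1 ((h.sup_eq hg).ge hx)
  calc _ = (w * s * w⁻¹) * (w * t * w⁻¹) := by group
    _ = _ := by rw [h8 s hs, h7 t ht, ← _root_.mul_inv_rev, h.ab ((h.cj_eq g).le ht).1 s hs.1]

theorem gqd (h : FF W A Y M) (hW : IsPGroup p W) : GQd p (⊤ : Subgroup G) := by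
  obtain ⟨g, hg⟩ := h.exists_nm
  obtain ⟨u, hu, h0⟩ := exists_orderOf_eq_of_isPGroup (hW.to_le inf_le_left) h.ne_bot
  have h1 : u ≠ 1 := fun e => hp.out.one_lt.ne (by rw [← h0, e, orderOf_one])
  have hv := conj_mem_cj (g := g) hu
  have h2 : g * u * g⁻¹ ≠ 1 := by simpa using h1
  have h0' : orderOf (g * u * g⁻¹) = p := by rw [← h0]; exact (MulAut.conj g).orderOf_eq u
  generalize g * u * g⁻¹ = v at hv h2 h0'
  have hv' := (h.cj_eq g).le hv
  have c : Commute u v := h.ab hv'.1 u hu.1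
  let e : G → ZMod p → G := fun x k => x ^ k.val
  have e1 : ∀ x, orderOf x = p → ∀ k l, e x (k + l) = e x k * e x l := fun x hx k l => by
    have := pow_mod_orderOf x (k.val + l.val)
    rw [hx] at this
    simp only [e, ZMod.val_add, ← pow_add, this]
  have e2 : ∀ x, orderOf x = p → ∀ k l, e (e x k) l = e x (k * l) := fun x hx k l => by
    have := pow_mod_orderOf x (k.val * l.val)
    rw [hx] at this
    simp only [e, ZMod.val_mul, ← pow_mul, this]
  let ψ : Multiplicative (Fin 2 → ZMod p) →* G := MonoidHom.mk' (fun x => e u (x.toAdd 0) * e v (x.toAdd 1)) fun x y => by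
    simp only [toAdd_mul, Pi.add_apply, e1 u h0, e1 v h0']
    exact (c.pow_pow _ _).mul_mul_mul_comm _ _
  have hψ : Function.Injective ψ := (injective_iff_map_eq_one ψ).2 fun x hx => by
    have b1 : e v (x.toAdd 1) = 1 := mem_bot.1 ((h.disj hg).le ⟨(eq_inv_of_mul_eq_one_right hx) ▸ Subgroup.inv_mem _ (pow_mem hu _),
      pow_mem hv _⟩)
    have b2 : e u (x.toAdd 0) = 1 := by simpa [b1] using (show e u _ * e v _ = 1 from hx)
    have b3 : ∀ y, orderOf y = p → ∀ k, e y k = 1 → k = 0 := fun y hy k hk => (ZMod.val_eq_zero k).1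
      (Nat.eq_zero_of_dvd_of_lt (hy.symm.dvd.trans (orderOf_dvd_of_pow_eq_one hk)) (ZMod.val_lt k))
    ext i; fin_cases i
    exacts [b3 u h0 _ b2, b3 v h0' _ b1]
  let K : Subgroup SL(2, ZMod p) :=
    { carrier := {B | ∃ x : G, ∀ y, x * ψ (Multiplicative.ofAdd y) * x⁻¹ =
        ψ (Multiplicative.ofAdd ((B : Matrix (Fin 2) (Fin 2) (ZMod p)) *ᵥ y))}
      one_mem' := ⟨1, fun y => by simp⟩
      mul_mem' := fun ⟨x, hx⟩ ⟨y, hy⟩ => ⟨x * y, fun z => by rw [sl_mul, ← hx, ← hy]; group⟩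
      inv_mem' := fun {B} ⟨x, hx⟩ => ⟨x⁻¹, fun z => by
        have := hx (((B⁻¹ : SL(2, ZMod p)) : Matrix (Fin 2) (Fin 2) (ZMod p)) *ᵥ z)
        rw [← sl_mul, mul_inv_cancel, sl_one] at this
        rw [← this]; group⟩ }
  have hK : K = ⊤ := H5.SL2_eq_top K (fun k => ?_) fun k => ?_
  · refine ⟨ψ.range, fun x => (Function.invFun ψ x).toAdd, le_top, hW.to_le ?_, ?_, fun y => ⟨_, ⟨Multiplicative.ofAdd y, rfl⟩,
      congrArg _ (Function.leftInverse_invFun hψ _)⟩, fun B => ?_⟩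
    · rintro _ ⟨x, rfl⟩; exact mul_mem (pow_mem hu.1 _) (pow_mem hv'.1 _)
    · rintro _ ⟨x, rfl⟩ _ ⟨y, rfl⟩
      simp only [← map_mul, Function.leftInverse_invFun hψ _, toAdd_mul]
    · obtain ⟨x, hx⟩ := hK.ge (mem_top B)
      refine ⟨x, trivial, mem_normalizer_of_cj_le fun z hz => ?_, ?_⟩
      · obtain ⟨y, hy⟩ := mem_cj.1 hz
        exact ⟨_, (hx y.toAdd).symm.trans (by rw [ofAdd_toAdd, hy]; group)⟩
      · rintro _ ⟨y, rfl⟩
        have := hx y.toAdd
        rw [ofAdd_toAdd] at this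
        simp only [this, Function.leftInverse_invFun hψ _, toAdd_ofAdd]
  · obtain ⟨a, ha, h3⟩ := h.trans hv'.1 (h.not_mem hg hv h2) (pow_mem hu k.val)
    refine ⟨a, fun y => ?_⟩
    have : a * (e u (y 0) * e v (y 1)) * a⁻¹ = e u (y 0) * e (a * v * a⁻¹) (y 1) := by
      simp only [e, conj_pow, ← mul_assoc, (pow_mem hu _).2 a ha]
    refine this.trans ?_
    rw [h3]
    simp [ψ, Matrix.mulVec, dotProduct, e1 u h0, ← e2 u h0, mul_assoc]
    exact ((c.symm.pow_right _).mul_pow _).trans ((c.symm.pow_right _).pow_pow _ _)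
  · obtain ⟨a, ha, h3⟩ := (h.cj' g).trans hu.1 (h.not_mem' hg hu h1) (pow_mem hv' k.val)
    refine ⟨a, fun y => ?_⟩
    have : a * (e u (y 0) * e v (y 1)) * a⁻¹ = e (a * u * a⁻¹) (y 0) * e v (y 1) := by
      simp only [e, conj_pow]; simp only [mul_assoc, (pow_mem hv' _).2 _ (inv_mem ha)]
    refine this.trans ?_
    rw [h3]
    simp [ψ, Matrix.mulVec, dotProduct, e1 v h0', ← e2 v h0', ← mul_assoc]
    exact (c.pow_right _).mul_pow _

theorem core_not_le (h : FF W A Y M) (hW : IsPGroup p W) (hp2 : p ≠ 2) : ¬ M.normalCore ≤ centralizer (W : Set G) := by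
  obtain ⟨w, h1, h2⟩ := h.exists_neg
  intro h3
  have h4 : w ∈ M.normalCore := fun g => by
    have : w⁻¹ * (g * w * g⁻¹) ∈ centralizer (W : Set G) := fun u hu => by
      have b1 := h2 _ (h.nrm.conj_mem u hu g⁻¹)
      have b2 := h2 _ (W.inv_mem hu)
      rw [eq_comm, ← mul_inv_eq_iff_eq_mul]
      calc _ = w⁻¹ * (g * (w * (g⁻¹ * u * g⁻¹⁻¹) * w⁻¹) * g⁻¹) * w := by group
        _ = w⁻¹ * (w * u * w⁻¹) * w := by rw [b1, h2 u hu]; group
        _ = _ := by group
    simpa using mul_mem h1 (h.cent_le this)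
  obtain ⟨u, hu, h0⟩ := exists_orderOf_eq_of_isPGroup hW fun e => h.nc (e.le.trans bot_le)
  have := h2 u hu
  rw [← h3 h4 u hu, mul_inv_cancel_right, eq_inv_iff_mul_eq_one, ← sq] at this
  exact hp2 ((Nat.prime_dvd_prime_iff_eq hp.out Nat.prime_two).1 (h0 ▸ orderOf_dvd_of_pow_eq_one this))

end FF

theorem exists_FF {G : Type u} [Group G] [Finite G] {L A M T U : Subgroup G} (hM : UM (A ⊔ Op p L) M L)
    (hg : ∀ x ∈ L, x ∉ M → A ⊔ cj x A ⊔ Op p L = L) (hT : Syl p T L) (hA : A ≤ T) (hn : L ≤ normalizer (U : Set G))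
    (hU : U ≤ Op p L) (hc : Op p L ≤ centralizer (U : Set G)) (hq : ⁅⁅U, A⁆, A⁆ = ⊥)
    (off : (centralizer (A : Set G)).relIndex U ≤ (Op p L).relIndex A) (nc : ¬ Ores p L ≤ centralizer (U : Set G)) :
    Sect (qd p) L ∧ (p ≠ 2 → ∃ K ≤ M, L ≤ normalizer (K : Set G) ∧ ¬ K ≤ centralizer (U : Set G)) := by
  have hUL := hU.trans (Op_le p L)
  have hAL := hA.trans hT.le
  have hYM : Op p L ≤ M := le_sup_right.trans hM.le
  have := normal_subgroupOf_of_le_normalizer (normalizer_inf hn (normalizer_centralizer (le_normalizer_Ores p L)))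
  let f := QuotientGroup.mk' ((U ⊓ centralizer (Ores p L : Set G)).subgroupOf L)
  have hf : Function.Surjective f := QuotientGroup.mk'_surjective _
  have hk : kr f = U ⊓ centralizer (Ores p L : Set G) := by
    rw [kr, QuotientGroup.ker_mk', map_subgroupOf_eq_of_le (inf_le_left.trans hUL)]
  have hkU : kr f ≤ U := hk.le.trans inf_le_left
  have nm : ∀ X : Subgroup G, L ≤ normalizer (X : Set G) → (im f X).Normal := fun X h =>
    normal_of_top_le ((im_self f hf).ge.trans (im_le_normalizer f h))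
  have := nm U hn
  obtain ⟨W, a1, a2, a3, a4⟩ := H1.exists_minimal_normal_le (im f U) fun e =>
    nc (le_centralizer_iff.1 ((((im_eq_bot_iff f hUL).1 e).trans hk.le).trans inf_le_right))
  have b1 : pre f W ≤ U := (pre_mono f a3).trans (by rw [pre_im f hUL, sup_eq_left.2 hkU])
  have b2 := im_pre_surj f hf W
  have b3 : pre f (im f M) = M := by rw [pre_im f hM.lt.le, sup_eq_left.2 (hkU.trans (hU.trans hYM))]
  have b4 : pre f (im f M).normalCore ≤ M := (pre_mono f (normalCore_le _)).trans b3.le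
  have b5 : L ≤ normalizer (pre f (im f M).normalCore : Set G) := le_normalizer_pre f le_rfl (le_top.trans (top_le_normalizer _))
  have pW : IsPGroup p W := (isPGroup_im f ((Op_p p L).to_le hU)).to_le a3
  have key : FF W (im f A) (im f (Op p L)) (im f M) := by
    refine ⟨a1, a3.trans ((im_le_centralizer f (hU.trans hc)).trans (centralizer_anti a3)), a4, fun h => a2 ?_, ?_,
      fun g h => ?_, nm _ (le_normalizer_Op p L), (im_le_centralizer f hc).trans (centralizer_anti a3), ?_, ?_⟩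
    · have c1 : ⁅pre f W, L⁆ ≤ kr f := (im_le_centralizer_iff f (pre_le f W) le_rfl).1 (by
        rw [b2]; exact h.trans (center_le_centralizer _))
      have c2 := commutator_Ores_ccomm (R := L) (((Op_p p L).to_le hU).to_le b1)
        (le_normalizer_pre f le_rfl (le_top.trans (top_le_normalizer _)))
      rw [le_centralizer_iff'.1 (((commutator_mono le_rfl (Ores_le p L)).trans c1).trans (hk.le.trans inf_le_right))] at c2
      rw [← b2, im_eq_bot_iff f (pre_le f W), hk]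
      exact le_inf b1 (le_centralizer_iff'.2 c2.symm)
    · rw [← im_sup f hAL (Op_le p L), ← im_self f hf]
      refine ⟨im_mono f hM.le, lt_of_le_of_ne (im_mono f hM.lt.le) fun e => hM.lt.ne ?_, fun X h1 h2 => ?_⟩
      · rw [← b3, e, im_self f hf, pre_top]
      · rw [← im_pre_surj f hf X]
        refine im_mono f (hM.max _ ((im_le_iff f (hM.le.trans hM.lt.le)).1 h1) (lt_of_le_of_ne (pre_le f X) fun e => h2.ne ?_))
        rw [← im_pre_surj f hf X, e]
    · obtain ⟨x, rfl⟩ := hf g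
      rw [← im_cj, ← im_sup f hAL (cj_le_iff.2 (hAL.trans (cj_eq_of_mem (inv_mem x.2)).ge)), ← im_sup f _ (Op_le p L),
        hg x x.2 fun e => h (mem_im_of_mem f e), im_self f hf]
      exact le_sup_left.trans (hg x x.2 fun e => h (mem_im_of_mem f e)).le
    · rw [← b2, ← im_commutator f (pre_le f W) hAL]
      exact im_le_centralizer f ((commutator_mono b1 le_rfl).trans (le_centralizer_iff'.2 hq))
    · rw [← H1.card_inf_mul_relIndex (centralizer (im f A : Set _)) W, inf_comm _ W]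
      refine Nat.mul_le_mul_left _ ?_
      have c1 := le_Op (inf_le_left.trans hT.le) (hM.le_normalizer_inf hT (sup_le hA hT.Op_le) b4 b5) (hT.isP.to_le inf_le_left)
      calc _ = ((centralizer (im f A : Set _)).comap f).relIndex ((pre f W).subgroupOf L) := by rw [relIndex_comap, ← im, b2]
        _ ≤ ((centralizer (A : Set G)).subgroupOf L).relIndex ((pre f W).subgroupOf L) := relIndex_le_of_le_left
          (map_le_iff_le_comap.1 (im_le_centralizer f le_rfl)) index_ne_zero_of_finite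
        _ ≤ (centralizer (A : Set G)).relIndex U := by
          rw [relIndex_subgroupOf (pre_le f W)]; exact relIndex_le_of_le_right b1 index_ne_zero_of_finite
        _ ≤ (pre f (im f M).normalCore ⊓ A).relIndex A := off.trans (relIndex_le_of_le_left
          (fun a ha => c1 ⟨hA ha.2, ha.1⟩) index_ne_zero_of_finite)
        _ = _ := by rw [inf_relIndex_right, ← relIndex_subgroupOf hAL, subgroupOf_pre, relIndex_comap]; rfl
  refine ⟨Sect.of_section f hf (sect_of_gqd (key.gqd pW)), fun hp2 => ⟨_, b4, b5, fun h => key.core_not_le pW hp2 ?_⟩⟩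
  rw [← im_pre_surj f hf (im f M).normalCore]
  exact (im_le_centralizer f h).trans (centralizer_anti a3)

/-- failure of factorization in a minimal parabolic group -/
theorem main {G : Type u} [Group G] [Finite G] {S M V Z A : Subgroup G} (hS : Syl p S ⊤) (hM : UM S M ⊤) [V.Normal]
    (hV : V ≤ Zc (Op p ⊤)) (hZ : Z ≤ V) (hZS : Z ≤ centralizer (S : Set G)) (hC : centralizer (Z : Set G) ≤ M)
    (hA : A ≤ S) (hAQ : ¬ A ≤ Op p ⊤) (hq : ⁅⁅V, A⁆, A⁆ = ⊥) (hab : A ≤ centralizer (A : Set G))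
    (off : ∀ U ≤ V, ∀ B ≤ A, B ≤ centralizer (U : Set G) → Nat.card (B ⊔ U : Subgroup G) ≤ Nat.card A) :
    Sect (qd p) (⊤ : Subgroup G) ∧ (p ≠ 2 → ¬ M ≤ centralizer (Z : Set G)) := by
  obtain ⟨L, g, a1, a2, a3⟩ := l_lemma hS (hS.mn hM fun e => hAQ (hA.trans (hS.eq_Op e).le)).gen hM hA hAQ
  have hAL := le_sup_left.trans a1
  obtain ⟨T, b1, b2⟩ := exists_syl_ge (isP_sup (hS.isP.to_le hA) (Op_p p L) (hAL.trans (le_normalizer_Op p L)))
    (a2.le.trans a2.lt.le)
  have b3 : T ≤ L ⊓ cj g M := a2.max T b2 (lt_of_le_of_ne b1.le fun e => a2.lt.not_ge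
    ((le_Op le_rfl le_normalizer (e ▸ b1.isP)).trans (le_sup_right.trans a2.le)))
  obtain ⟨m, c1, c2⟩ := ((hS.mono hM.le le_top).cj g).exists_le_cj b1.isP (b3.trans inf_le_right)
  rw [← cj_mul] at c2
  have c3 : cj (m * g) M = cj g M := by rw [cj_mul, cj_eq_of_mem c1]
  have c4 : T ≤ centralizer (cj (m * g) Z : Set G) := c2.trans (by
    rw [← cj_centralizer]; exact cj_mono _ (le_centralizer_iff.1 hZS))
  have c5 : ncl (cj (m * g) Z) L ≤ V := ncl_le ((cj_mono _ hZ).trans (cj_eq_of_normal _ V).le)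
    (le_top.trans (top_le_normalizer V))
  have c6 : V ≤ Op p L := le_Op (hV.trans (inf_le_left.trans (le_sup_right.trans a1))) (le_top.trans (top_le_normalizer V))
    ((Op_p p ⊤).to_le (hV.trans inf_le_left))
  have c7 : Op p L ≤ centralizer (ncl (cj (m * g) Z) L : Set G) := le_centralizer_iff.1
    (ncl_le_centralizer (le_centralizer_iff.1 (b1.Op_le.trans c4)) (le_normalizer_Op p L))
  obtain ⟨d1, d2⟩ := exists_FF a2 a3 b1 (le_sup_left.trans b2) (le_normalizer_ncl _ L) (c5.trans c6) c7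
    (eq_bot_iff.2 ((commutator_mono (commutator_mono c5 le_rfl) le_rfl).trans hq.le)) (by
      generalize ncl (cj (m * g) Z) L = U at c5 c7
      have e1 := off U c5 (Op p L ⊓ A) inf_le_right (inf_le_left.trans c7)
      have e2 := card_sup_mul_card_inf ((inf_le_left.trans c7 : Op p L ⊓ A ≤ _).trans (centralizer_le_normalizer' U))
      have e3 := H1.card_inf_mul_relIndex (Op p L) A
      have e4 := H1.card_inf_mul_relIndex (centralizer (A : Set G)) U
      have e5 := card_le_of_le (inf_le_inf_right U (inf_le_right.trans hab) : Op p L ⊓ A ⊓ U ≤ _)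
      have e6 := Nat.mul_le_mul e1 e5
      rw [e2, ← e3, ← e4, mul_assoc, mul_comm (relIndex _ A)] at e6
      exact Nat.le_of_mul_le_mul_left (Nat.le_of_mul_le_mul_left e6 Nat.card_pos) Nat.card_pos)
    fun e => a2.lt.not_ge (le_inf le_rfl (b1.Ores_sup.ge.trans ((sup_le (e.trans (centralizer_anti (le_ncl _ _))) c4).trans
      (by rw [← cj_centralizer, ← c3]; exact cj_mono _ hC))))
  refine ⟨d1.mono le_top, fun hp2 h => ?_⟩
  obtain ⟨K, e1, e2, e3⟩ := d2 hp2
  refine e3 (le_centralizer_iff.1 (ncl_le_centralizer (le_centralizer_iff.1 (e1.trans (inf_le_right.trans ?_))) e2))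
  rw [← cj_centralizer, ← c3]; exact cj_mono _ h

/-- Glauberman's weak closure theorem, local form -/
theorem central_of_JA {G : Type u} [Group G] [Finite G] {S : Subgroup G} (hS : Syl p S ⊤)
    (h : p ≠ 2 ∨ ¬ Sect (qd p) (⊤ : Subgroup G)) {z : G} (hz : z ∈ Op p ⊤)
    (hN : z ∈ centralizer (normalizer (JA S : Set G) : Set G)) : z ∈ center G := by
  refine card_induction (P := fun Δ _ _ => (p ≠ 2 ∨ ¬ Sect (qd p) (⊤ : Subgroup Δ)) → ∀ S : Subgroup Δ, Syl p S ⊤ →
    ∀ z ∈ Op p ⊤, z ∈ centralizer (normalizer (JA S : Set Δ) : Set Δ) → z ∈ center Δ) (fun G _ _ ih h S hS z hz hN => ?_) G h S hS z hz hN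
  by_contra h1
  have hSz : S ≤ centralizer {z} := le_centralizer_singleton_iff.2 (centralizer_anti (normalizer_JA le_normalizer) hN)
  have hM : UM S (centralizer {z}) ⊤ := ⟨hSz, lt_top_iff_ne_top.2 fun e => h1 (mem_center_iff.2 fun g =>
    (e.ge (mem_top g) z rfl).symm), fun X h2 h3 x hx c hc => by
      have hzX := h2 (hS.Op_le hz)
      have := ih.subgroup h3.ne (h.imp id fun h4 h5 => h4 (h5.of_coe.mono le_top)) (S.subgroupOf X)
        (by simpa using (hS.mono h2 le_top).subgroupOf le_rfl) ⟨z, hzX⟩ (le_Op (N := (Op p ⊤).subgroupOf X) le_top (by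
          rw [← subgroupOf_self]; exact subgroupOf_le_normalizer (le_top.trans (le_normalizer_Op p ⊤)))
          ((Op_p p ⊤).comap_of_injective _ X.subtype_injective) hz) fun g hg => Subtype.ext (hN g (by
            have : (g : G) ∈ (normalizer (JA (S.subgroupOf X) : Set X)).map X.subtype := ⟨g, hg, rfl⟩
            rw [map_normalizer_subtype, map_JA X.subtype_injective, map_subgroupOf_eq_of_le h2] at this
            exact this.2))
      rw [hc]; exact (congrArg Subtype.val (mem_center_iff.1 this ⟨x, hx⟩)).symm⟩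
  obtain ⟨A, a1, a2, a3⟩ := JA_quad hS.isP hS.Op_le (le_top.trans (le_normalizer_Op p ⊤)) fun e => h1
    (mem_center_iff.2 fun g => hN g (by rw [← JA_eq_of_le e hS.Op_le]; exact normalizer_JA (le_normalizer_Op p ⊤) (mem_top g)))
  have := normal_of_top_le (normalizer_Zc (le_normalizer_Op p (⊤ : Subgroup G)))
  have hz' := le_centralizer_singleton_iff.1 hSz
  obtain ⟨b1, b2⟩ := main (Z := zpowers z) hS hM le_rfl (zpowers_le.2 ⟨hz, centralizer_anti hS.Op_le hz'⟩) (zpowers_le.2 hz')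
    (centralizer_zpowers z).le a1.1 a2 a3 (le_centralizer_iff'.2 (comm_iff_commutator.1 a1.2.1)) fun U h2 B h3 h4 =>
      a1.2.2 _ (sup_le (h3.trans a1.1) (h2.trans (inf_le_left.trans hS.Op_le))) (comm_iff_commutator.2 (le_centralizer_iff'.1 (by
        rw [centralizer_sup]
        exact sup_le (le_inf (h3.trans ((le_centralizer_iff'.2 (comm_iff_commutator.1 a1.2.1)).trans (centralizer_anti h3))) h4)
          (le_inf (le_centralizer_iff.1 h4) (h2.trans (inf_le_right.trans (centralizer_anti (h2.trans inf_le_left))))))))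
  exact h.elim (fun h => b2 h (centralizer_zpowers z).ge) fun h => h b1

end H2F
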