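import Cfsg.Agent.H2.FF
import Cfsg.Agent.H5.KB
import Cfsg.Agent.H2.Fus26

/-!
H2.FF2: Glauberman's and Thompson's theorems for fusion systems (`p` odd or `S₄`-free).
-/

set_option linter.unusedSectionVars false

namespace FG

open Subgroup Cfsg H2 Equiv Matrix
open scoped Pointwise commutatorElement MatrixGroups

universe u

theorem sect_s4 : H9.Sect (Perm (Fin 4)) (⊤ : Subgroup (qd 2)) := by
  let x : qd 2 := ⟨⟨!![0, 1, 1; 1, 0, 1; 0, 0, 1], by decide⟩, subset_closure ⟨rfl, rfl, rfl⟩⟩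
  let y : qd 2 := ⟨⟨!![0, 1, 0; 1, 1, 0; 0, 0, 1], by decide⟩, subset_closure ⟨rfl, rfl, rfl⟩⟩
  obtain ⟨e⟩ := H5.triS4 (x := x) (y := y) (Subtype.ext (Subtype.ext (by decide))) (Subtype.ext (Subtype.ext (by decide)))
    (Subtype.ext (Subtype.ext (by decide))) fun h => absurd (congrArg (fun t : qd 2 => t.1.1) h) (by decide)
  exact ⟨_, le_top, e.toMonoidHom, e.surjective⟩

theorem involves_s4 {G : Type*} [Group G] (h : Involves (qd 2) G) : Involves (Perm (Fin 4)) G := by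
  obtain ⟨L, -, f, hf⟩ := H9.involves_iff.1 h
  exact H9.involves_iff.2 ((sect_s4.of_section f hf).mono le_top)

variable {Ω : Type u} [Group Ω] {S T P Q R U X : Subgroup Ω} {F : FusionSystem S} {p : ℕ} [hp : Fact p.Prime]
  [Finite S] {σ τ : Perm Ω}

theorem free_of_s4 (hF : Sat p F) (h : p ≠ 2 ∨ F.IsSectionFree p (Perm (Fin 4))) : p ≠ 2 ∨ ¬ FQd p F := by
  rcases eq_or_ne p 2 with rfl | h2
  · exact Or.inr ((free_iff hF).1 fun Q a b N c L _ ι d e => h.resolve_left (by simp) Q a b N c L ι d (involves_s4 e))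
  · exact Or.inl h2

theorem free_of_group {G : Type u} [Group G] [Finite G] (S : Sylow p G) (h : p ≠ 2 ∨ ¬ Involves (Perm (Fin 4)) G) :
    p ≠ 2 ∨ ¬ FQd p (fusionSystemOfSubgroup ⊤ (S : Subgroup G) le_top) := by
  rcases eq_or_ne p 2 with rfl | h2
  · exact Or.inr fun e => h.resolve_left (by simp) (involves_s4 (H9.involves_iff.2
      ((fqd_sub_iff (H9.syl_top_of_sylow S)).1 e)))
  · exact Or.inl h2

theorem center_JA (hF : Sat p F) (h : p ≠ 2 ∨ ¬ FQd p F) {z : Ω} (hz : z ∈ S ⊓ centralizer (S : Set Ω))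
    (h1 : ∀ σ : Perm Ω, Mor F (H9.JA S) σ → σ ∈ Stab (H9.JA S) → σ z = z) : z ∈ F.center := by
  refine weak_fix (W := H9.fJA) H9.char_fJA (fun Q _ _ _ => by
    rw [H9.fJA, ← H9.Zc_top]; exact (H9.Zc_le_ZA _).trans inf_le_left) (fun _ F => p ≠ 2 ∨ ¬ FQd p F)
    (fun S T F E h1 h2 _ => h1.imp id fun h3 h4 => h3 (h4.sub h2)) (fun S _ F G _ _ ι hM h1 h2 h3 => ?_) hF h hz
    (by rwa [H9.iF_fJA])
  rw [H9.iF_fJA] at h3
  exact H2F.central_of_JA (m_syl hM) (h1.imp id fun h4 h5 => h4 ((m_fqd hM).2 (H9.involves_iff.2 h5)))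
    (m_cons' hM (centralizer_le ((m_syl hM).Op_le.trans (H9.normalizer_JA le_normalizer)) h3)) h3

theorem inner_of_thompson (hF : Sat p F) (h : p ≠ 2 ∨ ¬ FQd p F)
    (hC : ∀ A (σ : Perm Ω), Ext F (S ⊓ centralizer (S : Set Ω)) ⊥ A σ → ∃ s ∈ S, ∀ x ∈ A, σ x = s * x * s⁻¹)
    (hN : NI F (H9.JA S)) : IsInner F := fun A σ hσ => by
  refine hC A σ (((isCentral_iff.1 (center_central F)).2 A σ hσ).mono_bot fun z hz => center_JA hF h hz fun τ h1 h2 => ?_)
  obtain ⟨s, h3, h4⟩ := hN _ τ (ext_of_mor h1 le_rfl le_rfl h2 (mem_top _) fun _ _ => rfl)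
  rw [h4 z (Zc_le_JA S hz), hz.2 s h3, mul_inv_cancel_right]

theorem inner_of_all (hF : Sat p F) (h : p ≠ 2 ∨ ¬ FQd p F) (h1 : NI F (S ⊓ centralizer (S : Set Ω)))
    (h2 : NI F (H9.JA S)) : IsInner F :=
  inner_of_thompson hF h (fun A σ h3 => h1 A σ (h3.mono le_top)) h2

theorem cons_of_sparse' (hF : Sat p F) (h : p ≠ 2 ∨ ¬ FQd p F)
    (k : ∀ E : FusionSystem S, Sat p E → E.IsSubsystemOf F → ¬ F.IsSubsystemOf E → IsInner E) (h1 : ¬ IsInner F) :
    S ⊓ centralizer (F.core : Set Ω) ≤ F.core :=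
  cons_of_sparse hF k (fun _ _ S' _ _ _ a1 a2 a3 a4 => by
    have b := inf_centralizer_ne_bot a2.pg le_rfl le_normalizer a3
    exact inner_of_all a2 (h.imp id fun h3 h4 => h3 (h4.lift a1)) (a4 _ inf_le_left (H9.normalizer_Zc le_normalizer) b)
      (a4 _ (H9.JA_le _) (H9.normalizer_JA le_normalizer) fun e => b (eq_bot_iff.2 ((Zc_le_JA S').trans e.le)))) h1

theorem inner_of_char (hF : Sat p F) (h : p ≠ 2 ∨ ¬ FQd p F)
    (hc : ∀ Q ≤ S, Q ≠ ⊥ → (Q.subgroupOf S).Characteristic → IsPGroup p (Aut F Q)) : IsInner F := by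
  revert hF h hc
  refine fs_induction (motive := fun Ω _ S _ F => Sat p F → (p ≠ 2 ∨ ¬ FQd p F) →
    (∀ Q ≤ S, Q ≠ ⊥ → (Q.subgroupOf S).Characteristic → IsPGroup p (Aut F Q)) → IsInner F)
    (fun Ω _ S _ F ih ih2 hF h hc => ?_) Ω S F
  by_cases hS : S = ⊥
  · exact fun A σ hσ => ⟨1, one_mem _, fun x hx => by
      rw [mem_bot.1 (hS.le (hσ.mem hx)), mem_bot.1 (hS.le (hσ.le hx))]; simp⟩
  have cz : ((centralizer (S : Set Ω)).subgroupOf S).Characteristic := by
    rw [H9.subgroupOf_centralizer le_rfl, subgroupOf_self, coe_top, centralizer_univ]; infer_instance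
  have key : ∀ Q ≤ S, S ⊓ centralizer (S : Set Ω) ≤ Q → (Q.subgroupOf S).Characteristic → IsInner F ∨ NI F Q := by
    intro Q a1 a2 a3
    have b := inf_centralizer_ne_bot hF.pg le_rfl le_normalizer hS
    have hn : S ≤ normalizer (Q : Set Ω) := le_normalizer_of_normal_subgroupOf a1
    obtain ⟨E, hE⟩ := exists_isNK_top F a1 hn
    by_cases h1 : F.IsSubsystemOf E
    swap
    · exact Or.inr ((ni_iff hE hn).2 (ih S E hE.sub h1 (N_sat hF (fn_of_normal F a1 hn) hE) (h.imp id fun h3 h4 => h3 (h4.sub hE.sub))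
        fun R c1 c2 c3 => (hc R c1 c2 c3).to_le (Aut_mono_sub hE.sub R)))
    have hQ : F.IsNormal Q := isNormal_iff.2 ⟨a1, fun P σ h => hE.ext (h.sub h1)⟩
    have c1 : S ⊓ centralizer (S : Set Ω) ≤ F.center := fun z hz => central_of_fix1 hF hz.1 fun P σ h2 h3 =>
      fix_of_normal hQ (a2 hz) (fun α hα => by
        obtain ⟨s, d1, d2, rfl⟩ := mem_AutS.1 (((hF.syl (sc_fn (normal_sc hQ))).eq_of_le
          (hc Q a1 (fun e => b (eq_bot_iff.2 (a2.trans e.le))) a3) le_rfl (hF.syl (sc_fn (normal_sc hQ))).1).le hα)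
        rw [cP_apply d2 (a2 hz), hz.2 s d1, mul_inv_cancel_right]) h2 h3
    have c2 : F.StronglyClosed (S ⊓ centralizer (S : Set Ω)) := (c1.antisymm (center_le F)).symm ▸ center_sc F
    haveI := normal_subgroupOf_of (sc_normalizer c2)
    obtain ⟨F', hF'⟩ := exists_quot F (wc_of_sc c2)
    have d := hF.surjM_of_factor hF' c2
    haveI := d.finite
    have d1 : IsInner F' := ih2 _ _ F' (by
        rw [card_top, ← index_eq_card, ← ((S ⊓ centralizer (S : Set Ω)).subgroupOf S).index_mul_card]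
        refine lt_mul_of_one_lt_right (Nat.pos_of_ne_zero index_ne_zero_of_finite) ((one_lt_card_iff_ne_bot _).2 fun e => b ?_)
        rw [← map_subgroupOf_eq_of_le c2.1, e, Subgroup.map_bot]) (d.sat hF) (h.imp id fun h3 h4 => h3 (h4.lift d))
      fun Q' e1 e2 e3 => by
        obtain ⟨Φ, -, e4⟩ := d.exists_indHom (pre_le _ Q')
        have e5 := e4 (pre_mono _ bot_le)
        rw [d.img_pre e1] at e5
        rw [← e5]
        refine (hc _ (pre_le _ Q') (fun e => not_pre_le d e1 e2 (e.le.trans bot_le)) ?_).of_surjective _ Φ.rangeRestrict_surjective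
        haveI : ((S ⊓ centralizer (S : Set Ω)).subgroupOf S).Characteristic := by rwa [inf_subgroupOf_left]
        rw [pre, FusionSystem.preimageAlong, subgroupOf, comap_map_eq_self_of_injective S.subtype_injective]
        refine Characteristic.comap_quotient_mk (characteristic_iff_le_comap.2 fun φ x hx => ?_)
        exact characteristic_iff_le_comap.1 e3 ((topEquiv.trans φ).trans topEquiv.symm) (x := ⟨x, trivial⟩) hx
    refine Or.inl (hF.inner_of_hyp_le_center (le_trans ?_ c1))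
    rw [← pre_mk c2.1, ← img_eq_bot_iff (hyp_le F), ← d.hyp_eq hF]; exact (d.sat hF).inner_iff_hyp.1 d1
  rcases key _ inf_le_left le_rfl (by rwa [inf_subgroupOf_left]) with h1 | h1
  · exact h1
  rcases key _ (H9.JA_le S) (Zc_le_JA S) (by
    rw [← H9.iF_fJA, inducedFunctor, subgroupOf, comap_map_eq_self_of_injective S.subtype_injective]
    exact characteristic_iff_map_eq.2 fun φ => H9.char_fJA.2 _ _ hF.pg φ) with h2 | h2
  · exact h2
  exact inner_of_all hF h h1 h2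

end FG
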