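import Mathlib

/-! Set stabilizers in symmetric groups. -/

namespace Cfsg.Agent.H2H

open MulAction Equiv Subgroup Pointwise

theorem mem_stab {Ω : Type*} {O : Set Ω} {g : Perm Ω} :
    g ∈ stabilizer (Perm Ω) O ↔ ∀ x, g x ∈ O ↔ x ∈ O := by
  rw [mem_stabilizer_set]; rfl

theorem swap_mem {Ω : Type*} [DecidableEq Ω] {O : Set Ω} {x y : Ω} (hx : x ∈ O) (hy : y ∈ O) :
    swap x y ∈ stabilizer (Perm Ω) O := by
  rw [mem_stab]
  intro z
  rw [swap_apply_def]
  split_ifs with h1 h2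
  · simp [h1, hx, hy]
  · simp [h2, hx, hy]
  · rfl

theorem exists_half {Ω : Type*} [Fintype Ω] [DecidableEq Ω] (hΩ : 2 < Fintype.card Ω)
    (O : Set Ω) (hO : Nat.card O = Nat.card ↥Oᶜ) :
    ∃ K : Subgroup (Perm Ω), stabilizer (Perm Ω) O < K ∧ K ≠ ⊤ := by
  classical
  let K : Subgroup (Perm Ω) := {
    carrier := {g | (∀ x, g x ∈ O ↔ x ∈ O) ∨ (∀ x, g x ∈ O ↔ x ∉ O)}
    one_mem' := Or.inl fun _ => Iff.rfl
    mul_mem' := by
      rintro a b (ha | ha) (hb | hb)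
      · exact Or.inl fun x => by simp [ha, hb]
      · exact Or.inr fun x => by simp [ha, hb]
      · exact Or.inr fun x => by simp [ha, hb]
      · exact Or.inl fun x => by simp [ha, hb]
    inv_mem' := by
      rintro a (ha | ha)
      · exact Or.inl fun x => by simpa using (ha (a⁻¹ x)).symm
      · exact Or.inr fun x => by have := ha (a⁻¹ x); simp at this; simp [this] }
  have h2 : 1 < O.ncard := by
    have := Set.ncard_add_ncard_compl O
    have e : O.ncard = Oᶜ.ncard := hO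
    rw [Nat.card_eq_fintype_card] at this
    omega
  obtain ⟨a, ha, c, hc, hac⟩ := (Set.one_lt_ncard_iff).1 h2 |>.imp fun a h => by
    obtain ⟨c, h1, h2, h3⟩ := h
    exact (⟨h1, c, h2, h3⟩ : a ∈ O ∧ ∃ c ∈ O, a ≠ c)
  obtain ⟨e⟩ : Nonempty (O ≃ ↥Oᶜ) := Finite.card_eq.1 hO
  let σ : Perm Ω := (Equiv.Set.sumCompl O).symm.trans (((Equiv.sumCongr e e.symm).trans (Equiv.sumComm _ _)).trans
    (Equiv.Set.sumCompl O))
  have hσ : ∀ x, σ x ∈ O ↔ x ∉ O := by
    intro x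
    by_cases hx : x ∈ O
    · have : (e ⟨x, hx⟩ : Ω) ∉ O := (e ⟨x, hx⟩).2
      simpa [σ, Equiv.Set.sumCompl_symm_apply_of_mem hx, hx] using this
    · have := (e.symm ⟨x, hx⟩).2
      simpa [σ, Equiv.Set.sumCompl_symm_apply_of_notMem hx, hx] using this
  refine ⟨K, lt_of_le_of_ne (fun g hg => Or.inl (mem_stab.1 hg)) fun h => ?_, fun h => ?_⟩
  · have : σ ∈ stabilizer (Perm Ω) O := h ▸ (Or.inr hσ : σ ∈ K)
    exact absurd ((hσ a).1 ((mem_stab.1 this a).2 ha)) (not_not.2 ha)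
  · have hb : (e ⟨a, ha⟩ : Ω) ∉ O := (e ⟨a, ha⟩).2
    rcases (h ▸ mem_top _ : swap a (e ⟨a, ha⟩ : Ω) ∈ K) with h1 | h1
    · exact hb (by simpa using (h1 a).2 ha)
    · have := h1 c
      rw [swap_apply_of_ne_of_ne hac.symm (fun e' => hb (by rw [← e']; exact hc))] at this
      exact this.1 hc hc

theorem coatom_in_stab {Ω : Type*} [Fintype Ω] [DecidableEq Ω] (x : Ω) (O : Set Ω) (hx : x ∈ O)
    (h1 : ∃ y ∈ O, y ≠ x) (h2 : ∃ y, y ∉ O) (h3 : Nat.card Ω + 1 ≠ 2 * O.ncard) :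
    IsCoatom ((stabilizer (Perm Ω) O).subgroupOf (stabilizer (Perm Ω) x)) := by
  classical
  let f : Perm {y // y ≠ x} →* Perm Ω := Perm.ofSubtype
  have hr : f.range = stabilizer (Perm Ω) x := by
    ext g
    rw [Perm.mem_range_ofSubtype_iff, mem_stabilizer_iff]
    refine ⟨fun h => ?_, fun h y hy e => ?_⟩
    · by_contra h'; exact h (Finset.mem_coe.2 (Perm.mem_support.2 h')) rfl
    · subst e; exact Perm.mem_support.1 (Finset.mem_coe.1 hy) h
  let E : Perm {y // y ≠ x} ≃* stabilizer (Perm Ω) x :=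
    (MonoidHom.ofInjective Perm.ofSubtype_injective).trans (MulEquiv.subgroupCongr hr)
  let O' : Set {y // y ≠ x} := Subtype.val ⁻¹' O
  have hc : O'.ncard + 1 = O.ncard := by
    rw [← Set.ncard_image_of_injective O' Subtype.val_injective, ← Set.ncard_diff_singleton_add_one hx]
    congr 2
    ext y; simp [O', and_comm]
  have hc' : Nat.card {y // y ≠ x} + 1 = Nat.card Ω := by
    have : 0 < Fintype.card Ω := Fintype.card_pos_iff.2 ⟨x⟩
    simp [Nat.card_eq_fintype_card]; omega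
  have := Perm.isCoatom_stabilizer (s := O') (by obtain ⟨y, a, b⟩ := h1; exact ⟨⟨y, b⟩, a⟩)
    (by obtain ⟨y, a⟩ := h2; exact ⟨⟨y, fun e => a (e ▸ hx)⟩, a⟩) (by omega)
  rw [← (E.mapSubgroup).isCoatom_iff] at this
  convert this using 1
  ext g
  obtain ⟨g, rfl⟩ := E.surjective g
  have e : E g ∈ E.mapSubgroup (stabilizer _ O') ↔ g ∈ stabilizer _ O' := mem_map_iff_mem E.injective
  rw [e, mem_subgroupOf, mem_stab, mem_stab]
  show (∀ y, Perm.ofSubtype g y ∈ O ↔ y ∈ O) ↔ _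
  refine ⟨fun h y => by simpa [O'] using h y, fun h y => ?_⟩
  by_cases hy : y = x
  · rw [Perm.ofSubtype_apply_of_not_mem _ (by simpa using hy)]
  · rw [Perm.ofSubtype_apply_of_mem (p := fun y => y ≠ x) _ hy]; exact h ⟨y, hy⟩

end Cfsg.Agent.H2H
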