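import Cfsg.Agent.H1.CS
import Cfsg.Agent.H1.Subnormal
import Cfsg.Agent.H9.MS1
import Cfsg.Agent.H9.SPE
import Cfsg.Agent.FT.Pi
import Cfsg.Agent.H3.Galois

/-! H2.KW: the Kegel–Wielandt theorem (products of nilpotent groups are solvable). -/

set_option linter.unusedSectionVars false

namespace H2K

open Subgroup H9 Cfsg
open H1 (Fac)

universe u

section
variable {G : Type*} [Group G] [Finite G] {A B L : Subgroup G}

theorem ne_top_of_normalizer [IsSimpleGroup G] {H : Subgroup G} (h0 : H ≠ ⊥) (h1 : H ≠ ⊤) :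
    normalizer (H : Set G) ≠ ⊤ := fun e => by
  rcases IsSimpleGroup.eq_bot_or_eq_top_of_normal H (normalizer_eq_top_iff.1 e) with h | h
  exacts [h0 h, h1 h]

theorem isPGroup_of_fac {p : ℕ} [Fact p.Prime] (h : Fac A B L) (hA : IsPGroup p A) (hB : IsPGroup p B) :
    IsPGroup p L := by
  obtain ⟨a, ha⟩ := IsPGroup.iff_card.1 hA
  obtain ⟨b, hb⟩ := IsPGroup.iff_card.1 hB
  have := h.card_dvd
  rw [ha, hb, ← pow_add] at this
  obtain ⟨k, -, hk⟩ := (Nat.dvd_prime_pow Fact.out).1 this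
  exact IsPGroup.of_card hk

theorem perm {P Q : Subgroup G} {p q : ℕ} [hp : Fact p.Prime] [hq : Fact q.Prime] (h : Fac A B L)
    (hL : Group.IsSolvable L) (hc : (Nat.card A).Coprime (Nat.card B)) (hP : Syl p P A)
    (hQ : Syl q Q B) (hPn : A ≤ normalizer (P : Set G)) (hQn : B ≤ normalizer (Q : Set G)) :
    Fac P Q (P ⊔ Q) := by
  by_cases h1 : P = ⊥
  · subst h1; rw [bot_sup_eq]; exact (H1.fac_of_le bot_le).symm
  by_cases h2 : Q = ⊥
  · subst h2; rw [sup_bot_eq]; exact H1.fac_of_le bot_le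
  have hpA : p ∣ Nat.card A := (dvd_card_of_isPGroup hP.isP h1).trans (card_dvd_of_le hP.le)
  have hqB : q ∣ Nat.card B := (dvd_card_of_isPGroup hQ.isP h2).trans (card_dvd_of_le hQ.le)
  obtain ⟨H, hH, hQH⟩ := FT.exists_hall_ge (π := {p, q}) hL (FT.piG_of_p hQ.isP (by simp))
    (hQ.le.trans h.right)
  obtain ⟨g, hg, h3⟩ := hH.exists_cj_le hL (FT.piG_of_p hP.isP (by simp)) (hP.le.trans h.left)
  obtain ⟨b, hb, a, ha, rfl⟩ := h.symm.ex g hg
  rw [cj_mul, mem_normalizer_iff_cj.1 (hPn ha), cj_le_iff] at h3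
  have h4 : Q ≤ cj b⁻¹ H := by
    rw [← mem_normalizer_iff_cj.1 (hQn (inv_mem hb))]; exact cj_mono _ hQH
  have h5 : FT.PiG {p, q} (P ⊔ Q) := (hH.pi.cj b⁻¹).le (sup_le h3 h4)
  have h6 : Nat.card (P ⊔ Q : Subgroup G) ∣ Nat.card A * Nat.card B :=
    (card_dvd_of_le (sup_le (hP.le.trans h.left) (hQ.le.trans h.right))).trans h.card_dvd
  have eA := (P.subgroupOf A).card_mul_index
  have eB := (Q.subgroupOf B).card_mul_index
  rw [card_subgroupOf hP.le] at eA
  rw [card_subgroupOf hQ.le] at eB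
  have h7 : (Nat.card (P ⊔ Q : Subgroup G)).Coprime (P.relIndex A * Q.relIndex B) := by
    refine Nat.coprime_of_dvd fun r hr h1 h2 => ?_
    have := h5 r hr h1
    have d1 : P.relIndex A ∣ Nat.card A := Dvd.intro_left _ eA
    have d2 : Q.relIndex B ∣ Nat.card B := Dvd.intro_left _ eB
    rcases (Nat.Prime.dvd_mul hr).1 h2 with h3 | h3 <;> rcases this with rfl | rfl
    · exact hP.not_dvd h3
    · exact hr.one_lt.ne' (Nat.eq_one_of_dvd_coprimes hc (h3.trans d1) hqB)
    · exact hr.one_lt.ne' (Nat.eq_one_of_dvd_coprimes hc hpA (h3.trans d2))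
    · exact hQ.not_dvd h3
  have h8 : Nat.card (P ⊔ Q : Subgroup G) ∣ Nat.card P * Nat.card Q := by
    refine h7.dvd_of_dvd_mul_right ?_
    rw [← eA, ← eB] at h6
    convert h6 using 1
    unfold relIndex; ring
  refine H1.fac_of_card_le le_sup_left le_sup_right ?_
  have : P ⊓ Q = ⊥ := H1.inf_eq_bot_of_coprime
    ((hc.coprime_dvd_left (card_dvd_of_le hP.le)).coprime_dvd_right (card_dvd_of_le hQ.le))
  rw [this, card_bot, mul_one]
  exact Nat.le_of_dvd (Nat.mul_pos Nat.card_pos Nat.card_pos) h8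

theorem nil_le {H K : Subgroup G} (h : Group.IsNilpotent K) (hle : H ≤ K) : Group.IsNilpotent H :=
  nilpotent_of_mulEquiv (subgroupOfEquivOfLe hle)

theorem sol_le {H K : Subgroup G} (h : Group.IsSolvable K) (hle : H ≤ K) : Group.IsSolvable H :=
  solvable_of_solvable_injective (inclusion_injective hle)

theorem syl_top_of_fac {p : ℕ} [hp : Fact p.Prime] (h : Fac A B L) (hA : Group.IsNilpotent A)
    (hB : ¬ p ∣ Nat.card B) : Syl p (Op p A) L :=
  (syl_Op_of_nilpotent hA).trans_index h.left fun hd => hB (hd.trans h.relIndex_dvd')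

theorem exists_central {p : ℕ} [hp : Fact p.Prime] (hA : Group.IsNilpotent A) (h : p ∣ Nat.card A) :
    ∃ a ∈ A, a ∈ centralizer (A : Set G) ∧ orderOf a = p := by
  have h1 : Op p A ≠ ⊥ := (syl_Op_of_nilpotent hA).ne_bot h
  have h2 := inf_centralizer_ne_bot_of_nilpotent hA (Op_le p A) (le_normalizer_Op p A) h1
  obtain ⟨a, ha, e⟩ := exists_orderOf_eq_of_isPGroup (Op_p p A).to_inf_left h2
  exact ⟨a, Op_le p A ha.1, ha.2, e⟩

theorem Op'_ne_bot [IsSimpleGroup G] (hns : ¬ Group.IsSolvable G) (h : Fac A B ⊤)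
    (hA : Group.IsNilpotent A) (hB : Group.IsNilpotent B) (r : ℕ) [Fact r.Prime] : Op' r B ≠ ⊥ := by
  intro e
  have h1 := nilpotent_eq_Op_sup_Op' (p := r) hB
  rw [e, sup_bot_eq] at h1
  have hBp : IsPGroup r B := h1 ▸ Op_p r B
  by_cases hA0 : A = ⊥
  · subst hA0
    have := h.symm.eq_of_le bot_le
    exact hns (H1.isSolvable_of_eq_top (by infer_instance) this)
  obtain ⟨p, hp, hd⟩ := FT.exists_prime_dvd_card hA0
  haveI := Fact.mk hp
  obtain ⟨a, ha, hc, ho⟩ := exists_central hA hd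
  obtain ⟨k, hk⟩ := IsPGroup.iff_card.1 hBp
  have h2 : (centralizer ({a} : Set G)).index ∣ r ^ k := by
    rw [← hk]
    refine (index_dvd_of_le (le_centralizer_singleton_iff.2 hc)).trans ?_
    rw [← relIndex_top_right]; exact h.relIndex_dvd'
  obtain ⟨j, -, hj⟩ := (Nat.dvd_prime_pow Fact.out).1 h2
  have := H3.burnside_prime_power_class Fact.out (g := a) (by rintro rfl; simp at ho; exact hp.one_lt.ne ho) hj
  haveI := Fact.mk this
  haveI := isCyclic_of_prime_card (α := G) rfl
  exact hns (isSolvable_of_comm (fun a b => IsCyclic.commGroup.mul_comm a b))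

theorem core [IsSimpleGroup G] (h : Fac A B ⊤) (hA : Group.IsNilpotent A) (hB : Group.IsNilpotent B)
    (hc : (Nat.card A).Coprime (Nat.card B)) (h2 : 2 ∣ Nat.card A)
    (ih : ∀ N : Subgroup G, N ≠ ⊤ → Fac (N ⊓ A) (N ⊓ B) N → Group.IsSolvable N) :
    Group.IsSolvable G := by
  by_contra hns
  have step : ∀ E S : Subgroup G, E ≤ A → S ≤ B → A ≤ normalizer (E : Set G) →
      B ≤ normalizer (S : Set G) → E ≠ ⊥ → E ⊔ S ≠ ⊤ → ∃ N : Subgroup G, E ≤ N ∧ S ≤ N ∧
      Group.IsSolvable N ∧ Fac (N ⊓ A) (N ⊓ B) N ∧ ∀ (p q : ℕ) [Fact p.Prime] [Fact q.Prime],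
        Fac (Op p (N ⊓ A)) (Op q (N ⊓ B)) (Op p (N ⊓ A) ⊔ Op q (N ⊓ B)) := by
    intro E S h1 h2 h3 h4 h5 h6
    have f := h.normalizer_sup h3 h4
    rw [inf_top_eq] at f
    have hN := ih _ (ne_top_of_normalizer (fun e => h5 (eq_bot_iff.2 (le_sup_left.trans e.le))) h6) f
    refine ⟨_, le_sup_left.trans le_normalizer, le_sup_right.trans le_normalizer, hN, f,
      fun p q _ _ => perm f hN ((hc.coprime_dvd_left (card_dvd_of_le inf_le_right)).coprime_dvd_right
        (card_dvd_of_le inf_le_right)) (syl_Op_of_nilpotent (nil_le hA inf_le_right))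
        (syl_Op_of_nilpotent (nil_le hB inf_le_right)) (le_normalizer_Op _ _) (le_normalizer_Op _ _)⟩
  have opeq : ∀ (p : ℕ) [Fact p.Prime] (X N : Subgroup G), Group.IsNilpotent X → Op p X ≤ N →
      Op p (N ⊓ X) = Op p X := fun p _ X N hX hle =>
    (((syl_Op_of_nilpotent hX).mono (le_inf hle (Op_le p X)) inf_le_right).eq_Op
      (inf_le_right.trans (le_normalizer_Op p X))).symm
  have cop : ∀ (p q : ℕ) [Fact p.Prime] [Fact q.Prime] (X : Subgroup G), p ≠ q → Op p X ≤ Op' q X :=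
    fun p q _ _ X hpq => le_Op' (Op_le p X) (le_normalizer_Op p X) (cop_of_isPGroup_ne hpq (Op_p p X))
  have cen : ∀ (p : ℕ) [Fact p.Prime] (X : Subgroup G), Op' p X ≤ centralizer (Op p X : Set G) :=
    fun p _ X => le_centralizer_iff.1 (commutator_eq_bot_iff_le_centralizer.1 (commutator_Op_Op' X))
  obtain ⟨a, haA, haZ, ha⟩ := exists_central hA h2
  have ha1 : a ≠ 1 := by rintro rfl; simp at ha
  have haa : a * a = 1 := by rw [← pow_two, ← ha, pow_orderOf_eq_one]
  have hO : pCore 2 G = ⊥ := by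
    rcases IsSimpleGroup.eq_bot_or_eq_top_of_normal (pCore 2 G) inferInstance with e | e
    · exact e
    · have := (pCore_p (G := G) 2).isNilpotent
      exact absurd (H1.isSolvable_of_eq_top (by infer_instance) e) hns
  obtain ⟨x, hx1, hxo, hxa⟩ := H1.exists_inverted_of_notMem haa (by rw [hO]; simpa using ha1)
  obtain ⟨r, hr, hrd⟩ := Nat.exists_prime_and_dvd (n := orderOf x) (by simpa using hx1)
  haveI := Fact.mk hr
  have hr2 : r ≠ 2 := by rintro rfl; exact (Nat.not_even_iff_odd.2 hxo) (even_iff_two_dvd.2 hrd)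
  obtain ⟨y, hy, hya⟩ : ∃ y : G, orderOf y = r ∧ a * y * a⁻¹ = y⁻¹ :=
    ⟨x ^ (orderOf x / r), orderOf_pow_orderOf_div (orderOf_pos x).ne' hrd, by
      rw [← conj_pow, hxa, inv_pow]⟩
  have hyn : ∀ y : G, a * y * a⁻¹ = y⁻¹ → a ∈ normalizer (zpowers y : Set G) := fun y e => by
    rw [mem_normalizer_iff_cj, cj_zpowers, e, zpowers_inv]
  have hB2 : ¬ 2 ∣ Nat.card B := fun hd => absurd (Nat.eq_one_of_dvd_coprimes hc h2 hd) (by norm_num)
  by_cases hrB : r ∣ Nat.card B
  swap
  · obtain ⟨g, -, hg⟩ := (syl_top_of_fac h hA hrB).exists_le_cj (isPGroup_zpowers_of_orderOf hy) le_top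
    have hT := (syl_top_of_fac h hA hB2).cj_of_mem (g := g) (le_normalizer (mem_top _))
    have hTC : cj g (Op 2 A) ≤ centralizer (zpowers y : Set G) := by
      refine le_trans ?_ (centralizer_anti hg)
      rw [← cj_centralizer]
      exact cj_mono g ((cop 2 r A hr2.symm).trans (cen r A))
    obtain ⟨n, hn, h3⟩ := (hT.mono (hTC.trans (centralizer_le_normalizer' _)) le_top).exists_le_cj
      (isPGroup_zpowers_of_orderOf ha) (zpowers_le_of_mem (hyn y hya))
    have h4 := h3.trans (cj_mono n hTC)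
    rw [mem_normalizer_iff_cj.1 (normalizer_centralizer le_rfl hn)] at h4
    have h5 := comm_of_mem_centralizer (h4 (mem_zpowers a)) (mem_zpowers y)
    rw [← h5, mul_inv_cancel_right] at hya
    have : orderOf y ∣ 2 := orderOf_dvd_of_pow_eq_one (by rw [pow_two]; nth_rewrite 1 [hya]; simp)
    rw [hy] at this
    exact hr2 ((Nat.prime_dvd_prime_iff_eq hr Nat.prime_two).1 this)
  have hrA : ¬ r ∣ Nat.card A := fun hd => hr.one_lt.ne' (Nat.eq_one_of_dvd_coprimes hc hd hrB)
  obtain ⟨y, hy, hya, hyB⟩ : ∃ y : G, orderOf y = r ∧ a * y * a⁻¹ = y⁻¹ ∧ y ∈ Op r B := by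
    obtain ⟨g, -, hg⟩ := (syl_top_of_fac h.symm hB hrA).exists_cj_le (isPGroup_zpowers_of_orderOf hy) le_top
    obtain ⟨b, hb, c, hc, rfl⟩ := h.symm.ex g (mem_top _)
    rw [cj_mul, cj_le_iff, mem_normalizer_iff_cj.1 (le_normalizer_Op r B (inv_mem hb)), cj_zpowers] at hg
    refine ⟨c * y * c⁻¹, by rw [← hy]; exact (MulAut.conj c).orderOf_eq y, ?_, hg (mem_zpowers _)⟩
    have := comm_of_mem_centralizer haZ hc
    calc a * (c * y * c⁻¹) * a⁻¹ = (a * c) * y * (a * c)⁻¹ := by group
      _ = c * (a * y * a⁻¹) * c⁻¹ := by rw [← this]; group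
      _ = _ := by rw [hya]; group
  have hy0 : zpowers y ≠ ⊥ := by
    rw [Ne, zpowers_eq_bot]; rintro rfl; simp at hy; exact hr.one_lt.ne hy
  have pne : ∀ (p : ℕ) [Fact p.Prime] (U : Subgroup G), IsPGroup p U → U ≠ ⊥ →
      normalizer (U : Set G) ≠ ⊤ := fun p _ U hU h0 => ne_top_of_normalizer h0 (fun e => by
    have := hU.isNilpotent
    exact hns (H1.isSolvable_of_eq_top (by infer_instance) e))
  have hza : A ≤ normalizer (zpowers a : Set G) :=
    (le_centralizer_iff.1 (zpowers_le_of_mem haZ)).trans (centralizer_le_normalizer' _)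
  have hza0 : zpowers a ≠ ⊥ := by simpa using ha1
  obtain ⟨N, hN1, hN2, hNs, hNf, hNp⟩ := step (zpowers a) (Op' r B) (zpowers_le_of_mem haA) (Op'_le r B)
    hza (le_normalizer_Op' r B) hza0 (fun e => pne r _ (isPGroup_zpowers_of_orderOf hy) hy0 (by
      rw [eq_top_iff, ← e]
      exact sup_le (zpowers_le_of_mem (hyn y hya)) (((cen r B).trans
        (centralizer_anti (zpowers_le_of_mem hyB))).trans (centralizer_le_normalizer' _))))
  obtain ⟨s, hs, hsd⟩ := FT.exists_prime_dvd_card (Op'_ne_bot hns h hA hB r)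
  haveI := Fact.mk hs
  have hsr : s ≠ r := by rintro rfl; exact cop_iff.1 (Op'_cop s B) hsd
  have hsB : s ∣ Nat.card B := hsd.trans (card_dvd_of_le (Op'_le r B))
  have hS0 : Op s B ≠ ⊥ := (syl_Op_of_nilpotent hB).ne_bot hsB
  have f1 := hNp 2 s
  rw [opeq s B N hB ((cop s r B hsr).trans hN2)] at f1
  set T := Op 2 (N ⊓ A) with hT
  have hTN : T ≤ N ⊓ A := Op_le _ _
  have haT : zpowers a ≤ T := le_Op (le_inf hN1 (zpowers_le_of_mem haA)) (inf_le_right.trans hza)
    (isPGroup_zpowers_of_orderOf ha)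
  have hK : T ⊔ Op s B ≤ N := sup_le (hTN.trans inf_le_left) ((cop s r B hsr).trans hN2)
  have hs2 : s ≠ 2 := by rintro rfl; exact hB2 hsB
  have hT2 : Syl 2 T (T ⊔ Op s B) := ⟨le_sup_left, Op_p _ _, fun hd =>
    hB2 ((hd.trans f1.relIndex_dvd').trans (card_dvd_of_le (Op_le s B)))⟩
  have hS2 : Syl s (Op s B) (T ⊔ Op s B) := ⟨le_sup_right, Op_p _ _, fun hd =>
    cop_iff.1 (cop_of_isPGroup_ne hs2.symm (Op_p 2 (N ⊓ A))) (hd.trans f1.relIndex_dvd)⟩
  by_cases hU : Op 2 (T ⊔ Op s B) = ⊥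
  · have hV : Op s (T ⊔ Op s B) ≠ ⊥ := by
      intro hV
      have hF : Fit (T ⊔ Op s B) = ⊥ := by
        rw [eq_bot_iff]
        refine Fit_le_of_forall_Op fun q _ => ?_
        by_contra hq
        have := ((dvd_card_of_isPGroup (Op_p q _) (fun e => hq e.le)).trans
          (card_dvd_of_le (Op_le q _))).trans f1.card_dvd
        rcases (Nat.Prime.dvd_mul Fact.out).1 this with h3 | h3
        · have : q = 2 := by
            by_contra hne
            exact cop_iff.1 (cop_of_isPGroup_ne (Ne.symm hne) (Op_p 2 (N ⊓ A))) h3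
          subst this; exact hq hU.le
        · have : q = s := by
            by_contra hne
            exact cop_iff.1 (cop_of_isPGroup_ne (Ne.symm hne) (Op_p s B)) h3
          subst this; exact hq hV.le
      have := centralizer_Fit_le_of_solvable (sol_le hNs hK)
      rw [hF] at this
      exact hS0 (eq_bot_iff.2 (le_trans (le_inf le_sup_right (le_centralizer_iff.1 bot_le)) this))
    have h3 : B ≤ normalizer (Op s (T ⊔ Op s B) : Set G) := by
      conv_lhs => rw [← nilpotent_eq_Op_sup_Op' (p := s) hB]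
      exact sup_le (le_sup_right.trans (le_normalizer_Op _ _))
        (((cen s B).trans (centralizer_anti hS2.Op_le)).trans (centralizer_le_normalizer' _))
    have h4 := (h.mono le_rfl h3 le_top le_top).normalClosure_le hza
      ((haT.trans le_sup_left).trans (le_normalizer_Op _ _))
    rcases IsSimpleGroup.eq_bot_or_eq_top_of_normal (normalClosure (zpowers a : Set G)) inferInstance
      with e | e
    · exact hza0 (eq_bot_iff.2 (le_normalClosure.trans e.le))
    · exact pne s _ (Op_p _ _) hV (eq_top_iff.2 (e.ge.trans h4))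
  · have hE := Op'_ne_bot hns h.symm hB hA 2
    have hUA : Op 2 (T ⊔ Op s B) ≤ Op 2 A :=
      hT2.Op_le.trans ((sn_of_nilpotent hA (hTN.trans inf_le_right)).le_Op (Op_p _ _))
    have hne : Op' 2 A ⊔ Op s B ≠ ⊤ := fun e => pne 2 _ (Op_p _ _) hU (by
      rw [eq_top_iff, ← e]
      exact sup_le (((cen 2 A).trans (centralizer_anti hUA)).trans (centralizer_le_normalizer' _))
        (le_sup_right.trans (le_normalizer_Op _ _)))
    obtain ⟨M, hM1, hM2, -, -, hMp⟩ := step (Op' 2 A) (Op s B) (Op'_le _ _) (Op_le _ _)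
      (le_normalizer_Op' _ _) (le_normalizer_Op _ _) hE hne
    obtain ⟨p, hp, hpd⟩ := FT.exists_prime_dvd_card hE
    haveI := Fact.mk hp
    have hp2 : p ≠ 2 := by rintro rfl; exact cop_iff.1 (Op'_cop 2 A) hpd
    have hP0 : Op p A ≠ ⊥ := (syl_Op_of_nilpotent hA).ne_bot (hpd.trans (card_dvd_of_le (Op'_le _ _)))
    have f2 := hMp p s
    rw [opeq s B M hB hM2, opeq p A M hA ((cop p 2 A hp2).trans hM1)] at f2
    obtain ⟨K, hK1, hK2, hK3⟩ := H1.kegel (A := Op p A) (B := Op s B) (fun x => by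
      obtain ⟨g, -, e1, e2⟩ := h.exists_conj_smul (le_normalizer_Op p A) (le_normalizer_Op s B)
        (mem_top 1) (mem_top x)
      rw [map_one, one_smul] at e1
      have := (f2.smul g).sup
      rwa [← e1, ← e2] at this) (fun e => hne (eq_top_iff.2 (e.ge.trans
        (sup_le_sup_right (cop p 2 A hp2) _))))
    rcases IsSimpleGroup.eq_bot_or_eq_top_of_normal K hK1 with e | e
    · subst e
      rcases hK3 with h3 | h3
      exacts [hP0 (eq_bot_iff.2 h3), hS0 (eq_bot_iff.2 h3)]
    · exact hK2 e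

theorem fac_subgroupOf {K : Subgroup G} (h : Fac A B K) (hK : K ≤ L) :
    Fac (A.subgroupOf L) (B.subgroupOf L) (K.subgroupOf L) :=
  ⟨subgroupOf_mono L h.left, subgroupOf_mono L h.right, fun g hg => by
    obtain ⟨a, ha, b, hb, e⟩ := h.ex g hg
    exact ⟨⟨a, hK (h.left ha)⟩, ha, ⟨b, hK (h.right hb)⟩, hb, Subtype.ext e⟩⟩

theorem nil_subgroupOf (h : Group.IsNilpotent A) (hA : A ≤ L) : Group.IsNilpotent (A.subgroupOf L) :=
  nilpotent_of_mulEquiv (subgroupOfEquivOfLe hA).symm

theorem nil_map {G' : Type*} [Group G'] (f : G →* G') (h : Group.IsNilpotent A) :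
    Group.IsNilpotent (A.map f) :=
  nilpotent_of_surjective (f.subgroupMap A) (f.subgroupMap_surjective A)

theorem sol_of_normal (N : Subgroup G) [N.Normal] (h1 : Group.IsSolvable N)
    (h2 : Group.IsSolvable (G ⧸ N)) : Group.IsSolvable G :=
  solvable_of_ker_le_range N.subtype (QuotientGroup.mk' N) (by simp)

theorem card_quot_lt (N : Subgroup G) [N.Normal] (h : N ≠ ⊥) : Nat.card (G ⧸ N) < Nat.card G := by
  have h1 := N.card_mul_index
  have h2 : 1 < Nat.card N := (one_lt_card_iff_ne_bot N).2 h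
  have h3 : 0 < N.index := Nat.pos_of_ne_zero index_ne_zero_of_finite
  show N.index < _
  nlinarith

theorem card_sub_lt {N : Subgroup G} (h : N ≠ ⊤) : Nat.card N < Nat.card G := by
  have := card_lt_of_lt (lt_top_iff_ne_top.2 h)
  rwa [card_top] at this

end

theorem coprime_aux (n : ℕ) : ∀ (G : Type u) [Group G] [Finite G], Nat.card G ≤ n →
    ∀ A B : Subgroup G, Group.IsNilpotent A → Group.IsNilpotent B →
    (Nat.card A).Coprime (Nat.card B) → Fac A B ⊤ → Group.IsSolvable G := by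
  induction n with
  | zero => intro G _ _ h; exact absurd (Nat.card_pos (α := G)) (by omega)
  | succ n ih =>
    intro G _ _ hn A B hA hB hc h
    have ih1 : ∀ N : Subgroup G, N ≠ ⊤ → Fac (N ⊓ A) (N ⊓ B) N → Group.IsSolvable N := by
      intro N hN f
      refine ih N (by have := card_sub_lt hN; omega) _ _ (nil_subgroupOf (nil_le hA inf_le_right) inf_le_left)
        (nil_subgroupOf (nil_le hB inf_le_right) inf_le_left) ?_ f.subgroupOf
      rw [card_subgroupOf inf_le_left, card_subgroupOf inf_le_left]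
      exact (hc.coprime_dvd_left (card_dvd_of_le inf_le_right)).coprime_dvd_right
        (card_dvd_of_le inf_le_right)
    by_cases hs : ∃ N : Subgroup G, N.Normal ∧ N ≠ ⊥ ∧ N ≠ ⊤
    · obtain ⟨N, hN, h0, h1⟩ := hs
      refine sol_of_normal N (ih1 N h1 (H1.fac_of_coprime_relIndex inf_le_left inf_le_left ?_))
        (ih _ (by have := card_quot_lt N h0; omega) _ _ (nil_map _ hA) (nil_map _ hB)
          ((hc.coprime_dvd_left (card_map_dvd _ _)).coprime_dvd_right (card_map_dvd _ _))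
          (h.map_top (QuotientGroup.mk'_surjective N)))
      rw [inf_relIndex_left, inf_relIndex_left]
      have key : ∀ X : Subgroup G, X.relIndex N ∣ X.relIndex ⊤ := fun X => by
        rw [relIndex_top_right]; exact H1.relIndex_dvd_index_of_normal' N X
      exact (hc.symm.coprime_dvd_left ((key A).trans h.relIndex_dvd')).coprime_dvd_right
        ((key B).trans h.relIndex_dvd)
    rcases subsingleton_or_nontrivial G with h0 | h0
    · infer_instance
    haveI : IsSimpleGroup G := ⟨fun N hN => by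
      by_contra hc
      push Not at hc
      exact hs ⟨N, hN, hc.1, hc.2⟩⟩
    by_cases ho : Odd (Nat.card G)
    · exact FT.feit_thompson G ho
    have h2 : 2 ∣ Nat.card A * Nat.card B := by
      have := h.card_dvd
      rw [card_top] at this
      exact (even_iff_two_dvd.1 (Nat.not_odd_iff_even.1 ho)).trans this
    rcases (Nat.Prime.dvd_mul Nat.prime_two).1 h2 with h2 | h2
    · exact core h hA hB hc h2 ih1
    · exact core h.symm hB hA hc.symm h2 fun N hN f => ih1 N hN f.symm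

theorem wielandt_aux (p : ℕ) [Fact p.Prime] (n : ℕ) : ∀ (G : Type u) [Group G] [Finite G],
    Nat.card G ≤ n → ∀ U V : Subgroup G, IsPGroup p U → IsPGroup p V →
    (∀ x, Fac U (cj x V) (U ⊔ cj x V)) → ⁅U, V⁆ ≤ Op p ⊤ := by
  induction n with
  | zero => intro G _ _ h; exact absurd (Nat.card_pos (α := G)) (by omega)
  | succ n ih =>
    intro G _ _ hn
    have hO : (Op p (⊤ : Subgroup G)).Normal := normalizer_eq_top_iff.1 (eq_top_iff.2 (le_normalizer_Op p ⊤))
    have main : ∀ U V M : Subgroup G, IsPGroup p U → IsPGroup p V →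
        (∀ x, Fac U (cj x V) (U ⊔ cj x V)) → M.Normal → M ≠ ⊤ → U ≤ M → ⁅U, V⁆ ≤ Op p ⊤ := by
      intro U V M hU hV h hM hM1 hUM
      have all : ∀ y x, Fac (cj y U) (cj x V) (cj y U ⊔ cj x V) := fun y x => by
        have := ((h (y⁻¹ * x)).smul y).sup
        rw [← cj_eq_smul, ← cj_eq_smul, ← cj_mul, mul_inv_cancel_left] at this
        exact this
      have hMO : Op p M ≤ Op p ⊤ := (SN.of_normal_top M).Op_le_Op
      have h1 : ∀ y, ⁅V ⊓ M, cj y U⁆ ≤ Op p ⊤ := fun y => by
        have hyM : cj y U ≤ M := by rw [← cj_eq_of_normal y M]; exact cj_mono y hUM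
        have := ih M (by have := card_sub_lt hM1; omega) ((cj y U).subgroupOf M) ((V ⊓ M).subgroupOf M)
          ((isPGroup_cj y hU).comap_subtype) (hV.to_inf_left.comap_subtype) (fun x => by
            rw [← subgroupOf_cj, cj_inf, cj_eq_of_mem x.2]
            have f := (all y x).dedekind (M := (cj y U ⊔ cj x V) ⊓ M) (le_inf le_sup_left hyM) inf_le_left
            rw [← inf_assoc, inf_eq_left.2 (le_sup_right : cj (x : G) V ≤ _)] at f
            exact (fac_subgroupOf f inf_le_right).sup)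
        rw [← subgroupOf_commutator hyM inf_le_right, ← subgroupOf_self M, Op_subgroupOf le_rfl] at this
        rw [commutator_comm]
        intro z hz
        have hzM : z ∈ M := commutator_le_of_le hyM inf_le_right hz
        exact hMO (this (x := ⟨z, hzM⟩) hz)
      obtain ⟨M0, hM0⟩ : ∃ M0, M0 = ncl U ⊤ := ⟨_, rfl⟩
      have hM0n : M0.Normal := hM0 ▸ normalizer_eq_top_iff.1 (eq_top_iff.2 (le_normalizer_ncl U ⊤))
      have hM0M : M0 ≤ M := hM0 ▸ ncl_le hUM (le_normalizer_of_normal)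
      have h2 : ⁅V ⊓ M0, M0⁆ ≤ Op p ⊤ := by
        have : M0 ≤ ⨆ y, cj y U := hM0 ▸ ncl_le_iff.2 fun k _ => le_iSup (fun y => cj y U) k
        refine (commutator_mono le_rfl this).trans ?_
        rw [commutator_comm]
        refine commutator_iSup_le (fun _ => le_normalizer_of_normal) (fun y => ?_)
        rw [commutator_comm]
        exact (commutator_mono (inf_le_inf_left _ hM0M) le_rfl).trans (h1 y)
      have h3 : V ⊓ M0 ≤ Op p ⊤ := by
        have : (V ⊓ M0) ⊔ (Op p ⊤ ⊓ M0) ≤ Op p M0 := by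
          refine le_Op (sup_le inf_le_right inf_le_right) ?_ (IsPGroup.to_sup_of_normal_right
            hV.to_inf_left (Op_p p ⊤).to_inf_left)
          refine le_normalizer_of_commutator_le (K := (V ⊓ M0) ⊔ (Op p ⊤ ⊓ M0)) ?_ le_rfl
          refine le_trans (commutator_sup_le (N := Op p ⊤ ⊓ M0) le_normalizer_of_normal le_normalizer_of_normal
            (le_inf h2 (commutator_le_right _ _)) (commutator_le_left _ _)) le_sup_right
        exact (le_sup_left.trans this).trans (SN.of_normal_top M0).Op_le_Op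
      have h4 : ∀ x, cj x V ≤ normalizer ((U ⊔ Op p ⊤ : Subgroup G) : Set G) := fun x => by
        have f := (h x).dedekind (M := (U ⊔ cj x V) ⊓ M0) (le_inf le_sup_left (hM0 ▸ le_ncl U ⊤)) inf_le_left
        rw [← inf_assoc, inf_eq_left.2 (le_sup_right : cj x V ≤ _)] at f
        have h5 : cj x V ⊓ M0 ≤ Op p ⊤ := by
          rw [← cj_eq_of_normal x M0, ← cj_inf, ← cj_eq_of_normal x (Op p ⊤)]; exact cj_mono x h3
        have e : U ⊔ Op p ⊤ = ((U ⊔ cj x V) ⊓ M0) ⊔ Op p ⊤ := by
          refine le_antisymm (sup_le_sup_right f.left _) (sup_le ?_ le_sup_right)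
          rw [← f.sup_eq]; exact sup_le_sup_left h5 _
        rw [e]
        exact normalizer_sup (normalizer_inf (le_sup_right.trans le_normalizer) le_normalizer_of_normal)
          le_normalizer_of_normal
      have h5 : ncl V ⊤ ≤ normalizer ((U ⊔ Op p ⊤ : Subgroup G) : Set G) := ncl_le_iff.2 fun k _ => h4 k
      have hVn : (ncl V ⊤).Normal := normalizer_eq_top_iff.1 (eq_top_iff.2 (le_normalizer_ncl V ⊤))
      have h6 : ⁅U ⊔ Op p ⊤, ncl V ⊤⁆ ≤ Op p (ncl V ⊤) :=
        le_Op (commutator_le_right _ _) (normalizer_commutator h5 le_normalizer)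
          ((IsPGroup.to_sup_of_normal_right hU (Op_p p ⊤)).to_le (commutator_le_left' h5))
      exact ((commutator_mono le_sup_left (le_ncl V ⊤)).trans h6).trans (SN.of_normal_top _).Op_le_Op
    intro U V hU hV h
    by_cases ht : U ⊔ V = ⊤
    · have f := h 1
      rw [cj_one, ht] at f
      rw [Op_eq_self (isPGroup_of_fac f hU hV)]; exact le_top
    obtain ⟨M, hM, hM1, h1 | h1⟩ := H1.kegel (A := U) (B := V) h ht
    · exact main U V M hU hV h hM hM1 h1
    · rw [commutator_comm]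
      refine main V U M hV hU (fun x => ?_) hM hM1 h1
      have := ((h x⁻¹).smul x).symm.sup
      rw [← cj_eq_smul, ← cj_eq_smul, ← cj_mul, mul_inv_cancel, cj_one] at this
      exact this

theorem kw_aux (n : ℕ) : ∀ (G : Type u) [Group G] [Finite G], Nat.card G ≤ n →
    ∀ A B : Subgroup G, Group.IsNilpotent A → Group.IsNilpotent B →
    Fac A B ⊤ → Group.IsSolvable G := by
  induction n with
  | zero => intro G _ _ h; exact absurd (Nat.card_pos (α := G)) (by omega)
  | succ n ih =>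
    intro G _ _ hn A B hA hB h
    have ihq : ∀ (N : Subgroup G) [N.Normal], N ≠ ⊥ → Group.IsSolvable (G ⧸ N) := fun N _ h0 =>
      ih _ (by have := card_quot_lt N h0; omega) _ _ (nil_map _ hA) (nil_map _ hB)
        (h.map_top (QuotientGroup.mk'_surjective N))
    by_cases hc : (Nat.card A).Coprime (Nat.card B)
    · exact coprime_aux _ G le_rfl A B hA hB hc h
    obtain ⟨p, hp, h1, h2⟩ := Nat.Prime.not_coprime_iff_dvd.1 hc
    haveI := Fact.mk hp
    have hO : (Op p (⊤ : Subgroup G)).Normal := normalizer_eq_top_iff.1 (eq_top_iff.2 (le_normalizer_Op p ⊤))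
    by_cases hO0 : Op p (⊤ : Subgroup G) = ⊥
    swap
    · have := (Op_p p (⊤ : Subgroup G)).isNilpotent
      exact sol_of_normal _ (by infer_instance) (ihq _ hO0)
    obtain ⟨P, Q, R, hP, hQ, -, f⟩ := h.exists_sylow p
    have eP : P = Op p A := le_antisymm ((sn_of_nilpotent hA hP.le).le_Op hP.isPGroup)
      (Syl.Op_le ⟨hP.le, hP.isPGroup, hP.not_dvd⟩)
    have eQ : Q = Op p B := le_antisymm ((sn_of_nilpotent hB hQ.le).le_Op hQ.isPGroup)
      (Syl.Op_le ⟨hQ.le, hQ.isPGroup, hQ.not_dvd⟩)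
    subst eP eQ
    have all : ∀ x, Fac (Op p A) (cj x (Op p B)) (Op p A ⊔ cj x (Op p B)) := fun x => by
      obtain ⟨g, -, e1, e2⟩ := h.exists_conj_smul (le_normalizer_Op p A) (le_normalizer_Op p B)
        (mem_top 1) (mem_top x)
      rw [map_one, one_smul] at e1
      have := (f.smul g).sup
      rwa [← e1, ← e2] at this
    have h3 : ∀ x, cj x (Op p B) ≤ centralizer (Op p A : Set G) := fun x => by
      have := wielandt_aux p _ G le_rfl _ _ (Op_p p A) (isPGroup_cj x (Op_p p B)) (fun y => by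
        rw [← cj_mul]; exact all _)
      rw [hO0, le_bot_iff, commutator_eq_bot_iff_le_centralizer] at this
      exact le_centralizer_iff.1 this
    have hUn : (ncl (Op p A) ⊤).Normal := normalizer_eq_top_iff.1 (eq_top_iff.2 (le_normalizer_ncl _ ⊤))
    have hVn : (ncl (Op p B) ⊤).Normal := normalizer_eq_top_iff.1 (eq_top_iff.2 (le_normalizer_ncl _ ⊤))
    have h4 : ncl (Op p A) ⊤ ≤ centralizer (ncl (Op p B) ⊤ : Set G) :=
      ncl_le_centralizer (le_centralizer_iff.1 (ncl_le_iff.2 fun k _ => h3 k)) le_normalizer_of_normal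
    have hU0 : ncl (Op p A) ⊤ ≠ ⊥ := fun e =>
      (syl_Op_of_nilpotent hA).ne_bot h1 (eq_bot_iff.2 ((le_ncl _ _).trans e.le))
    have hV0 : ncl (Op p B) ⊤ ≠ ⊥ := fun e =>
      (syl_Op_of_nilpotent hB).ne_bot h2 (eq_bot_iff.2 ((le_ncl _ _).trans e.le))
    by_cases h5 : ncl (Op p A) ⊤ ⊓ ncl (Op p B) ⊤ = ⊥
    · refine sol_of_normal _ ?_ (ihq _ hU0)
      have := ihq _ hV0
      refine solvable_of_solvable_injective
        (f := (QuotientGroup.mk' (ncl (Op p B) ⊤)).comp (ncl (Op p A) ⊤).subtype) ?_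
      rw [injective_iff_map_eq_one]
      intro x hx
      have : (x : G) ∈ ncl (Op p A) ⊤ ⊓ ncl (Op p B) ⊤ := ⟨x.2, (QuotientGroup.eq_one_iff _).1 hx⟩
      rw [h5, mem_bot] at this
      exact Subtype.ext this
    · refine sol_of_normal _ (isSolvable_of_comm fun a b => Subtype.ext ?_) (ihq _ h5)
      exact (comm_of_mem_centralizer (h4 a.2.1) b.2.2).symm

theorem kw {G : Type u} [Group G] [Finite G] {A B : Subgroup G} (hA : Group.IsNilpotent A)
    (hB : Group.IsNilpotent B) (h : Fac A B ⊤) : Group.IsSolvable G := kw_aux _ G le_rfl A B hA hB h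

end H2K
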