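import Cfsg.Agent.S3683
import Cfsg.Agent.H2.Der
import Cfsg.Agent.H1.Primitive

/-! H2.Man: Manning's theorem on extremely primitive groups (`manning`, `orbit_eq_of_normal`),
half-transitive automorphism groups (`fix_block`). -/

set_option autoImplicit false

namespace H2
open MulAction Subgroup

variable {G Ω : Type*} [Group G] [MulAction G Ω]

theorem eq_univ_of_two_stab [Finite G] [Finite Ω] [FaithfulSMul G Ω] (hprim : IsPreprimitive G Ω)
    (hH : ∀ a : Ω, stabilizer G a ≠ ⊥) {a b : Ω} (hab : a ≠ b) (S : Set Ω) (hS : S.Nonempty)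
    (ha : ∀ g : G, g • a = a → ∀ x ∈ S, g • x ∈ S) (hb : ∀ g : G, g • b = b → ∀ x ∈ S, g • x ∈ S) :
    S = Set.univ := by
  haveI : Nontrivial Ω := ⟨⟨a, b, hab⟩⟩
  let L : Subgroup G :=
    { carrier := {g | ∀ x, x ∈ S ↔ g • x ∈ S}
      mul_mem' := fun {g h} hg hh x => by rw [mul_smul]; exact (hh x).trans (hg _)
      one_mem' := fun x => by simp
      inv_mem' := fun {g} hg x => by rw [hg (g⁻¹ • x), smul_inv_smul] }
  have key : ∀ c : Ω, (∀ g : G, g • c = c → ∀ x ∈ S, g • x ∈ S) → stabilizer G c ≤ L := fun c hc g hg x =>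
    ⟨hc g hg x, fun h => by simpa using hc g⁻¹ ((stabilizer G c).inv_mem hg) _ h⟩
  have h1 : L = ⊤ := by
    refine (IsPreprimitive.isCoatom_stabilizer_of_isPreprimitive G b).2 _ (lt_of_le_of_ne (key b hb) fun h => ?_)
    exact hH a (Cfsg.Agent.S3683.result hprim a b hab fun g hg => (h ▸ key a ha hg : g ∈ stabilizer G b)).1
  obtain ⟨x, hx⟩ := hS
  refine Set.eq_univ_of_forall fun y => ?_
  obtain ⟨g, rfl⟩ := exists_smul_eq G x y
  exact ((h1 ▸ mem_top g : g ∈ L) x).1 hx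

theorem trans_of_normal {x y : Ω} (hep : IsPreprimitive (stabilizer G x) (orbit (stabilizer G x) y))
    (M : Subgroup G) (hM : M ≤ stabilizer G x) (hn : stabilizer G x ≤ normalizer (M : Set G))
    (h : ∃ k ∈ M, ∃ z ∈ orbit (stabilizer G x) y, k • z ≠ z) {g : G} (hg : g • x = x) :
    ∃ k ∈ M, k • y = g • y := by
  haveI : (M.subgroupOf (stabilizer G x)).Normal := (normal_subgroupOf_iff_le_normalizer hM).2 hn
  have := IsQuasiPreprimitive.isPretransitive_of_normal (X := orbit (stabilizer G x) y)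
    (N := M.subgroupOf (stabilizer G x)) (fun h1 => by
      obtain ⟨k, hk, z, hz, h2⟩ := h
      have : (⟨z, hz⟩ : orbit (stabilizer G x) y) ∈ fixedPoints (M.subgroupOf (stabilizer G x)) _ :=
        h1 ▸ Set.mem_univ _
      exact h2 (congrArg Subtype.val (this ⟨⟨k, hM hk⟩, hk⟩)))
  obtain ⟨k, hk⟩ := this.exists_smul_eq ⟨y, mem_orbit_self y⟩ ⟨g • y, ⟨g, hg⟩, rfl⟩
  exact ⟨k.1.1, k.2, congrArg Subtype.val hk⟩

theorem manning [Finite G] [Fintype Ω] [FaithfulSMul G Ω] (hprim : IsPreprimitive G Ω)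
    (hH : ∀ a : Ω, stabilizer G a ≠ ⊥)
    (hep : ∀ a b : Ω, IsPreprimitive (stabilizer G a) (orbit (stabilizer G a) b))
    {α ω : Ω} (hω : ω ≠ α) {h : G} (hα : h • α = α)
    (hfix : ∀ x ∈ orbit (stabilizer G α) ω, h • x = x) : h = 1 := by
  classical
  let K : Ω → Subgroup G := fun x =>
    { carrier := {k | k • x = x ∧ ∀ g : G, g • α = x → k • g • ω = g • ω}
      mul_mem' := fun {a b} ha hb => ⟨by rw [mul_smul, hb.1, ha.1], fun g hg => by
        rw [mul_smul, hb.2 g hg, ha.2 g hg]⟩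
      one_mem' := ⟨one_smul _ _, fun _ _ => one_smul _ _⟩
      inv_mem' := fun {a} ha => ⟨inv_smul_eq_iff.2 ha.1.symm, fun g hg => inv_smul_eq_iff.2 (ha.2 g hg).symm⟩ }
  have hK : ∀ (g : G) x k, k ∈ K x → g * k * g⁻¹ ∈ K (g • x) := fun g x k hk =>
    ⟨by rw [mul_smul, mul_smul, inv_smul_smul, hk.1], fun a ha => by
      have := hk.2 (g⁻¹ * a) (by rw [mul_smul, ha, inv_smul_smul])
      rw [mul_smul] at this
      rw [mul_smul, mul_smul, this, smul_inv_smul]⟩
  let R : Ω → Ω → Prop := fun x y => y ≠ x ∧ ∀ k ∈ K x, k • y = y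
  have hR : ∀ (g : G) x y, R x y → R (g • x) (g • y) := fun g x y h =>
    ⟨fun e => h.1 (smul_left_cancel g e), fun k hk => by
      have := h.2 _ (by simpa using hK g⁻¹ _ k hk)
      rw [mul_smul, mul_smul, inv_smul_eq_iff] at this
      exact this⟩
  have hR' : ∀ (g : G) x y, R (g • x) (g • y) ↔ R x y := fun g x y =>
    ⟨fun h => by simpa using hR g⁻¹ _ _ h, hR g x y⟩
  by_contra h1
  have hne : (Finset.univ.filter fun q : Ω × Ω => q.2 ≠ q.1 ∧ ¬ R q.1 q.2).Nonempty := by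
    by_contra h2
    refine h1 (FaithfulSMul.eq_of_smul_eq_smul (α := Ω) fun y => ?_)
    rw [one_smul]
    by_contra h3
    refine h2 ⟨(α, y), Finset.mem_filter.2 ⟨Finset.mem_univ _, fun e => h3 (by rw [show y = α from e, hα]), fun e => h3 ?_⟩⟩
    exact e.2 h ⟨hα, fun g hg => hfix _ ⟨⟨g, hg⟩, rfl⟩⟩
  obtain ⟨⟨x, y⟩, hxy, hmax⟩ := Finset.exists_max_image _ (fun q : Ω × Ω => (orbit (stabilizer G q.1) q.2).ncard) hne
  obtain ⟨hyx, hn⟩ : y ≠ x ∧ ¬ R x y := (Finset.mem_filter.1 hxy).2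
  have h2 : ∀ g : G, g • x = x → ∃ k ∈ K x, k • y = g • y := fun g hg => by
    refine trans_of_normal (hep x y) (K x) (fun k hk => hk.1) (fun a ha => ?_) ?_ hg
    · rw [H1.mem_normalizer_iff_conj_mem]
      intro k hk
      have := hK a x k hk
      rwa [show a • x = x from ha] at this
    · by_contra h3
      push Not at h3
      exact hn ⟨hyx, fun k hk => h3 k hk y (mem_orbit_self y)⟩
  have h3 : {δ | R x δ} ⊆ {δ | R δ y} := fun δ hδ => by
    by_contra h4
    have hyδ : y ≠ δ := fun e => hn (e ▸ hδ)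
    have e1 : orbit (stabilizer G x) y ⊆ orbit (stabilizer G δ) y := by
      rintro _ ⟨g, rfl⟩
      obtain ⟨k, hk, e⟩ := h2 g g.2
      exact ⟨⟨k, hδ.2 k hk⟩, e⟩
    have e2 := Set.eq_of_subset_of_ncard_le e1 (hmax (δ, y) (Finset.mem_filter.2 ⟨Finset.mem_univ _, hyδ, h4⟩))
    have e3 := eq_univ_of_two_stab hprim hH (Ne.symm hδ.1) _ ⟨y, mem_orbit_self y⟩
      (fun g hg z hz => mem_orbit_of_mem_orbit (⟨g, hg⟩ : stabilizer G x) hz)
      (fun g hg z hz => e2 ▸ mem_orbit_of_mem_orbit (⟨g, hg⟩ : stabilizer G δ) (e2 ▸ hz))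
    obtain ⟨g, hg⟩ : x ∈ orbit (stabilizer G x) y := e3 ▸ Set.mem_univ x
    exact hyx (smul_left_cancel (g : G) (hg.trans g.2.symm))
  have h4 : {δ | R x δ}.ncard = {δ | R δ y}.ncard := by
    have := Finset.card_mul_eq_card_mul (s := Finset.univ) (t := Finset.univ) R
      (m := {δ | R x δ}.ncard) (n := {δ | R δ y}.ncard) (fun a _ => ?_) (fun b _ => ?_)
    · exact Nat.eq_of_mul_eq_mul_left (Finset.card_pos.2 ⟨x, Finset.mem_univ x⟩) this
    · obtain ⟨g, rfl⟩ := exists_smul_eq G x a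
      rw [← Set.ncard_image_of_injective _ (MulAction.injective g), ← Set.ncard_coe_finset]
      congr 1; ext z
      obtain ⟨w, rfl⟩ := MulAction.surjective g z
      simp [hR']
    · obtain ⟨g, rfl⟩ := exists_smul_eq G y b
      rw [← Set.ncard_image_of_injective _ (MulAction.injective g), ← Set.ncard_coe_finset]
      congr 1; ext z
      obtain ⟨w, rfl⟩ := MulAction.surjective g z
      simp [hR']
  have h5 := Set.eq_of_subset_of_ncard_le h3 h4.ge
  obtain ⟨g, hg⟩ := exists_smul_eq G α x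
  have h6 := eq_univ_of_two_stab hprim hH hyx {δ | R x δ}
    ⟨g • ω, fun e => hω (smul_left_cancel g (e.trans hg.symm)), fun k hk => hk.2 g hg⟩
    (fun a ha z hz => by
      rw [h5] at hz ⊢
      have := hR a _ _ hz
      rwa [ha] at this)
    (fun a ha z hz => by
      have := hR a _ _ hz
      rwa [ha] at this)
  have : R x x := (h6 ▸ Set.mem_univ x : x ∈ {δ | R x δ})
  exact this.1 rfl

theorem orbit_eq_of_normal [Finite G] [Fintype Ω] [FaithfulSMul G Ω] (hprim : IsPreprimitive G Ω)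
    (hH : ∀ a : Ω, stabilizer G a ≠ ⊥)
    (hep : ∀ a b : Ω, IsPreprimitive (stabilizer G a) (orbit (stabilizer G a) b))
    {α : Ω} {M : Subgroup G} (h0 : M ≠ ⊥) (hM : M ≤ stabilizer G α)
    (hn : stabilizer G α ≤ normalizer (M : Set G)) (ω : Ω) {g : G} (hg : g • α = α) :
    ∃ k ∈ M, k • ω = g • ω := by
  by_cases hω : ω = α
  · exact ⟨1, M.one_mem, by rw [hω, hg, one_smul]⟩
  refine trans_of_normal (hep α ω) M hM hn ?_ hg
  by_contra h
  push Not at h
  exact h0 (eq_bot_iff.2 fun k hk => manning hprim hH hep hω (hM hk) (h k hk))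

theorem dvd_card_of_index [Finite G] [Finite Ω] (K : Subgroup G) (S : Set Ω) (m : ℕ)
    (hS : ∀ k ∈ K, ∀ x ∈ S, k • x ∈ S) (hD : ∀ x ∈ S, m ∣ (stabilizer G x).relIndex K) :
    m ∣ Nat.card S := by
  classical
  let T : SubMulAction K Ω := ⟨S, fun k x hx => hS k k.2 x hx⟩
  haveI := Fintype.ofFinite T
  haveI := Fintype.ofFinite (orbitRel.Quotient K T)
  have e := MulAction.selfEquivSigmaOrbits K T
  have h1 : Nat.card S = Nat.card T := rfl
  rw [h1, Nat.card_congr e, Nat.card_sigma]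
  refine Finset.dvd_sum fun ω _ => ?_
  rw [Nat.card_congr (orbitEquivQuotientStabilizer K ω.out), ← Subgroup.index]
  refine (hD ω.out.1 ω.out.2).trans (Eq.dvd ?_)
  unfold relIndex; congr 1; ext k
  exact ⟨fun h => Subtype.ext h, fun h => congrArg Subtype.val h⟩

/-- a block of size prime to the common orbit length is fixed pointwise by its point stabilizers -/
theorem fix_block [Finite G] [Finite Ω] (H : Subgroup G) (S : Set Ω) (k : ℕ)
    (hk : ∀ x ∈ S, (stabilizer G x).relIndex H = k) (hc : k.Coprime (Nat.card S))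
    (hB : ∀ h ∈ H, ∀ x ∈ S, h • x ∈ S → ∀ y ∈ S, h • y ∈ S)
    {h : G} (hh : h ∈ H) {x : Ω} (hx : x ∈ S) (hhx : h • x = x) {y : Ω} (hy : y ∈ S) : h • y = y := by
  let B : Subgroup G :=
    { carrier := {g | g ∈ H ∧ g • x ∈ S}
      mul_mem' := fun {a b} ha hb => ⟨H.mul_mem ha.1 hb.1, by
        rw [mul_smul]; exact hB a ha.1 x hx ha.2 _ hb.2⟩
      one_mem' := ⟨H.one_mem, by simpa using hx⟩
      inv_mem' := fun {a} ha => ⟨H.inv_mem ha.1, hB _ (H.inv_mem ha.1) _ ha.2 (by simpa using hx) x hx⟩ }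
  have hBH : B ≤ H := fun _ h => h.1
  have h1 : ∀ z ∈ S, (stabilizer G z).relIndex B * B.relIndex H = k := fun z hz => by
    rw [← hk z hz, ← inf_relIndex_right (stabilizer G z) H, ← inf_relIndex_right (stabilizer G z) B,
      relIndex_mul_relIndex _ _ _ inf_le_right hBH]
    congr 1
    exact le_antisymm (inf_le_inf_left _ hBH) fun g hg =>
      ⟨hg.1, hg.2, hB g hg.2 z hz (by rwa [show g • z = z from hg.1]) x hx⟩
  have h0 : B.relIndex H ≠ 0 := index_ne_zero_of_finite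
  have h2 := dvd_card_of_index B S ((stabilizer G y).relIndex B)
    (fun b hb z hz => hB b hb.1 x hx hb.2 z hz)
    (fun z hz => (Nat.eq_of_mul_eq_mul_right (Nat.pos_of_ne_zero h0) ((h1 y hy).trans (h1 z hz).symm)).dvd)
  have h3 := Nat.eq_one_of_dvd_coprimes hc (Dvd.intro _ (h1 y hy)) h2
  exact relIndex_eq_one.1 h3 (show h ∈ B from ⟨hh, by rwa [hhx]⟩)

end H2
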