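import Cfsg.Agent.H1.AutP
import Cfsg.Agent.H1.Misc3
import Cfsg.Agent.H1.Generation
import Cfsg.Agent.H5.Dih
import Cfsg.Agent.L.PG1

/-! Metacyclic 2-groups with an automorphism of odd order. -/

namespace Cfsg.Agent.H2
open Subgroup H1
open scoped commutatorElement

theorem k4aut {Q : Type*} [Group Q] {a c : Q} (hgen : ∀ x, x = 1 ∨ x = a ∨ x = c ∨ x = a * c) (hsq : ∀ x : Q, x * x = 1)
    (β : Q →* Q) (hi : Function.Injective β) (h2 : ¬ ∀ x, β (β x) = x) :
    c ≠ 1 ∧ β c ≠ c ∧ (∀ x, x = 1 ∨ x = β c ∨ x = c ∨ x = β c * c) ∧ β (β c) = β c * c := by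
  have all : ∀ {u v : Q}, (∀ x, x = 1 ∨ x = u ∨ x = v ∨ x = u * v) → β (β u) = u → β (β v) = v → False := fun h h1 h3 =>
    h2 fun x => by rcases h x with rfl | rfl | rfl | rfl <;> simp [h1, h3]
  have one : ∀ {x}, β x = 1 → x = 1 := fun h => hi (h.trans β.map_one.symm)
  have h1 : β c ≠ c := fun e => all hgen (by
    rcases hgen (β a) with h | h | h | h
    · rw [one h]; simp
    · rw [h, h]
    · rw [h, e]; exact hi (e.trans h.symm)
    · rw [h, map_mul, h, e, mul_assoc, hsq, mul_one]) (by rw [e, e])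
  have h3 : c ≠ 1 := fun e => h1 (by rw [e, map_one])
  have h4 : ∀ x, x = 1 ∨ x = β c ∨ x = c ∨ x = β c * c := fun x => by
    rcases hgen (β c) with h | h | h | h
    · exact absurd (one h) h3
    · exact h ▸ hgen x
    · exact absurd h h1
    · rw [h, mul_assoc, hsq, mul_one]; have := hgen x; tauto
  refine ⟨h3, h1, h4, ?_⟩
  rcases h4 (β (β c)) with h | h | h | h
  · exact absurd (one (one h)) h3
  · exact absurd (hi h) h1
  · exact (all h4 (by rw [h]) h).elim
  · exact h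

theorem exists_odd_pow {G : Type*} [Group G] [Finite G] {w y : G} {e : ℕ} (hw : orderOf w = 2 ^ (e + 1))
    (hy : y ∈ zpowers w) (h : orderOf y = orderOf w) : ∃ s, y = w ^ (2 * s + 1) := by
  obtain ⟨s, rfl⟩ := (mem_powers_iff_mem_zpowers.2 hy)
  obtain ⟨s, rfl | rfl⟩ := Nat.even_or_odd' s
  · have : (w ^ (2 * s)) ^ 2 ^ e = 1 := by
      rw [← pow_mul, show 2 * s * 2 ^ e = 2 ^ (e + 1) * s by ring, pow_mul, ← hw, pow_orderOf_eq_one, one_pow]
    have := orderOf_dvd_of_pow_eq_one this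
    rw [h, hw, Nat.pow_dvd_pow_iff_le_right one_lt_two] at this
    omega
  · exact ⟨s, rfl⟩

theorem meta_two {X : Type*} [Group X] [Finite X] (hX : IsPGroup 2 X) {N : Subgroup X} [N.Normal] (h1 : IsCyclic N)
    (h2 : IsCyclic (X ⧸ N)) (hA : ¬ IsPGroup 2 (MulAut X)) : Nonempty (X ≃* QuaternionGroup 2) ∨
      ∃ n : ℕ, Nonempty (X ≃* Multiplicative (ZMod (2 ^ n)) × Multiplicative (ZMod (2 ^ n))) := by
  obtain ⟨c, -, rfl⟩ := exists_eq_zpowers_of_isCyclic h1
  obtain ⟨a, ha⟩ := h2.exists_generator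
  obtain ⟨a, rfl⟩ := QuotientGroup.mk_surjective a
  let π := QuotientGroup.mk' (frattini X)
  have sq : ∀ x : X ⧸ frattini X, x * x = 1 := fun x => by
    obtain ⟨x, rfl⟩ := QuotientGroup.mk_surjective x
    rw [← QuotientGroup.mk_mul, QuotientGroup.eq_one_iff, ← pow_two]; exact pow_mem_frattini hX x
  have zp : ∀ {u x : X}, x ∈ zpowers u → π x = 1 ∨ π x = π u := by
    rintro u _ ⟨n, rfl⟩
    obtain ⟨k, rfl | rfl⟩ := Int.even_or_odd' n
    · exact Or.inl (by simp only [map_zpow, zpow_mul, zpow_two, map_mul, sq, one_zpow])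
    · exact Or.inr (by simp only [map_zpow, zpow_add_one, zpow_mul, zpow_two, map_mul, sq, one_zpow, one_mul])
  obtain ⟨α, o1, o2⟩ : ∃ α : MulAut X, α ≠ 1 ∧ Odd (orderOf α) := by
    by_contra! h
    refine hA fun β => ⟨(orderOf β).factorization 2, ?_⟩
    by_contra h0
    refine h _ h0 (Nat.coprime_two_left.1 ?_)
    rw [orderOf_pow_of_dvd (by positivity) (Nat.ordProj_dvd _ _)]
    exact Nat.coprime_ordCompl Nat.prime_two (orderOf_pos β).ne'
  have fi : ∀ (γ : MulAut X) x, x ∈ frattini X → γ x ∈ frattini X := fun γ x hx =>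
    (characteristic_iff_map_le.1 inferInstance γ) ⟨x, hx, rfl⟩
  let β := QuotientGroup.map (frattini X) (frattini X) α.toMonoidHom (fi α)
  obtain ⟨k1, k2, k3, k4⟩ := k4aut (a := π a) (c := π c) (fun x => by
      obtain ⟨x, rfl⟩ := QuotientGroup.mk_surjective x
      obtain ⟨n, hn⟩ := ha x
      have h3 : (a ^ n)⁻¹ * x ∈ zpowers c := QuotientGroup.eq.1 hn
      have h4 : π x = π (a ^ n) * π ((a ^ n)⁻¹ * x) := by rw [← map_mul, mul_inv_cancel_left]
      change π x = 1 ∨ π x = _ ∨ π x = _ ∨ π x = _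
      rcases zp h3 with e | e <;> rcases zp (u := a) (zpow_mem (mem_zpowers a) n) with e' | e' <;> simp [h4, e, e'])
    sq β ((injective_iff_map_eq_one β).2 fun x hx => by
      obtain ⟨x, rfl⟩ := QuotientGroup.mk_surjective x
      simpa using fi α⁻¹ _ ((QuotientGroup.eq_one_iff (α x)).1 hx)) fun h => by
      obtain ⟨r, hr⟩ := (hX.to_quotient (frattini X)).exists_card_eq
      let A : Subgroup (MulAut X) :=
        { carrier := {γ | ∀ x, γ x * x⁻¹ ∈ frattini X}
          mul_mem' := fun {u v} hu hv x => by simpa using mul_mem (hu (v x)) (hv x)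
          one_mem' := fun x => by simp
          inv_mem' := fun {u} hu x => by simpa using inv_mem (hu (u⁻¹ x)) }
      have h3 : α ^ 2 ∈ A := fun x => by
        rw [← div_eq_mul_inv, ← QuotientGroup.eq_iff_div_mem]; exact h x
      obtain ⟨k, hk⟩ := (hX.to_subgroup (frattini X)).exists_card_eq
      have h4 := (A.orderOf_dvd_natCard h3).trans (card_dvd_of_triv_frattini hX hr A fun _ h => h)
      rw [(Nat.coprime_two_right.2 o2).orderOf_pow, hk, ← pow_mul] at h4
      exact o1 (orderOf_eq_one_iff.1 (Nat.eq_one_of_dvd_coprimes ((Nat.coprime_two_right.2 o2).pow_right _) dvd_rfl h4))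
  set b := α c with hb
  change π b ≠ π c at k2
  change ∀ x, x = 1 ∨ x = π b ∨ x = π c ∨ x = π b * π c at k3
  change π (α b) = π b * π c at k4
  have b1 : π b ≠ 1 := fun e => k1 ((QuotientGroup.eq_one_iff c).2 (by simpa [hb] using fi α⁻¹ _ ((QuotientGroup.eq_one_iff b).1 e)))
  have gen : zpowers b ⊔ zpowers c = ⊤ := frattini_nongenerating (eq_top_iff.2 fun x _ => by
    have key : ∀ y ∈ zpowers b ⊔ zpowers c, π x = π y → x ∈ zpowers b ⊔ zpowers c ⊔ frattini X := fun y hy e => by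
      simpa using mul_mem (mem_sup_left hy) (mem_sup_right (QuotientGroup.eq.1 e.symm))
    have m1 := mem_sup_left (T := zpowers c) (mem_zpowers b)
    have m2 := mem_sup_right (S := zpowers b) (mem_zpowers c)
    rcases k3 (π x) with e | e | e | e
    exacts [key 1 (one_mem _) e, key _ m1 e, key _ m2 e, key _ (mul_mem m1 m2) e])
  have dec : ∀ x, ∃ i j : ℕ, x = b ^ i * c ^ j := fun x => by
    obtain ⟨u, hu, v, hv, rfl⟩ := mem_sup_of_normal_right.1 (gen.ge (mem_top x))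
    obtain ⟨i, rfl⟩ := mem_powers_iff_mem_zpowers.2 hu
    obtain ⟨j, rfl⟩ := mem_powers_iff_mem_zpowers.2 hv
    exact ⟨i, j, rfl⟩
  set D := zpowers b ⊓ zpowers c
  have cm : ∀ x y : X, ⁅x, y⁆ ∈ D := by
    have h : ∀ x y : X, ⁅x, y⁆ ∈ zpowers c := fun x y => by
      rw [← QuotientGroup.eq_one_iff, ← QuotientGroup.mk'_apply, map_commutatorElement, commutatorElement_eq_one_iff_mul_comm]
      exact h2.commutative.is_comm.comm _ _
    refine fun x y => ⟨?_, h x y⟩
    obtain ⟨n, hn⟩ := h (α⁻¹ x) (α⁻¹ y)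
    exact ⟨n, by simpa [commutatorElement_def] using congrArg α hn⟩
  have ce : ∀ z ∈ D, ∀ x, Commute x z := by
    rintro z ⟨⟨m, hm⟩, ⟨n, hn⟩⟩ x
    obtain ⟨i, j, rfl⟩ := dec x
    exact ((hm ▸ Commute.zpow_right (Commute.refl b) m : Commute b z).pow_left i).mul_left
      ((hn ▸ Commute.zpow_right (Commute.refl c) n : Commute c z).pow_left j)
  obtain ⟨m, hm⟩ := (hX.to_subgroup (zpowers c)).exists_card_eq
  rw [Nat.card_zpowers] at hm
  have ob : orderOf b = 2 ^ m := hm ▸ α.orderOf_eq c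
  obtain ⟨e, em, he⟩ := (Nat.dvd_prime_pow Nat.prime_two).1 (hm ▸ Nat.card_zpowers c ▸ card_dvd_of_le (inf_le_right : D ≤ _))
  rcases e with _ | e
  · have hD : D = ⊥ := card_eq_one.1 he
    haveI : NeZero (2 ^ m) := ⟨by positivity⟩
    have cz : ∀ {u : X}, orderOf u = 2 ^ m → Nat.card (Multiplicative (ZMod (2 ^ m))) = Nat.card (zpowers u) := fun h => by
      rw [Nat.card_zpowers, h, Nat.card_congr Multiplicative.toAdd, Nat.card_zmod]
    let f1 := (zpowers b).subtype.comp (mulEquivOfCyclicCardEq (cz ob)).toMonoidHom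
    let f2 := (zpowers c).subtype.comp (mulEquivOfCyclicCardEq (cz hm)).toMonoidHom
    refine Or.inr ⟨m, ⟨(MulEquiv.ofBijective (f1.noncommCoprod f2 fun u v => commutatorElement_eq_one_iff_commute.1
      (mem_bot.1 (hD.le (cm _ _)))) ((Nat.bijective_iff_surjective_and_card _).2 ⟨fun x => ?_, ?_⟩)).symm⟩⟩
    · obtain ⟨i, j, rfl⟩ := dec x
      obtain ⟨u, hu⟩ := (mulEquivOfCyclicCardEq (cz ob)).surjective ⟨_, npow_mem_zpowers b i⟩
      obtain ⟨v, hv⟩ := (mulEquivOfCyclicCardEq (cz hm)).surjective ⟨_, npow_mem_zpowers c j⟩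
      exact ⟨(u, v), by simp [f1, f2, hu, hv]⟩
    · have := card_sup_mul_card_inf (H := zpowers b) (K := zpowers c) le_normalizer_of_normal
      rw [gen, card_top, he, pow_zero, mul_one] at this
      rw [this, Nat.card_prod, ← cz ob, ← cz hm]
  obtain ⟨k, rfl⟩ := Nat.exists_eq_add_of_le' em
  have pw : ∀ {u : X}, orderOf u = 2 ^ (k + (e + 1)) → orderOf (u ^ 2 ^ k) = 2 ^ (e + 1) := fun h => by
    rw [orderOf_pow_of_dvd (by positivity) (h ▸ pow_dvd_pow 2 (by omega)), h, pow_add, Nat.mul_div_cancel_left _ (by positivity)]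
  have eq : ∀ {u : X}, orderOf u = 2 ^ (k + (e + 1)) → D ≤ zpowers u → zpowers (u ^ 2 ^ k) = D := fun h h' =>
    eq_of_le_of_card_ge (le_of_card_dvd_of_isCyclic inferInstance (zpowers_le.2 (npow_mem_zpowers _ _)) h'
      (by rw [Nat.card_zpowers, pw h, he])) (by rw [Nat.card_zpowers, pw h, he])
  have e1 := eq hm inf_le_right
  have e2 := eq ob inf_le_left
  obtain ⟨w, hw⟩ : ∃ w, w = c ^ 2 ^ k := ⟨_, rfl⟩
  have ow := pw hm
  rw [← hw] at ow e1
  have m1 : b ^ 2 ^ k ∈ zpowers w := e1.ge (e2.le (mem_zpowers _))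
  obtain ⟨s, hs⟩ := exists_odd_pow ow m1 ((pw ob).trans ow.symm)
  obtain ⟨t, ht⟩ := exists_odd_pow (y := α b ^ 2 ^ k) ow (by
    rw [← map_pow, hs, map_pow]; exact pow_mem (by nth_rw 2 [hw]; rw [map_pow]; exact m1) _) ((pw ((α.orderOf_eq b).trans ob)).trans ow.symm)
  obtain ⟨i, j, hd⟩ := dec (α b)
  have pe : ∀ (u : X) n, π u ^ (2 * n) = 1 := fun u n => by rw [pow_mul, pow_two, sq, one_pow]
  rw [hd, map_mul, map_pow, map_pow] at k4
  obtain ⟨i, rfl | rfl⟩ := Nat.even_or_odd' i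
  · obtain ⟨j, rfl | rfl⟩ := Nat.even_or_odd' j
    · rw [pe, pe, mul_one, eq_comm, ← sq (π c)] at k4; exact absurd (mul_right_cancel k4) k2
    · exact absurd (by simpa [pow_succ, pe] using k4) b1
  obtain ⟨j, rfl | rfl⟩ := Nat.even_or_odd' j
  · exact absurd (by simpa [pow_succ, pe] using k4) k1
  set x := b ^ (2 * i + 1)
  set y := c ^ (2 * j + 1)
  have zD := cm y⁻¹ x⁻¹
  have hz : y * x = x * y * ⁅y⁻¹, x⁻¹⁆ := by rw [commutatorElement_def]; group
  have h5 := L.mul_pow_class2 hz (ce _ zD x) (ce _ zD y) (2 ^ k)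
  rw [← hd, ht, ← pow_mul b, mul_comm (2 * i + 1), pow_mul b, hs, ← pow_mul c, mul_comm (2 * j + 1), pow_mul c, ← hw, ← pow_mul, ← pow_add] at h5
  obtain ⟨u, hu⟩ := mem_powers_iff_mem_zpowers.2 (e1.ge zD)
  have par : ∀ {n n' : ℕ}, w ^ (2 * n + 1) ≠ w ^ (2 * n') := fun h => by
    have := (pow_eq_pow_iff_modEq.1 h).of_dvd (ow ▸ dvd_pow_self 2 e.succ_ne_zero)
    simp [Nat.ModEq] at this
  beta_reduce at hu
  rcases k with _ | _ | k
  · exact absurd (zp (e1.trans_le inf_le_left (mem_zpowers _))) (by simp [hw, k1, k2.symm])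
  · have z2 : ⁅y⁻¹, x⁻¹⁆ ^ 2 = 1 := by
      have c2 : Commute x (y ^ 2) := by
        rw [← pow_mul, mul_comm, pow_mul]; exact (ce _ (e1.le (hw ▸ mem_zpowers _)) x).pow_right _
      have : y ^ 2 * x = x * y ^ 2 * ⁅y⁻¹, x⁻¹⁆ ^ 2 := by
        rw [pow_two, mul_assoc, hz, ← mul_assoc, ← mul_assoc, hz, mul_assoc _ _ y, ← (ce _ zD y).eq, pow_two]
        simp only [mul_assoc]
      rwa [← c2.eq, left_eq_mul] at this
    obtain ⟨u, rfl | rfl⟩ := Nat.even_or_odd' u
    · refine (par (n := t) (n' := s * (2 * i + 1) + i + j + 1 + u) ?_).elim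
      rw [h5, ← hu, ← pow_mul, ← pow_add]
      congr 1; simp; ring
    rw [← hu, ← pow_mul, ← orderOf_dvd_iff_pow_eq_one, ow, pow_succ, Nat.mul_dvd_mul_iff_right two_pos] at z2
    obtain rfl : e = 0 := by
      by_contra h
      have := (dvd_pow_self 2 h).trans z2
      omega
    have w2 : w ^ 2 = 1 := by rw [← orderOf_dvd_iff_pow_eq_one, ow]; rfl
    have wo : ∀ n, w ^ (2 * n + 1) = w := fun n => by rw [pow_succ, pow_mul, w2, one_pow, one_mul]
    have h6 : b * c * b⁻¹ = c⁻¹ := by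
      obtain ⟨n, hn⟩ := mem_powers_iff_mem_zpowers.2 (e1.ge (cm b c))
      beta_reduce at hn
      obtain ⟨n, rfl | rfl⟩ := Nat.even_or_odd' n
      · rw [pow_mul, w2, one_pow, eq_comm, commutatorElement_eq_one_iff_commute] at hn
        rw [commutatorElement_eq_one_iff_commute.2 (hn.symm.pow_pow _ _).inv_inv] at hu
        exact (par (n' := 0) (hu.trans (pow_zero w).symm)).elim
      · rw [wo, commutatorElement_def, eq_mul_inv_iff_mul_eq] at hn
        rw [← hn, eq_inv_iff_mul_eq_one, ← w2, hw]; simp only [zero_add, pow_one, pow_two, mul_assoc]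
    obtain ⟨f⟩ := H5.quat_equiv_closure (n := 2) two_ne_zero c b hm (by rw [← pow_two]; exact hs.trans ((wo s).trans hw)) h6
      fun h => (zp h).elim b1 k2
    refine Or.inl ⟨(topEquiv.symm.trans (MulEquiv.subgroupCongr ?_)).trans f⟩
    rw [← gen, sup_comm, zpowers_eq_closure, zpowers_eq_closure, ← Subgroup.closure_union]; rfl
  · refine (par (n := t) (n' := (s * (2 * i + 1) + i + j + 1) + u * (2 ^ k * (2 ^ (k + 2) - 1))) ?_).elim
    rw [h5, ← hu, ← pow_mul, ← pow_add, Nat.choose_two_right, show 2 ^ (k + 1 + 1) * (2 ^ (k + 1 + 1) - 1) =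
      2 * (2 * (2 ^ k * (2 ^ (k + 2) - 1))) by ring, Nat.mul_div_cancel_left _ two_pos]
    congr 1; ring

end Cfsg.Agent.H2
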