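import Cfsg.Agent.H3.ZId
import Cfsg.Agent.H9.MS1
import Cfsg.Agent.H1.Fitting

/-! Minimal non-`p`-closed groups. -/

namespace Cfsg.Agent.H2M

open Subgroup H9 Cfsg

variable {G : Type*} [Group G] [Finite G] {p : ℕ} [hp : Fact p.Prime]

theorem card_irr {q : ℕ} (hq : q.Prime) {A : Subgroup G} (hA : IsElementaryAbelian q A) {x : G}
    (hx : x ^ p = 1) (hn : x ∈ normalizer (A : Set G)) (hc : x ∉ centralizer (A : Set G))
    (irr : ∀ W ≤ A, (∀ u ∈ W, x * u * x⁻¹ ∈ W) → W = ⊥ ∨ W = A) (hpq : q ≠ p) :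
    Nat.card A = q ^ orderOf (q : ZMod p) := by
  classical
  have h1 : A ≠ ⊥ := by rintro rfl; exact hc (by intro y hy; simp at hy; simp [hy])
  obtain ⟨F, _, _, f, ψ, f1, f2, f3, f4⟩ := H3.exists_field (Q := A) (D := zpowers x)
    (fun a ha b hb => congrArg Subtype.val (hA.1.is_comm.comm ⟨a, ha⟩ ⟨b, hb⟩))
    (by rintro _ ⟨a, rfl⟩ _ ⟨b, rfl⟩; exact (Commute.zpow_zpow_self x a b))
    (zpowers_le.2 hn) h1 (fun W hW h => irr W hW (h x (mem_zpowers x)))
  have f0 : f 0 = 1 := by have := f1 0 0; rw [add_zero] at this; exact (mul_eq_left.1 this.symm)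
  have fn : ∀ (n : ℕ) (y : F), f (n * y) = f y ^ n := by
    intro n y
    induction n with
    | zero => simp [f0]
    | succ n ih => rw [Nat.cast_succ, add_mul, one_mul, f1, ih, pow_succ]
  have hq0 : (q : F) = 0 := by
    apply f2
    have := fn q 1
    rw [mul_one] at this
    rw [this, f0]; exact hA.2 _ ((f3 _).2 ⟨1, rfl⟩)
  haveI := Fact.mk hq
  haveI : CharP F q := (CharP.charP_iff_prime_eq_zero hq).2 hq0
  obtain ⟨d, -, hd⟩ := FiniteField.card F q
  have hcard : Nat.card A = q ^ (d : ℕ) := by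
    rw [← hd, ← Nat.card_eq_fintype_card]
    symm
    refine Nat.card_congr (Equiv.ofBijective (fun y => ⟨f y, (f3 _).2 ⟨y, rfl⟩⟩) ⟨fun a b h => f2 (congrArg Subtype.val h), ?_⟩)
    rintro ⟨u, hu⟩
    obtain ⟨y, rfl⟩ := (f3 u).1 hu
    exact ⟨y, rfl⟩
  set z := ψ x with hz
  have fz := f4 x (mem_zpowers x)
  have fzn : ∀ (n : ℕ) (y : F), x ^ n * f y * (x ^ n)⁻¹ = f (z ^ n * y) := by
    intro n y
    induction n with
    | zero => simp
    | succ n ih => rw [pow_succ' z, mul_assoc z, ← fz, ← ih, pow_succ']; group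
  have hzp : z ^ p = 1 := by
    have := fzn p 1
    rw [hx] at this
    simpa using (f2 (by simpa using this) : (1 : F) = z ^ p).symm
  have hz1 : z ≠ 1 := by
    intro h
    apply hc
    intro u hu
    obtain ⟨y, rfl⟩ := (f3 u).1 hu
    have := fz y
    rw [← hz, h, one_mul] at this
    rw [mul_inv_eq_iff_eq_mul] at this
    exact this.symm
  have hoz : orderOf z = p := orderOf_eq_prime hzp hz1
  have hz0 : z ≠ 0 := by rintro h; rw [h, zero_pow hp.out.ne_zero] at hzp; exact zero_ne_one hzp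
  have key : ∀ i, p ∣ q ^ i - 1 ↔ (q : ZMod p) ^ i = 1 := by
    intro i
    rw [← ZMod.natCast_eq_zero_iff, Nat.cast_sub (Nat.one_le_pow _ _ hq.pos), sub_eq_zero]
    simp
  set e := orderOf (q : ZMod p) with he
  have hqp : (q : ZMod p) ≠ 0 := fun h =>
    hpq ((Nat.prime_dvd_prime_iff_eq hp.out hq).1 ((ZMod.natCast_eq_zero_iff q p).1 h)).symm
  have he0 : 0 < e := by
    have := ZMod.orderOf_dvd_card_sub_one hqp
    have h2 := hp.out.two_le
    exact Nat.pos_of_ne_zero (ne_zero_of_dvd_ne_zero (by omega) this)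
  have h2 : e ∣ d := by
    apply orderOf_dvd_of_pow_eq_one
    rw [← key, ← hoz, ← hd]
    exact orderOf_dvd_of_pow_eq_one (FiniteField.pow_card_sub_one_eq_one z hz0)
  have h3 : z ^ q ^ e = z := by
    have : z ^ (q ^ e - 1) = 1 := by
      rw [← orderOf_dvd_iff_pow_eq_one, hoz, key]; exact pow_orderOf_eq_one _
    have h4 : q ^ e = (q ^ e - 1) + 1 := by have := Nat.one_le_pow e q hq.pos; omega
    rw [h4, pow_succ, this, one_mul]
  let W : Subgroup G := {
    carrier := {u | ∃ y : F, y ^ q ^ e = y ∧ f y = u}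
    one_mem' := ⟨0, zero_pow (pow_ne_zero _ hq.ne_zero), f0⟩
    mul_mem' := by
      rintro _ _ ⟨a, ha, rfl⟩ ⟨b, hb, rfl⟩
      exact ⟨a + b, by rw [add_pow_char_pow, ha, hb], f1 a b⟩
    inv_mem' := by
      rintro _ ⟨a, ha, rfl⟩
      refine ⟨-a, by rw [← zero_sub, sub_pow_char_pow, ha, zero_pow (pow_ne_zero _ hq.ne_zero)], ?_⟩
      have := f1 (-a) a
      rw [neg_add_cancel, f0] at this
      exact eq_inv_of_mul_eq_one_left this.symm }
  have hW : W = A := by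
    refine (irr W (by rintro _ ⟨y, -, rfl⟩; exact (f3 _).2 ⟨y, rfl⟩) ?_).resolve_left ?_
    · rintro _ ⟨y, hy, rfl⟩
      exact ⟨z * y, by rw [mul_pow, h3, hy], (fz y).symm⟩
    · intro h
      have : f 1 ∈ W := ⟨1, one_pow _, rfl⟩
      rw [h, mem_bot, ← f0] at this
      exact one_ne_zero (f2 this)
  have h4 : ∀ y : F, y ^ q ^ e = y := by
    intro y
    have : f y ∈ W := hW ▸ (f3 _).2 ⟨y, rfl⟩
    obtain ⟨y', h, h'⟩ := this
    rwa [← f2 h']
  have h5 : Fintype.card F ≤ q ^ e := by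
    have hne := FiniteField.X_pow_card_pow_sub_X_ne_zero F he0.ne' hq.one_lt
    have hdeg := FiniteField.X_pow_card_pow_sub_X_natDegree_eq F he0.ne' hq.one_lt
    rw [← hdeg]
    refine le_trans ?_ (Polynomial.card_roots' _)
    refine le_trans ?_ (Multiset.toFinset_card_le _)
    rw [← Finset.card_univ]
    refine Finset.card_le_card fun y _ => ?_
    rw [Multiset.mem_toFinset, Polynomial.mem_roots hne]
    simp [h4 y]
  rw [hd] at h5
  have h6 : (d : ℕ) ≤ e := (Nat.pow_le_pow_iff_right hq.one_lt).1 h5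
  rw [hcard, le_antisymm h6 (Nat.le_of_dvd d.pos h2)]

theorem normal_of {A W : Subgroup G} (hA : IsMulCommutative A) {x : G} (h : zpowers x ⊔ A = ⊤)
    (hW : W ≤ A) (hx : ∀ u ∈ W, x * u * x⁻¹ ∈ W) : W.Normal := by
  rw [← normalizer_eq_top_iff, eq_top_iff, ← h]
  refine sup_le (zpowers_le.2 (mem_normalizer_fintype hx)) fun a ha => mem_normalizer_fintype ?_
  intro u hu
  have : a * u = u * a := congrArg Subtype.val (hA.is_comm.comm ⟨a, ha⟩ ⟨u, hW hu⟩)
  rw [this]; simpa using hu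

theorem pc_of_p (h : IsPGroup p G) : IsPClosed p G := by
  intro P
  have : (P : Subgroup G) = ⊤ := (P.is_maximal' (h.to_subgroup ⊤) le_top).symm
  rw [this]; infer_instance

theorem cent_of_pcl {P Q : Subgroup G} (hP : IsPGroup p P) (hQ : (Nat.card Q).Coprime p)
    (hn : P ≤ normalizer (Q : Set G)) (h : PCl p (P ⊔ Q)) : P ≤ centralizer (Q : Set G) := by
  have h1 := (syl_sup_of_cop hP hQ (Or.inl hn)).pcl_iff.1 h
  rw [← commutator_eq_bot_iff_le_centralizer, eq_bot_iff, ← (copA_of_p hP hQ).inf_eq_bot]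
  exact commutator_le_inf' hn (le_sup_right.trans h1)

theorem main (hnc : ¬ IsPClosed p G) (hsub : ∀ H : Subgroup G, H ≠ ⊤ → IsPClosed p ↥H)
    (hquo : ∀ (N : Subgroup G) [N.Normal], N ≠ ⊥ → IsPClosed p (G ⧸ N)) (hns : ¬ IsSimpleGroup G) :
    ∃ q : ℕ, q.Prime ∧ q ≠ p ∧ Nat.card G = p * q ^ orderOf (q : ZMod p) ∧
      ∃ A : Subgroup G, A.Normal ∧ Nat.card ↥A = q ^ orderOf (q : ZMod p) ∧ IsElementaryAbelian q A ∧
        ∀ B : Subgroup G, B.Normal → B ≤ A → B = ⊥ ∨ B = A := by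
  have hnp : ¬ IsPGroup p G := fun h => hnc (pc_of_p h)
  haveI : Nontrivial G := by
    by_contra h
    rw [not_nontrivial_iff_subsingleton] at h
    exact hnp (fun g => ⟨0, Subsingleton.elim _ _⟩)
  obtain ⟨N, hN, hNb, hNt⟩ : ∃ N : Subgroup G, N.Normal ∧ N ≠ ⊥ ∧ N ≠ ⊤ := by
    by_contra h
    push Not at h
    exact hns ⟨fun N hN => by by_cases hb : N = ⊥; exact Or.inl hb; exact Or.inr (h N hN hb)⟩
  obtain ⟨A, hA, hAb, hAN, hmin⟩ := H1.exists_minimal_normal_le N hNb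
  have hAt : A ≠ ⊤ := fun h => hNt (eq_top_iff.2 (h ▸ hAN))
  have hsub' : ∀ H : Subgroup G, H ≠ ⊤ → PCl p H := fun H h => pcl_iff.1 (hsub H h)
  have hnc' : ¬ PCl p (⊤ : Subgroup G) := fun h => hnc (pcl_top_iff.2 h)
  obtain ⟨P, hP⟩ := exists_syl p (⊤ : Subgroup G)
  have hPn : ¬ ⊤ ≤ normalizer (P : Set G) := fun h => hnc' (hP.pcl_iff.2 h)
  have hquo' : ∀ (N : Subgroup G) [N.Normal], N ≠ ⊥ → (P ⊔ N).Normal := by
    intro N _ h
    have h1 := pcl_top_iff.1 (hquo N h)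
    have h2 := hP.map (QuotientGroup.mk' N)
    rw [map_top_of_surjective _ (QuotientGroup.mk'_surjective N)] at h2
    have h3 : (P.map (QuotientGroup.mk' N)).Normal := normalizer_eq_top_iff.1 (eq_top_iff.2 (h2.pcl_iff.1 h1))
    have := h3.comap (QuotientGroup.mk' N)
    rwa [comap_map_eq, QuotientGroup.ker_mk'] at this
  have hPA : P ⊔ A = ⊤ := by
    by_contra h
    haveI := hquo' A hAb
    have h1 := hsub' _ h P le_sup_left hP.isP
    have h2 : Op p (P ⊔ A) ≤ Op p ⊤ := (SN.of_normal_top _).Op_le_Op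
    exact hnc' (hP.pcl_iff'.2 (h1.trans h2))
  have hAc : (Nat.card A).Coprime p := by
    obtain ⟨S, hS⟩ := exists_syl p A
    have h1 : S = Op p A := hS.eq_Op (hS.pcl_iff.1 (hsub' A hAt))
    have h2 : (Op p A).Normal := normalizer_eq_top_iff.1 (eq_top_iff.2
      ((fitCl_p p).normalizer_le le_normalizer_of_normal))
    rcases hmin _ h2 (Op_le p A) with h | h
    · exact hS.eq_bot_iff.1 (h1.trans h)
    · exfalso
      have h3 : A ≤ P := h ▸ ((SN.of_normal_top A).Op_le_Op.trans hP.Op_le)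
      rw [sup_eq_left.2 h3] at hPA
      exact hnp ((hPA ▸ hP.isP).of_surjective (⊤ : Subgroup G).subtype (fun g => ⟨⟨g, trivial⟩, rfl⟩))
  have hPc : ∀ X ≤ P, X ≤ centralizer (A : Set G) → P ≤ normalizer (X : Set G) → X = ⊥ := by
    intro X h1 h2 h3
    by_contra h
    haveI : X.Normal := normalizer_eq_top_iff.1 (eq_top_iff.2 (hPA ▸ sup_le h3
      ((le_centralizer_iff.1 h2).trans (centralizer_le_normalizer _))))
    have := hquo' X h
    rw [sup_eq_left.2 h1] at this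
    exact hPn le_normalizer_of_normal
  have hPb : P ≠ ⊥ := by rintro rfl; exact hPn le_normalizer_of_normal
  have hnotc : ¬ A ≤ centralizer (P : Set G) := fun h =>
    hPb (hPc P le_rfl (le_centralizer_iff.1 h) le_normalizer)
  obtain ⟨q, hq, hqA⟩ : ∃ q, q.Prime ∧ IsPGroup q A := by
    by_contra h
    push Not at h
    refine hnotc (le_of_forall_syl fun q hq => ?_)
    obtain ⟨Q, h1, h2⟩ := cop_exists_syl (le_normalizer_of_normal (H := A) (K := P)) (copA_of_p hP.isP hAc) q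
    refine ⟨Q, h1, le_centralizer_iff.1 (cent_of_pcl hP.isP (hAc.coprime_dvd_left (card_dvd_of_le h1.le)) h2
      (hsub' _ fun e => h q hq.out ?_))⟩
    have hQn : Q.Normal := normalizer_eq_top_iff.1 (eq_top_iff.2 (e ▸ sup_le h2 le_normalizer))
    rcases hmin Q hQn h1.le with h3 | h3
    · rw [h3, sup_bot_eq] at e
      exact absurd ((e ▸ hP.isP).of_surjective (⊤ : Subgroup G).subtype (fun g => ⟨⟨g, trivial⟩, rfl⟩)) hnp
    · exact h3 ▸ h1.isP
  haveI := Fact.mk hq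
  obtain ⟨hcomm, r, hr, hrA⟩ := H1.minimal_normal_elementary (isSolvable_of_isPGroup hqA) hAb hmin
  have hrp : r ≠ p := by
    rintro rfl
    obtain ⟨a, ha, ha1⟩ := (A.bot_or_exists_ne_one).resolve_left hAb
    have h1 : orderOf a = r := orderOf_eq_prime (hrA a ha) ha1
    have h2 : r ∣ Nat.card A := h1 ▸ A.orderOf_dvd_natCard ha
    exact hr.one_lt.ne' (Nat.eq_one_of_dvd_coprimes hAc h2 dvd_rfl)
  have hC : P ⊓ centralizer (A : Set G) = ⊥ := by
    refine hPc _ inf_le_left inf_le_right ?_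
    haveI : (centralizer (A : Set G)).Normal := inferInstance
    exact normalizer_inf le_normalizer le_normalizer_of_normal
  obtain ⟨k, hk⟩ := hP.isP.exists_card_eq
  have hk0 : k ≠ 0 := by rintro rfl; exact hPb (card_eq_one.1 (by simpa using hk))
  obtain ⟨x, hx⟩ := exists_prime_orderOf_dvd_card' (G := P) p (hk ▸ dvd_pow_self p hk0)
  have hxo : orderOf (x : G) = p := by rw [orderOf_coe, hx]
  have hx1 : (x : G) ≠ 1 := by intro h; rw [h, orderOf_one] at hxo; exact hp.out.one_lt.ne hxo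
  have hxc : (x : G) ∉ centralizer (A : Set G) := fun h => hx1 (mem_bot.1 (hC ▸ mem_inf.2 ⟨x.2, h⟩))
  have hxP : IsPGroup p (zpowers (x : G)) := hP.isP.to_le (zpowers_le.2 x.2)
  have hxA : zpowers (x : G) ⊔ A = ⊤ := by
    by_contra h
    exact hxc (cent_of_pcl hxP hAc le_normalizer_of_normal (hsub' _ h) (mem_zpowers _))
  have hcard := card_irr (p := p) hr (A := A) ⟨hcomm, hrA⟩ (x := x) (hxo ▸ pow_orderOf_eq_one _)
    (le_normalizer_of_normal (K := ⊤) trivial) hxc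
    (fun W hW h => hmin W (normal_of hcomm hxA hW h) hW) hrp
  refine ⟨r, hr, hrp, ?_, A, hA, hcard, ⟨hcomm, hrA⟩, hmin⟩
  have := card_sup_mul_card_inf (le_normalizer_of_normal (H := A) (K := zpowers (x : G)))
  rw [hxA, (copA_of_p hxP hAc).inf_eq_bot, card_top, card_bot, mul_one, Nat.card_zpowers, hxo, hcard] at this
  exact this

theorem conv {q : ℕ} (hq : q.Prime) (hpq : q ≠ p)
    (hna : ¬ IsMulCommutative G) (A : Subgroup G) [A.Normal] (hA : IsElementaryAbelian q A) (hidx : A.index = p)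
    (hmin : ∀ B : Subgroup G, B.Normal → B ≤ A → B = ⊥ ∨ B = A) :
    Nat.card ↥A = q ^ orderOf (q : ZMod p) ∧ ¬ IsPClosed p G ∧ (∀ H : Subgroup G, H ≠ ⊤ → IsPClosed p ↥H) ∧
      ∀ (N : Subgroup G) [N.Normal], N ≠ ⊥ → IsPClosed p (G ⧸ N) := by
  haveI := Fact.mk hq
  have hqA : IsPGroup q A := fun a => ⟨1, Subtype.ext (by simpa using hA.2 a a.2)⟩
  have hAc : (Nat.card A).Coprime p := by
    obtain ⟨k, hk⟩ := hqA.exists_card_eq
    rw [hk]; exact ((Nat.coprime_primes hq hp.out).2 hpq).pow_left _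
  have hgen : ∀ x : G, x ∉ A → zpowers x ⊔ A = ⊤ := by
    intro x hx
    have h1 : (zpowers x ⊔ A).index ∣ p := hidx ▸ index_dvd_of_le le_sup_right
    rcases (Nat.dvd_prime hp.out).1 h1 with h | h
    · exact index_eq_one.1 h
    · exfalso
      have h2 := relIndex_mul_index (le_sup_right : A ≤ zpowers x ⊔ A)
      rw [h, hidx] at h2
      have h3 : A.relIndex (zpowers x ⊔ A) = 1 := by
        have := hp.out.pos
        exact Nat.eq_of_mul_eq_mul_right this (by rw [h2, one_mul])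
      exact hx (relIndex_eq_one.1 h3 (mem_sup_left (mem_zpowers x)))
  have hnc : ∀ x : G, x ∉ A → x ∉ centralizer (A : Set G) := by
    intro x hx h
    apply hna
    have h1 : zpowers x ⊔ A ≤ centralizer (A : Set G) := sup_le (zpowers_le.2 h) (le_centralizer_iff_isMulCommutative.2 hA.1)
    have h2 : zpowers x ⊔ A ≤ centralizer (zpowers x : Set G) :=
      sup_le (le_centralizer_iff_isMulCommutative.2 inferInstance) (le_centralizer_iff.1 (zpowers_le.2 h))
    have h3 := sup_le (le_centralizer_iff.1 h2) (le_centralizer_iff.1 h1)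
    rw [hgen x hx] at h3
    exact ⟨⟨fun a b => (h3 (mem_top b) a trivial)⟩⟩
  have hpA : ∀ x : G, orderOf x = p → x ∉ A := fun x hx h =>
    hp.out.one_lt.ne' (Nat.eq_one_of_dvd_coprimes hAc (hx ▸ A.orderOf_dvd_natCard h) dvd_rfl)
  obtain ⟨x, hx⟩ := exists_prime_orderOf_dvd_card' (G := G) p (hidx ▸ A.index_dvd_card)
  have hP : ∀ x : G, orderOf x = p → Syl p (zpowers x) ⊤ := by
    intro x hx
    rw [← hgen x (hpA x hx)]
    exact syl_sup_of_cop (IsPGroup.of_card (n := 1) (by rw [Nat.card_zpowers, hx, pow_one])) hAc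
      (Or.inl le_normalizer_of_normal)
  have hnpc : ¬ IsPClosed p G := by
    intro h
    have := pcl_top_iff.1 h
    rw [← hgen x (hpA x hx)] at this
    exact hnc x (hpA x hx) (cent_of_pcl (hP x hx).isP hAc le_normalizer_of_normal this (mem_zpowers x))
  refine ⟨card_irr hq hA (hx ▸ pow_orderOf_eq_one x) (le_normalizer_of_normal (K := ⊤) trivial)
    (hnc x (hpA x hx)) (fun W hW h => hmin W (normal_of hA.1 (hgen x (hpA x hx)) hW h) hW) hpq, hnpc, ?_, ?_⟩
  · intro H hH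
    by_cases hd : p ∣ Nat.card H
    · obtain ⟨y, hy⟩ := exists_prime_orderOf_dvd_card' (G := H) p hd
      have hy' : orderOf (y : G) = p := by rw [orderOf_coe, hy]
      have h1 := normal_of hA.1 (hgen _ (hpA _ hy')) (W := H ⊓ A) inf_le_right (fun u hu =>
        mem_inf.2 ⟨H.mul_mem (H.mul_mem y.2 hu.1) (H.inv_mem y.2), Normal.conj_mem inferInstance u hu.2 _⟩)
      rcases hmin _ h1 inf_le_right with h | h
      · refine pc_of_p (IsPGroup.of_card_dvd_pow (n := 1) ?_)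
        have h2 := relIndex_mul_card_inf A H
        rw [inf_comm, h, card_bot, mul_one] at h2
        rw [← h2, pow_one, ← hidx]
        exact relIndex_dvd_index_of_normal A H
      · exact absurd (eq_top_iff.2 ((hgen _ (hpA _ hy')).ge.trans (sup_le (zpowers_le.2 y.2) (h ▸ inf_le_left)))) hH
    · exact pcl_iff.2 (pcl_of_cop ((Nat.Prime.coprime_iff_not_dvd hp.out).2 hd).symm)
  · intro N _ hN
    rcases hmin (N ⊓ A) inferInstance inf_le_right with h | h
    · exfalso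
      obtain ⟨y, hy, hy1⟩ := (N.bot_or_exists_ne_one).resolve_left hN
      refine hnc y (fun h' => hy1 (mem_bot.1 (h ▸ mem_inf.2 ⟨hy, h'⟩))) ?_
      exact commutator_eq_bot_iff_le_centralizer.1 (eq_bot_iff.2 (h ▸ commutator_le_inf N A)) hy
    · refine pc_of_p (IsPGroup.of_card_dvd_pow (n := 1) ?_)
      rw [pow_one, ← hidx]
      exact index_dvd_of_le (h ▸ inf_le_left)

theorem pc_of_exp {H : Type*} [Group H] [Finite H] (h1 : ∀ g : H, (∃ k, g ^ p ^ k = 1) → g ^ p = 1)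
    (h2 : ∃ E : Subgroup H, (E : Set H) = {g | g ^ p = 1}) : IsPClosed p H := by
  obtain ⟨E, hE⟩ := h2
  have m : ∀ g, g ∈ E ↔ g ^ p = 1 := fun g => by rw [← SetLike.mem_coe, hE]; rfl
  intro P
  have hEp : IsPGroup p E := fun g => ⟨1, Subtype.ext (by simpa using (m _).1 g.2)⟩
  have h3 : (P : Subgroup H) ≤ E := fun g hg => (m g).2 (h1 g (by
    obtain ⟨k, hk⟩ := P.2 ⟨g, hg⟩
    exact ⟨k, congrArg Subtype.val hk⟩))
  rw [← P.is_maximal' hEp h3]
  exact ⟨fun n hn g => (m _).2 (by rw [conj_pow, (m n).1 hn]; simp)⟩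

theorem main_exp (hnc : ¬ (∃ H : Subgroup G, (H : Set G) = {g : G | g ^ p = 1}))
    (hsub : ∀ K : Subgroup G, K ≠ ⊤ → (∃ H : Subgroup ↥K, (H : Set ↥K) = {g : ↥K | g ^ p = 1}))
    (hquo : ∀ (N : Subgroup G) [N.Normal], N ≠ ⊥ →
      (∃ H : Subgroup (G ⧸ N), (H : Set (G ⧸ N)) = {g : (G ⧸ N) | g ^ p = 1}))
    (hns : ¬ IsSimpleGroup G) (hnp : ¬ IsPGroup p G) :
    ∃ q : ℕ, q.Prime ∧ q ≠ p ∧ Nat.card G = p * q ^ orderOf (q : ZMod p) ∧
      ∃ A : Subgroup G, A.Normal ∧ Nat.card ↥A = q ^ orderOf (q : ZMod p) ∧ IsElementaryAbelian q A ∧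
        ∀ B : Subgroup G, B.Normal → B ≤ A → B = ⊥ ∨ B = A := by
  haveI : Nontrivial G := by
    by_contra h
    rw [not_nontrivial_iff_subsingleton] at h
    exact hnp (fun g => ⟨0, Subsingleton.elim _ _⟩)
  obtain ⟨N, hN, hNb, hNt⟩ : ∃ N : Subgroup G, N.Normal ∧ N ≠ ⊥ ∧ N ≠ ⊤ := by
    by_contra h
    push Not at h
    exact hns ⟨fun N hN => by by_cases hb : N = ⊥; exact Or.inl hb; exact Or.inr (h N hN hb)⟩
  obtain ⟨A, hA, hAb, hAN, hmin⟩ := H1.exists_minimal_normal_le N hNb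
  have hAt : A ≠ ⊤ := fun h => hNt (eq_top_iff.2 (h ▸ hAN))
  have hsub' : ∀ K : Subgroup G, K ≠ ⊤ → ∃ E : Subgroup G, ∀ g, g ∈ E ↔ g ∈ K ∧ g ^ p = 1 := by
    intro K hK
    obtain ⟨E, hE⟩ := hsub K hK
    have m : ∀ g, g ∈ E ↔ g ^ p = 1 := fun g => by rw [← SetLike.mem_coe, hE]; rfl
    refine ⟨E.map K.subtype, fun g => ⟨?_, fun h => ⟨⟨g, h.1⟩, (m _).2 (Subtype.ext h.2), rfl⟩⟩⟩
    rintro ⟨g, hg, rfl⟩
    exact ⟨g.2, congrArg Subtype.val ((m g).1 hg)⟩
  have hpow : ∀ g : G, g ^ p ∈ A := by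
    obtain ⟨E, hE⟩ := hquo A hAb
    have m : ∀ g, g ∈ E ↔ g ^ p = 1 := fun g => by rw [← SetLike.mem_coe, hE]; rfl
    by_cases ht : E.comap (QuotientGroup.mk' A) = ⊤
    · intro g
      have : g ∈ E.comap (QuotientGroup.mk' A) := ht ▸ mem_top g
      rw [mem_comap, m, ← map_pow] at this
      exact (QuotientGroup.eq_one_iff _).1 this
    · obtain ⟨E', hE'⟩ := hsub' _ ht
      refine absurd ⟨E', Set.ext fun g => ?_⟩ hnc
      rw [SetLike.mem_coe, hE']
      refine ⟨fun h => h.2, fun h => ⟨?_, h⟩⟩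
      rw [mem_comap, m, ← map_pow, show g ^ p = 1 from h, map_one]
  have hE : ∀ g ∈ A, g ^ p = 1 → g = 1 := by
    obtain ⟨E, hE⟩ := hsub' A hAt
    have hEn : E.Normal := ⟨fun n hn g => (hE _).2 ⟨hA.conj_mem n ((hE n).1 hn).1 g, by
      rw [conj_pow, ((hE n).1 hn).2]; simp⟩⟩
    rcases hmin E hEn (fun g hg => ((hE g).1 hg).1) with h | h
    · intro g hg h1
      exact mem_bot.1 (h ▸ (hE g).2 ⟨hg, h1⟩)
    · exact absurd (fun g => ⟨2, by rw [pow_two, pow_mul]; exact ((hE _).1 (h ▸ hpow g)).2⟩) hnp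
  have hexp : ∀ g : G, (∃ k, g ^ p ^ k = 1) → g ^ p = 1 := by
    rintro g ⟨k, hk⟩
    induction k generalizing g with
    | zero => simp at hk; simp [hk]
    | succ k ih => exact hE _ (hpow g) (ih _ (by rw [← pow_mul, ← pow_succ']; exact hk))
  refine main (fun h => hnc ?_) (fun H hH => pc_of_exp ?_ (hsub H hH)) (fun M _ hM => pc_of_exp ?_ (hquo M hM)) hns
  · obtain ⟨P⟩ : Nonempty (Sylow p G) := inferInstance
    refine ⟨P, Set.ext fun g => ⟨fun hg => hexp g ?_, fun hg => ?_⟩⟩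
    · obtain ⟨k, hk⟩ := P.2 ⟨g, hg⟩
      exact ⟨k, congrArg Subtype.val hk⟩
    · have h1 : IsPGroup p (zpowers g) := by
        rintro ⟨_, n, rfl⟩
        exact ⟨1, Subtype.ext (by
          show (g ^ n) ^ p ^ 1 = 1
          rw [pow_one]
          rw [← zpow_natCast, ← zpow_mul, mul_comm, zpow_mul, zpow_natCast, show g ^ p = 1 from hg, one_zpow])⟩
      haveI := h P
      exact (syl_top_of_sylow P).le_of_le_normalizer h1 le_top (Or.inl le_normalizer_of_normal) (mem_zpowers g)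
  · rintro g ⟨k, hk⟩
    exact Subtype.ext (hexp g ⟨k, congrArg Subtype.val hk⟩)
  · rintro g ⟨k, hk⟩
    have h1 : IsPGroup p (zpowers g) := by
      rintro ⟨_, n, rfl⟩
      exact ⟨k, Subtype.ext (by
        show (g ^ n) ^ p ^ k = 1
        rw [← zpow_natCast, ← zpow_mul, mul_comm, zpow_mul, zpow_natCast, hk, one_zpow])⟩
    obtain ⟨S, hS, h2⟩ := exists_syl_ge h1 le_top
    rw [← map_top_of_surjective _ (QuotientGroup.mk'_surjective M)] at hS
    obtain ⟨T, hT, rfl⟩ := hS.exists_of_map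
    obtain ⟨t, ht, rfl⟩ := h2 (mem_zpowers g)
    obtain ⟨j, hj⟩ := hT.isP ⟨t, ht⟩
    rw [← map_pow, hexp t ⟨j, congrArg Subtype.val hj⟩, map_one]

end Cfsg.Agent.H2M
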