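import Cfsg.Agent.H2.Small
import Cfsg.Agent.L.PG4

/-!
H2.Res: norm map, transvection trick, strongly resistant groups.
-/

set_option linter.unusedSectionVars false

namespace H2

open Subgroup Cfsg Equiv
open scoped Pointwise commutatorElement

universe u

theorem exists_norm {A V : Type*} [Group A] [Finite A] [CommGroup V] (ρ : A →* MulAut V) (B : Subgroup A) :
    ∃ N : V →* V, (∀ v, (∀ b ∈ B, ρ b v = v) → ∀ a, ρ a (N v) = N v) ∧
      ∀ (L : Subgroup V) (v : V), (∀ a, v⁻¹ * ρ a v ∈ L) → (v ^ B.index)⁻¹ * N v ∈ L := by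
  classical
  have := Fintype.ofFinite (A ⧸ B)
  refine ⟨MonoidHom.mk' (fun v => ∏ q : A ⧸ B, ρ q.out v) fun v w => by simp [Finset.prod_mul_distrib],
    fun v hv a => ?_, fun L v h => ?_⟩
  · simp only [MonoidHom.mk'_apply, map_prod]
    refine Fintype.prod_equiv (MulAction.toPerm a) _ _ fun q => ?_
    obtain ⟨b, hb⟩ := QuotientGroup.mk_out_eq_mul B (a * q.out)
    have e : (MulAction.toPerm a q : A ⧸ B) = ((a * q.out : A) : A ⧸ B) := by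
      rw [MulAction.toPerm_apply, ← smul_eq_mul, ← MulAction.Quotient.smul_coe, QuotientGroup.out_eq']
    rw [e, hb, map_mul, map_mul, MulAut.mul_apply, MulAut.mul_apply, hv b b.2]
  · have : (v ^ B.index)⁻¹ * ∏ q : A ⧸ B, ρ q.out v = ∏ q : A ⧸ B, v⁻¹ * ρ q.out v := by
      rw [Finset.prod_mul_distrib, Finset.prod_const, Finset.card_univ, index_eq_card, Nat.card_eq_fintype_card, inv_pow]
    exact this ▸ L.prod_mem fun q _ => h _

section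
variable {V : Type*} [Group V] {p : ℕ} [hp : Fact p.Prime] {t t' : MulAut V} {z z' y : V}

theorem transv_pow (h2 : t z = z) {m : ℤ} (h : t y = y * z ^ m) (k : ℕ) : (t ^ k) y = y * (z ^ m) ^ k := by
  induction k with
  | zero => simp
  | succ k ih => rw [pow_succ', MulAut.mul_apply, ih, map_mul, map_pow, map_zpow, h2, h, pow_succ', mul_assoc]

theorem exists_transv (hz : z ^ p = 1) (h1 : y⁻¹ * t y ∈ zpowers z) (h2 : t z = z) (h3 : t y ≠ y) (j : ℤ) :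
    ∃ k : ℕ, (t ^ k) y = y * z ^ j := by
  obtain ⟨m, hm⟩ := mem_zpowers_iff.1 h1
  have h4 : z ^ m ≠ 1 := fun e => h3 (by rw [e, eq_inv_mul_iff_mul_eq, mul_one] at hm; exact hm.symm)
  have h5 : orderOf z = p := orderOf_eq_prime hz fun e => h4 (by rw [e, one_zpow])
  have h6 : orderOf (z ^ m) = p := orderOf_eq_prime (by rw [← zpow_natCast, zpow_comm, zpow_natCast, hz, one_zpow]) h4
  have hf : IsOfFinOrder z := orderOf_pos_iff.1 (h5 ▸ hp.out.pos)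
  have := hf.finite_zpowers.to_subtype
  have h7 : zpowers (z ^ m) = zpowers z := eq_of_le_of_card_ge (zpowers_le.2 (zpow_mem (mem_zpowers z) m))
    (by rw [Nat.card_zpowers, Nat.card_zpowers, h5, h6])
  obtain ⟨k, hk⟩ := (hf.zpow (i := m)).mem_powers_iff_mem_zpowers.2 (h7 ▸ zpow_mem (mem_zpowers z) j)
  exact ⟨k, by rw [transv_pow h2 (eq_inv_mul_iff_mul_eq.1 hm).symm, ← hk]⟩

end

section
variable {V : Type*} [CommGroup V] {p : ℕ} [hp : Fact p.Prime] {t t' : MulAut V} {z z' y : V}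

theorem exists_neg (hz : z ^ p = 1) (hz' : z' ^ p = 1) (h1 : ∀ c, c⁻¹ * t c ∈ zpowers z) (h2 : t z = z)
    (h1' : ∀ c, c⁻¹ * t' c ∈ zpowers z') (h2' : t' z' = z') (h3 : t z' ≠ z') (h3' : t' z ≠ z) {G : Subgroup (MulAut V)}
    (ht : t ∈ G) (ht' : t' ∈ G) : ∃ w ∈ G, w z = z⁻¹ ∧ w z' = z'⁻¹ ∧ w * t = t * w ∧ w ^ 2 = 1 := by
  obtain ⟨k, hk⟩ := exists_transv hz (h1 z') h2 h3 1
  obtain ⟨l, hl⟩ := exists_transv hz' (h1' z) h2' h3' (-1)
  have f : ∀ (s : MulAut V) (c : V), s c = c → ∀ k : ℕ, (s ^ k) c = c := fun s c h k =>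
    pow_mem (show s ∈ MulAction.stabilizer (MulAut V) c from h) k
  have a1 : (t ^ k * t' ^ l * t ^ k) z = z'⁻¹ := by
    simp only [MulAut.mul_apply, f _ _ h2, hl, map_mul, map_zpow, hk]; simp [mul_comm]
  have a2 : (t ^ k * t' ^ l * t ^ k) z' = z := by
    simp only [MulAut.mul_apply, hk, map_mul, map_zpow, f _ _ h2', hl, f _ _ h2]; simp [mul_comm, mul_left_comm]
  have a3 : ∀ c, t c = c → t' c = c → (t ^ k * t' ^ l * t ^ k) c = c := fun c e e' => by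
    simp only [MulAut.mul_apply, f _ _ e, f _ _ e']
  have mem := mul_mem (mul_mem (pow_mem ht k) (pow_mem ht' l)) (pow_mem ht k)
  generalize t ^ k * t' ^ l * t ^ k = u at a1 a2 a3 mem
  have b1 : (u * u) z = z⁻¹ := by rw [MulAut.mul_apply, a1, map_inv, a2]
  have b2 : (u * u) z' = z'⁻¹ := by rw [MulAut.mul_apply, a2, a1]
  have b3 : ∀ c, t c = c → t' c = c → (u * u) c = c := fun c e e' => by rw [MulAut.mul_apply, a3 c e e', a3 c e e']
  have gen : ∀ φ ψ : MulAut V, φ z = ψ z → φ z' = ψ z' → (∀ c, t c = c → t' c = c → φ c = ψ c) → φ = ψ := by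
    intro φ ψ e1 e2 e3
    have sub : ∀ (s : MulAut V) (w w' : V), w ^ p = 1 → (∀ c, c⁻¹ * s c ∈ zpowers w) → s w = w → s w' ≠ w' →
        ∀ c, ∃ i : ℕ, s (c * w' ^ i) = c * w' ^ i := fun s w w' k0 k1 k2 k3 c => by
      obtain ⟨a, ha⟩ := mem_zpowers_iff.1 (k1 c)
      obtain ⟨m, hm⟩ := mem_zpowers_iff.1 (k1 w')
      obtain ⟨i, hi⟩ := exists_transv k0 (k1 w') k2 k3 (-a)
      rw [transv_pow k2 (eq_inv_mul_iff_mul_eq.1 hm).symm, mul_right_inj] at hi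
      refine ⟨i, ?_⟩
      rw [map_mul, map_pow, ← eq_inv_mul_iff_mul_eq.1 ha, ← eq_inv_mul_iff_mul_eq.1 hm, mul_pow, hi, zpow_neg, mul_mul_mul_comm, mul_inv_cancel, mul_one]
    ext c
    obtain ⟨i, hi⟩ := sub t z z' hz h1 h2 h3 c
    obtain ⟨j, hj⟩ := sub t' z' z hz' h1' h2' h3' (c * z' ^ i)
    have := e3 _ (by rw [map_mul, hi, map_pow, h2]) hj
    simpa [e1, e2] using this
  obtain ⟨m, hm⟩ := mem_zpowers_iff.1 (h1 z')
  refine ⟨u * u, mul_mem mem mem, b1, b2, gen _ _ ?_ ?_ fun c e e' => ?_, gen _ _ ?_ ?_ fun c e e' => ?_⟩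
  · rw [MulAut.mul_apply, h2, MulAut.mul_apply _ t, b1, map_inv, h2]
  · rw [MulAut.mul_apply, MulAut.mul_apply _ t, b2, map_inv, ← eq_inv_mul_iff_mul_eq.1 hm, map_mul, map_zpow, b1, b2]
    simp [mul_comm]
  · rw [MulAut.mul_apply, MulAut.mul_apply _ t, e, b3 c e e', e]
  · rw [sq, MulAut.mul_apply, b1, map_inv, b1, inv_inv]; rfl
  · rw [sq, MulAut.mul_apply, b2, map_inv, b2, inv_inv]; rfl
  · rw [sq, MulAut.mul_apply, b3 c e e', b3 c e e']; rfl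
end

variable {Ω : Type u} [Group Ω] {S T U W : Subgroup Ω} {F : FusionSystem S} {E : FusionSystem T}
  {P Q R D A C : Subgroup Ω} {σ τ α β γ : Perm Ω} {x y z : Ω}
variable {p : ℕ} [hp : Fact p.Prime]

/-- restriction of a group of permutations to an invariant subgroup -/
def resAut (B : Subgroup (Perm Ω)) (P : Subgroup Ω) (h : ∀ α ∈ B, HomOn P α) (hs : B ≤ Stab P) : B →* MulAut P :=
  MonoidHom.mk' (fun α => toAut (h α α.2) (hs α.2)) fun _ _ => by ext; rfl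

theorem resAut_apply {B : Subgroup (Perm Ω)} {h : ∀ α ∈ B, HomOn P α} {hs : B ≤ Stab P} (α : B) (x : P) :
    (resAut B P h hs α x : Ω) = α.1 x := rfl

theorem mem_of_pow_coprime [Finite P] (hP : IsPGroup p P) (hx : x ∈ P) {m : ℕ} (hm : ¬ p ∣ m) (h : x ^ m ∈ Q) : x ∈ Q := by
  obtain ⟨k, hk⟩ := hP ⟨x, hx⟩
  exact mem_of_pow_mem_of_coprime (congrArg Subtype.val hk) ((hp.out.coprime_iff_not_dvd).2 hm).symm h

variable [Finite S]

/-- the norm map onto `Z(F)` -/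
theorem Sat.exists_normZ (hF : Sat p F) (hQ : F.IsNormal Q) (hZ : S ⊓ centralizer (S : Set Ω) ≤ Q) :
    ∃ (N : Ω → Ω) (m : ℕ), ¬ p ∣ m ∧ HomOn (S ⊓ centralizer (S : Set Ω)) N ∧
      ∀ x ∈ S ⊓ centralizer (S : Set Ω), N x ∈ F.center ∧ ∀ L : Subgroup Ω,
        (∀ α ∈ Aut F Q, x⁻¹ * α x ∈ L) → (x ^ m)⁻¹ * N x ∈ L := by
  let V := Q ⊓ centralizer (Q : Set Ω)
  let _ : CommGroup V := { mul_comm := fun x y => Subtype.ext (y.2.2 _ x.2.1) }
  have hV : S ⊓ centralizer (S : Set Ω) ≤ V := fun x hx => ⟨hZ hx, fun y hy => hx.2 y (hQ.1 hy)⟩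
  have := finite_of_le (inf_le_left.trans hQ.1 : V ≤ S)
  obtain ⟨N, h1, h2⟩ := exists_norm (resAut (Aut F Q) V (fun α hα => (Aut.homOn hα).mono inf_le_left) fun α hα =>
    ((Aut.homOn hα).mono inf_le_left).mem_Stab fun x hx => center_apply (Aut.homOn hα) (Aut_le_Stab F Q hα) hx)
    ((AutS S Q).subgroupOf (Aut F Q))
  refine ⟨fn (V.subtype.comp N), _, (hF.syl (sc_fn (normal_sc hQ))).not_dvd, (homOn_fn _).mono hV, fun x hx => ?_⟩
  rw [fn_apply _ (hV hx)]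
  refine ⟨(mem_center_iff_fix hF).2 ⟨hQ.1 (N _).2.1, fun P σ hσ h3 => ?_⟩, fun L hL => h2 (L.subgroupOf V) ⟨x, hV hx⟩
    fun a => hL a a.2⟩
  obtain ⟨α, h4, h5⟩ := normal_autExt hQ (hσ.mono (zpowers_le.2 h3)) (zpowers_le.2 (N _).2.1)
  rw [← h5 _ (mem_zpowers _)]
  refine congrArg Subtype.val (h1 ⟨x, hV hx⟩ (fun b hb => Subtype.ext ?_) ⟨α, h4⟩)
  obtain ⟨s, h6, h7, h8⟩ := mem_AutS.1 hb
  rw [resAut_apply, show b.1 = _ from h8.symm, cP_apply h7 (hZ hx), hx.2 s h6, mul_inv_cancel_right]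

theorem Sat.center_split (hF : Sat p F) (hQ : F.IsNormal Q) (hZ : S ⊓ centralizer (S : Set Ω) ≤ Q) :
    ∃ K ≤ S ⊓ centralizer (S : Set Ω), F.center ⊓ K = ⊥ ∧ F.center ⊔ K = S ⊓ centralizer (S : Set Ω) ∧
      ∀ L : Subgroup Ω, (∀ α ∈ Aut F Q, ∀ x ∈ S ⊓ centralizer (S : Set Ω), x⁻¹ * α x ∈ L) → K ≤ L := by
  obtain ⟨N, m, hm, hN, h⟩ := hF.exists_normZ hQ hZ
  have hc : F.center ≤ S ⊓ centralizer (S : Set Ω) := fun z hz => ⟨center_le F hz, fun x hx => center_comm hz hx⟩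
  have h1 : ∀ z ∈ F.center, N z = z ^ m := fun z hz => (inv_mul_eq_one.1 (mem_bot.1 ((h z (hc hz)).2 ⊥ fun α hα => by
    rw [((mem_center_iff_fix hF).1 hz).2 Q α (Aut.mor hQ.1 hα) (hZ (hc hz)), inv_mul_cancel]; exact one_mem _))).symm
  refine ⟨hN.ker, fun x hx => hx.1, eq_bot_iff.2 fun x hx => mem_of_pow_coprime hF.pg (center_le F hx.1) hm ?_,
    (sup_le hc fun x (hx : x ∈ hN.ker) => hx.1).antisymm fun x hx => mem_of_pow_coprime hF.pg hx.1 hm ?_,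
    fun L hL x hx => mem_of_pow_coprime hF.pg hx.1.1 hm ?_⟩
  · rw [← h1 x hx.1, hx.2.2]; exact one_mem _
  · have h2 := (h x hx).1
    have h3 := inv_mem (hc h2)
    have : (N x)⁻¹ * x ^ m ∈ hN.ker := ⟨mul_mem h3 (pow_mem hx m), by
      rw [hN.map_mul h3 (pow_mem hx m), hN.map_inv (hc h2), h1 _ h2, hN.map_pow hx, inv_mul_cancel]⟩
    simpa using mul_mem (mem_sup_left h2) (mem_sup_right this)
  · have := (h x hx.1).2 L fun α hα => hL α hα x hx.1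
    rwa [hx.2, mul_one, inv_mem_iff] at this

theorem Sat.normal_of_sm_chain (hF : Sat p F) (hP : F.StronglyClosed P) (c : ℕ → Subgroup Ω) (n : ℕ) (h0 : c 0 = ⊥)
    (h1 : ∀ x ∈ P, x ^ sm p = 1 → x ∈ c n) (h2 : ∀ i ≤ n, F.StronglyClosed (c i))
    (h3 : ∀ i < n, ∀ x ∈ c (i + 1), ∀ a ∈ P, x⁻¹ * (a * x * a⁻¹) ∈ c i) : F.IsNormal P := by
  refine hF.normal_of_wc (wc_of_sc hP) fun R _ hc hr => ?_
  have := finite_of_le (inf_le_left.trans hc.1 : R ⊓ P ≤ S)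
  obtain ⟨D, hD⟩ := exists_smD (hF.pg.to_le (inf_le_left.trans hc.1 : R ⊓ P ≤ S))
  refine le_of_mem_Oc hF.pg hc hr hP.1 (hc.1.trans (sc_normalizer hP)) fun a ha hn => ?_
  refine hD.mem_Oc hF.pg hc.1 hP (L := modFix (Aut F R) R P (Aut_le_Stab F R)) (fun _ h => h.1)
    (Aut_le_normalizer_modFix hc.1 fun α hα x hx hx' => sc_apply hP (Aut.mor hc.1 hα) hx hx')
    (fun α hα _ => hα.2) c n (fun x hx => h1 x (hD.le hx).2 (hD.exp x hx)) h0
    (fun i hi α hα x hx hx' => sc_apply (h2 i hi) (Aut.mor hc.1 hα.1) (hD.le hx).1 hx')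
    ⟨cP_mem_Aut F hc.1 (hP.1 ha) hn, fun x hx => ?_⟩ fun i hi x hx hx' => ?_
  · rw [cP_apply hn hx]
    have := (mem_normalizer_iff.1 (sc_normalizer hP (inv_mem (hc.1 hx))) a).1 ha
    simpa [mul_assoc] using mul_mem this (inv_mem ha)
  · rw [cP_apply hn (hD.le hx).1]
    exact h3 i hi x hx' a ha

/-- automorphisms stabilizing a chain lie in a common `p`-subgroup -/
theorem exists_pgroup_of_chain {B : Subgroup (Perm Ω)} [Finite B] (hP : IsPGroup p P) (hB : B ≤ Sym P)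
    (hB' : ∀ α ∈ B, HomOn P α) (c : ℕ → Subgroup Ω) (n : ℕ) (hn : P ≤ c n) (h0 : c 0 = ⊥) (hm : ∀ i < n, c i ≤ c (i + 1)) :
    ∃ K ≤ B, IsPGroup p K ∧ ∀ β ∈ B, (∀ i < n, ∀ x ∈ P, x ∈ c (i + 1) → x⁻¹ * β x ∈ c i) → β ∈ K := by
  have hS := hB.trans (Sym_le_Stab P)
  let K := predSubgroup B (fun β => ∀ i < n, ∀ x ∈ P, x ∈ c (i + 1) → x⁻¹ * β x ∈ c i) (fun i _ x _ _ => by simp)
    fun a _ b hb h1 h2 i hi x hx hx' => by
      have h3 := h2 i hi x hx hx'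
      have := mul_mem h3 (h1 i hi _ ((hS hb x).2 hx) (by simpa using mul_mem hx' (hm i hi h3)))
      simpa [mul_assoc] using this
  have hK : K ≤ B := fun _ h => h.1
  have := finite_of_le hK
  refine ⟨K, hK, isPGroup_of_forall_coprime fun γ hγ hc => Sym_ext (hB hγ.1) (one_mem _) fun x hx => ?_,
    fun β h1 h2 => ⟨h1, h2⟩⟩
  exact fix_of_chain hP (hB' γ hγ.1) (fun x hx => (hS hγ.1 x).2 hx) hc c n
    (fun y _ hy => by rw [h0, mem_bot] at hy; rw [hy, (hB' γ hγ.1).map_one]) hγ.2 x hx (hn hx)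

theorem Sat.transv_ne (hF : Sat p F) (hP : F.StronglyClosed P) (hC : F.IsNormal C) (hz : z ∈ C) (hz1 : z ^ p = 1)
    (h1 : ∀ g ∈ P, ∀ c ∈ C, c⁻¹ * (g * c * g⁻¹) ∈ zpowers z) (hx : x ∈ P) (h2 : x * z * x⁻¹ = z)
    (h3 : x ∉ centralizer (C : Set Ω)) (hα : α ∈ Aut F C) (h4 : α z ∉ zpowers z) : x * α z * x⁻¹ ≠ α z := by
  intro h5
  have hn := sc_normalizer (normal_sc hC) (hP.1 hx)
  have ht := cP_mem_Aut F hC.1 (hP.1 hx) hn
  have hs := Aut_le_Stab F C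
  have a1 : ∀ c ∈ C, c⁻¹ * (α * cP C x * α⁻¹) c ∈ zpowers (α z) := fun c hc => by
    have b1 := Aut.mem (inv_mem hα) hc
    have b2 := mem_img_of_mem (f := α) (h1 x hx _ b1)
    rw [((Aut.homOn hα).mono (zpowers_le.2 hz)).img_zpowers, (Aut.homOn hα).map_mul (inv_mem b1)
      (cP_apply hn b1 ▸ Aut.mem ht b1), (Aut.homOn hα).map_inv b1, pai] at b2
    rwa [Perm.mul_apply, Perm.mul_apply, cP_apply hn b1]
  obtain ⟨K, k1, k2, k3⟩ := exists_pgroup_of_chain (hF.pg.to_le hC.1) (Aut_le_Sym F C) (fun α h => Aut.homOn h)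
    (fun i => if i = 0 then ⊥ else if i = 1 then zpowers (α z) else if i = 2 then zpowers (α z) ⊔ zpowers z else C) 3
    le_rfl rfl fun i hi => by
      interval_cases i
      exacts [bot_le, le_sup_left, sup_le (zpowers_le.2 (Aut.mem hα hz)) (zpowers_le.2 hz)]
  have fx : ∀ β ∈ Aut F C, ∀ w ∈ C, β w = w → ∀ y ∈ zpowers w, β y = y := fun β hβ w hw e y ⟨k, hk⟩ => by
    rw [← hk, (Aut.homOn hβ).map_zpow hw, e]
  have m1 : cP C x ∈ K := k3 _ ht fun i hi y hy hy' => by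
    interval_cases i
    · rw [fx _ ht _ (Aut.mem hα hz) (by rw [cP_apply hn (Aut.mem hα hz), h5]) y hy', inv_mul_cancel]; exact one_mem _
    · rw [((Aut.homOn ht).mono (sup_le (zpowers_le.2 (Aut.mem hα hz)) (zpowers_le.2 hz))).eqOn_sup (homOn_id _)
        (fx _ ht _ (Aut.mem hα hz) (by rw [cP_apply hn (Aut.mem hα hz), h5]))
        (fx _ ht _ hz (by rw [cP_apply hn hz, h2])) y hy', inv_mul_cancel]; exact one_mem _
    · rw [cP_apply hn hy]; exact mem_sup_right (h1 x hx y hy)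
  have ht' := mul_mem (mul_mem hα ht) (inv_mem hα)
  have m2 : α * cP C x * α⁻¹ ∈ K := k3 _ ht' fun i hi y hy hy' => by
    interval_cases i
    · rw [fx _ ht' _ (Aut.mem hα hz) (by simp [cP_apply hn hz, h2]) y hy', inv_mul_cancel]; exact one_mem _
    · exact a1 y hy
    · exact mem_sup_left (a1 y hy)
  obtain ⟨χ, k4, k5⟩ := (hF.syl (sc_fn (normal_sc hC))).exists_cj_le k2 k1
  have key : ∀ χ ∈ Aut F C, χ * cP C x * χ⁻¹ ∈ AutS S C → χ z ∈ zpowers z := fun χ hχ h => by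
    have b1 := hF.conj_mem_AutS hP (Aut.mor hC.1 hχ) (by rw [Aut.img_eq hχ]; exact hF.fc_of_fn (sc_fn (normal_sc hC)))
      (cP_mem_AutS hx hn) (by rwa [Aut.img_eq hχ])
    rw [Aut.img_eq hχ] at b1
    obtain ⟨g, b2, b3, b4⟩ := mem_AutS.1 b1
    obtain ⟨c, hc, b5⟩ : ∃ c ∈ C, c⁻¹ * (x * c * x⁻¹) ≠ 1 := by
      by_contra! b5
      exact h3 fun c hc => by rw [← mul_inv_eq_iff_eq_mul.1 (inv_mul_eq_one.1 (b5 c hc)).symm]
    have b6 := h1 g b2 _ (Aut.mem hχ hc)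
    rw [← cP_apply b3 (Aut.mem hχ hc), b4, Perm.mul_apply, Perm.mul_apply, pia, ← (Aut.homOn hχ).map_inv hc,
      ← (Aut.homOn hχ).map_mul (inv_mem hc) (Aut.mem ht hc), cP_apply hn hc] at b6
    have b7 : zpowers (c⁻¹ * (x * c * x⁻¹)) = zpowers z := by
      have := finite_of_le ((zpowers_le.2 hz).trans hC.1)
      have b8 := zpowers_le.2 (h1 x hx c hc)
      have b9 : orderOf z = p := orderOf_eq_prime hz1 fun e => b5 (by simpa [e] using h1 x hx c hc)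
      refine eq_of_le_of_card_ge b8 ?_
      have := card_dvd_of_le b8
      rw [Nat.card_zpowers z, b9] at this ⊢
      exact ((Nat.dvd_prime hp.out).1 this).elim (fun e => (b5 (by simpa using e)).elim) Eq.ge
    refine img_le_iff.1 ?_ z (mem_zpowers z)
    rw [← b7, ((Aut.homOn hχ).mono (b7 ▸ zpowers_le.2 hz)).img_zpowers, b7, zpowers_le]
    exact b6
  have c1 := key χ k4 (cj_le_iff_forall.1 k5 _ m1)
  have c2 := key (χ * α) (mul_mem k4 hα) (by simpa [mul_assoc] using cj_le_iff_forall.1 k5 _ m2)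
  have c3 := (Aut.mor hC.1 k4).mem_Stab (zpowers_le.2 hz) (img_le_iff.1 (by
    rwa [((Aut.homOn k4).mono (zpowers_le.2 hz)).img_zpowers, zpowers_le]))
  exact h4 ((c3 _).1 c2)

/-- the `-1` trick -/
theorem Sat.exists_neg (hF : Sat p F) (hp2 : p ≠ 2) (hP : F.StronglyClosed P) (hC : F.IsNormal C) (hCP : C ≤ P)
    (hc : C ≤ centralizer (C : Set Ω)) (hz : z ∈ C) (hz1 : z ^ p = 1)
    (h1 : ∀ g ∈ P, ∀ c ∈ C, c⁻¹ * (g * c * g⁻¹) ∈ zpowers z) (hx : x ∈ P) (h2 : x * z * x⁻¹ = z)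
    (h3 : x ∉ centralizer (C : Set Ω)) (h4 : ∀ g ∈ P, ∃ k : ℕ, ∀ c ∈ C, g * c * g⁻¹ = x ^ k * c * (x ^ k)⁻¹)
    (h5 : ¬ F.StronglyClosed (zpowers z)) : ∃ β ∈ Aut F P, (orderOf β).Coprime p ∧ β z = z⁻¹ ∧
      (∃ z' ∈ C, z' ∉ zpowers z ∧ β z' = z'⁻¹) ∧ (∀ c ∈ C, β (β c) = c) ∧ x⁻¹ * β x ∈ centralizer (C : Set Ω) := by
  obtain ⟨α, hα, h6⟩ : ∃ α ∈ Aut F C, α z ∉ zpowers z := by
    by_contra! h
    exact h5 (sc_of_autExt hC.1 (fun _ hR _ hσ => normal_autExt hC hσ hR) (zpowers_le.2 hz) fun α hα => img_le_iff.1 (by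
      rw [((Aut.homOn hα).mono (zpowers_le.2 hz)).img_zpowers, zpowers_le]; exact h α hα))
  have h7 : α⁻¹ z ∉ zpowers z := fun h => h6 (((Aut.mor hC.1 (inv_mem hα)).mem_Stab (zpowers_le.2 hz) (img_le_iff.1 (by
    rwa [((Aut.homOn (inv_mem hα)).mono (zpowers_le.2 hz)).img_zpowers, zpowers_le])) _).1 (by simp))
  have hn := sc_normalizer (normal_sc hC) (hP.1 hx)
  have ht := cP_mem_Aut F hC.1 (hP.1 hx) hn
  let _ : CommGroup C := { mul_comm := fun x y => Subtype.ext (hc y.2 _ x.2) }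
  let ρ := resAut (Aut F C) C (fun α h => Aut.homOn h) (Aut_le_Stab F C)
  have a1 : ∀ c : C, c⁻¹ * ρ ⟨_, ht⟩ c ∈ zpowers (⟨z, hz⟩ : C) := fun c => by
    obtain ⟨k, hk⟩ := mem_zpowers_iff.1 (h1 x hx c c.2)
    exact ⟨k, Subtype.ext (by simpa [ρ, resAut_apply, cP_apply hn c.2] using hk)⟩
  have a2 : ρ ⟨_, ht⟩ ⟨z, hz⟩ = ⟨z, hz⟩ := Subtype.ext ((cP_apply hn hz).trans h2)
  obtain ⟨_, ⟨w, rfl⟩, b1, b2, b3, b4⟩ := H2.exists_neg (p := p) (G := ρ.range) (t := ρ ⟨_, ht⟩)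
    (t' := ρ ⟨α, hα⟩ * ρ ⟨_, ht⟩ * (ρ ⟨α, hα⟩)⁻¹) (z := ⟨z, hz⟩) (z' := ρ ⟨α, hα⟩ ⟨z, hz⟩) (Subtype.ext hz1)
    (by rw [← map_pow, show (⟨z, hz⟩ : C) ^ p = 1 from Subtype.ext hz1, map_one]) a1 a2 (fun c => by
      obtain ⟨k, hk⟩ := mem_zpowers_iff.1 (a1 ((ρ ⟨α, hα⟩)⁻¹ c))
      exact ⟨k, by simp only [← map_zpow, hk, map_mul, map_inv]; simp⟩) (by simp [a2])
    (fun e => hF.transv_ne hP hC hz hz1 h1 hx h2 h3 hα h6 ((cP_apply hn (Aut.mem hα hz)).symm.trans (congrArg Subtype.val e)))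
    (fun e => hF.transv_ne hP hC hz hz1 h1 hx h2 h3 (inv_mem hα) h7 ((cP_apply hn (Aut.mem (inv_mem hα) hz)).symm.trans
      (α.injective ((congrArg Subtype.val e).trans (pai α z).symm))))
    ⟨_, rfl⟩ (mul_mem (mul_mem ⟨_, rfl⟩ ⟨_, rfl⟩) (inv_mem ⟨_, rfl⟩))
  have c1 : ∀ c ∈ C, w.1 (x * c * x⁻¹) = x * w.1 c * x⁻¹ := fun c hc => by
    rw [← cP_apply hn hc, ← cP_apply hn (Aut.mem w.2 hc)]
    exact congrArg Subtype.val (DFunLike.congr_fun b3 ⟨c, hc⟩)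
  have c2 : ∀ c ∈ C, w.1 (w.1 c) = c := fun c hc => by
    have := congrArg Subtype.val (DFunLike.congr_fun ((sq _).symm.trans b4) ⟨c, hc⟩); exact this
  have c3 : ∀ k : ℕ, ∀ c ∈ C, w.1 (x ^ k * c * (x ^ k)⁻¹) = x ^ k * w.1 c * (x ^ k)⁻¹ := fun k => by
    induction k with
    | zero => simp
    | succ k ih =>
      intro c hc
      have := c1 _ ((mem_normalizer_iff.1 (pow_mem hn k) c).1 hc)
      rw [ih c hc] at this
      simpa [pow_succ', mul_assoc] using this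
  obtain ⟨τ, d1, d2⟩ := hF.extend (Aut.mor hC.1 w.2) (by rw [Aut.img_eq w.2]; exact hF.fc_of_fn (sc_fn (normal_sc hC)))
  have d3 : Mor F P τ := d1.mono fun g hg => by
    obtain ⟨k, hk⟩ := h4 g hg
    exact mem_Nphi.2 ⟨hP.1 hg, sc_normalizer (normal_sc hC) (hP.1 hg), _, pow_mem (hP.1 hx) k,
      fun c hc => by rw [hk c hc, c3 k c hc]⟩
  obtain ⟨β, e1, e2, -, e3⟩ := exists_coprime_ext (p := p) d3 (sc_Stab hP d3 le_rfl) hCP w.2
    (Nat.Coprime.coprime_dvd_left (orderOf_dvd_of_pow_eq_one (Sym_ext (Aut_le_Sym F C (pow_mem w.2 2)) (one_mem _)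
      fun c hc => by rw [sq]; exact c2 c hc)) ((Nat.coprime_primes Nat.prime_two hp.out).2 hp2.symm)) d2
  refine ⟨β, e1, e2, (e3 z hz).trans (congrArg Subtype.val b1), ⟨α z, Aut.mem hα hz, h6,
    (e3 _ (Aut.mem hα hz)).trans (congrArg Subtype.val b2)⟩, fun c hc => by rw [e3 c hc, e3 _ (Aut.mem w.2 hc), c2 c hc],
    fun c hc => ?_⟩
  have f1 := Aut.mem (inv_mem w.2) hc
  have f2 := (Aut.homOn e1).map_conj hx (hCP f1)
  rw [e3 _ ((mem_normalizer_iff.1 hn _).1 f1), c1 _ f1, e3 _ f1, pai] at f2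
  calc c * (x⁻¹ * β x) = x⁻¹ * (x * c * x⁻¹) * β x := by group
    _ = _ := by rw [f2]; group

end H2
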