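import Cfsg.Agent.H2.Res
import Cfsg.Agent.H1.ES
import Cfsg.Agent.H5.Dih
import Cfsg.Agent.H1.Amb

/-!
H2.Res2: strongly resistant groups (metacyclic odd, generalized extraspecial).
-/

set_option linter.unusedSectionVars false

namespace H2

open Subgroup Cfsg Equiv
open scoped Pointwise commutatorElement

universe u

section
variable {G : Type*} [Group G] {p : ℕ} [hp : Fact p.Prime] {x y z w : G} {Q : Subgroup G}

theorem zp_eq (hz : z ^ p = 1) (hw : w ∈ zpowers z) (h : w ≠ 1) : zpowers w = zpowers z := by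
  have h5 : orderOf z = p := orderOf_eq_prime hz fun e => h (by simpa [e] using hw)
  have := (orderOf_pos_iff.1 (h5 ▸ hp.out.pos)).finite_zpowers.to_subtype
  have h1 := card_dvd_of_le (zpowers_le.2 hw)
  refine eq_of_le_of_card_ge (zpowers_le.2 hw) ?_
  rw [Nat.card_zpowers z, h5] at h1 ⊢
  exact ((Nat.dvd_prime hp.out).1 h1).elim (fun e => (h (by simpa using e)).elim) Eq.ge

theorem ws_map {G' : Type*} [Group G'] {f : G →* G'} (hf : Function.Injective f) (h : H1.WS p Q z) :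
    H1.WS p (Q.map f) (f z) :=
  ⟨mem_map_of_mem f h.mem, (orderOf_injective f hf z).trans h.ord, by
    rintro _ ⟨x, hx, rfl⟩; exact (h.cen x hx).map f, by
    rintro _ ⟨x, hx, rfl⟩ _ ⟨y, hy, rfl⟩
    rw [← map_commutatorElement, ← MonoidHom.map_zpowers]; exact mem_map_of_mem f (h.comm x hx y hy)⟩

theorem exists_ws [Finite G] (hG : IsPGroup p G) (h : Nat.card (commutator G) = p) :
    ∃ z a b : G, H1.WS p ⊤ z ∧ ⁅a, b⁆ = z ∧ zpowers z = commutator G := by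
  have hb : commutator G ≠ ⊥ := fun e => hp.out.one_lt.ne' (by rw [← h, e, card_bot])
  obtain ⟨a, b, hab⟩ : ∃ a b : G, ⁅a, b⁆ ≠ 1 := by
    by_contra! h'
    exact hb (eq_bot_iff.2 (commutator_le.2 fun a _ b _ => h' a b))
  have m : ∀ a b : G, ⁅a, b⁆ ∈ commutator G := fun a b => commutator_mem_commutator (mem_top a) (mem_top b)
  have o : ∀ w ∈ commutator G, w ≠ 1 → orderOf w = p := fun w hw h1 => orderOf_eq_prime (by
    have := pow_card_eq_one' (x := (⟨w, hw⟩ : commutator G)); rw [h] at this; exact congrArg Subtype.val this) h1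
  have e : ∀ w ∈ commutator G, w ≠ 1 → zpowers w = commutator G := fun w hw h1 =>
    eq_of_le_of_card_ge (zpowers_le.2 hw) (by rw [Nat.card_zpowers, o w hw h1, h])
  obtain ⟨⟨c, hc⟩, h1⟩ := ne_bot_iff_exists_ne_one.1 (inf_centralizer_ne_bot (hG.to_subgroup ⊤) le_top
    (normalizer_eq_top (commutator G)).ge hb)
  have h2 : commutator G ≤ centralizer ((⊤ : Subgroup G) : Set G) := by
    rw [← e c hc.1 fun e => h1 (Subtype.ext e), zpowers_le]; exact hc.2
  exact ⟨_, a, b, ⟨mem_top _, o _ (m a b) hab, fun x hx => h2 (m a b) x hx, fun x _ y _ => (e _ (m a b) hab).ge (m x y)⟩,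
    rfl, e _ (m a b) hab⟩

theorem gen_extra [Finite G] (h : H1.WS p ⊤ z) (hq : ∀ x : G, x ^ p ∈ zpowers z) (hn : ¬ Commute x y)
    (hC : IsElementaryAbelian p (centralizer {y})) : ∃ A : Subgroup G, IsElementaryAbelian p A ∧
      IsExtraspecial p (closure {x, y}) ∧ Nat.card (closure {x, y}) = p ^ 3 ∧ Nonempty (G ≃* closure {x, y} × A) := by
  have h0 : ⁅x, y⁆ ≠ 1 := fun e => hn (H1.cm_iff.1 e)
  have h1 := zp_eq h.zp (h.comm x trivial y trivial) h0
  have h' : H1.WS p ⊤ ⁅x, y⁆ := ⟨trivial, by rw [← Nat.card_zpowers, h1, h.card_zp],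
    fun g _ => H1.cm_of_zp (h.cen g trivial) (h.comm x trivial y trivial), fun a _ b _ => h1.ge (h.comm a trivial b trivial)⟩
  rw [← h1] at hq
  generalize hz : ⁅x, y⁆ = w at h' hq
  have a1 : H1.CC ⊤ x y ≤ centralizer {y} := inf_le_right
  have a2 : ∀ c ∈ H1.CC ⊤ x y, ∀ g, Commute c g := fun c hc g => h'.cen_of trivial trivial hz (H1.mem_CC.1 hc).2.1
    (H1.mem_CC.1 hc).2.2 (fun d hd => congrArg Subtype.val (hC.1.1.1 ⟨c, a1 hc⟩ ⟨d, a1 hd⟩)) g trivial
  obtain ⟨A, hA⟩ := FT.exists_compl_elem (p := p) (V := H1.CC ⊤ x y) ⟨⟨⟨fun a b => Subtype.ext (a2 a a.2 b)⟩⟩,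
    fun a ha => hC.2 a (a1 ha)⟩ (h'.CC trivial trivial).zle
  have hx : x ∈ closure {x, y} := subset_closure (by simp)
  have hy : y ∈ closure {x, y} := subset_closure (by simp)
  have hw : w ∈ closure {x, y} := hz ▸ mul_mem (mul_mem (mul_mem hx hy) (inv_mem hx)) (inv_mem hy)
  have hE := h'.sub le_top hw
  have a3 : Nat.card (closure {x, y}) ≤ p * p ^ 2 := by
    have b1 := H1.card_sup_zp_le hp.out (h'.norm le_top (mem_zpowers w) (mem_top x)) (hq x)
    have b2 := H1.card_sup_zp_le hp.out (h'.norm (A := zpowers w ⊔ zpowers x) le_top (mem_sup_left (mem_zpowers w)) (mem_top y))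
      (mem_sup_left (hq y))
    rw [h'.card_zp] at b1
    refine (card_le_of_le ((closure_le _).2 ?_)).trans (b2.trans ((Nat.mul_le_mul_right p b1).trans_eq (by ring)))
    rintro _ (rfl | rfl)
    exacts [mem_sup_left (mem_sup_right (mem_zpowers _)), mem_sup_right (mem_zpowers _)]
  have a4 := hE.card_CC hx hy hz
  have a5 : zpowers w = H1.CC (closure {x, y}) x y := eq_of_le_of_card_ge (hE.CC hx hy).zle (by
    rw [h'.card_zp]; exact Nat.le_of_mul_le_mul_right (a4 ▸ a3) (pow_pos hp.out.pos 2))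
  have a6 : A ≤ H1.CC ⊤ x y := hA.right_le
  refine ⟨A, ⟨⟨⟨fun a b => Subtype.ext (a2 a (a6 a.2) b)⟩⟩, fun a ha => hC.2 a (a1 (a6 ha))⟩,
    hE.extra (fun c hc h2 => a5.ge (H1.mem_CC.2 ⟨hc, h2 x hx, h2 y hy⟩)) fun e => hn (H1.cm_of_zp (h'.cen x trivial) (e.le hy)),
    by rw [a4, ← a5, h'.card_zp]; ring, ?_⟩
  obtain ⟨e⟩ := H1.sup_equiv_prod (A := closure {x, y}) (B := A) (fun c _ a ha => a2 a (a6 ha) c)
    (eq_bot_iff.2 fun c hc => hA.inf.le ⟨a5.ge (H1.mem_CC.2 ⟨hc.1, a2 c (a6 hc.2) x, a2 c (a6 hc.2) y⟩), hc.2⟩)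
  have a7 : closure {x, y} ⊔ A = ⊤ := eq_top_iff.2 ((h'.gen trivial trivial hz).ge.trans (sup_le (sup_le
    (hA.sup.ge.trans (sup_le_sup_right (zpowers_le.2 hw) _)) ((zpowers_le.2 hx).trans le_sup_left))
    ((zpowers_le.2 hy).trans le_sup_left)))
  exact ⟨(topEquiv.symm.trans (MulEquiv.subgroupCongr a7.symm)).trans e⟩
end

variable {Ω : Type u} [Group Ω] {S T U V W : Subgroup Ω} {F : FusionSystem S} {E : FusionSystem T}
  {P Q R D A C : Subgroup Ω} {σ τ α β γ : Perm Ω} {x y z : Ω}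
variable {p : ℕ} [hp : Fact p.Prime] [Finite S]

theorem exists_not_zp (hz : z ∈ S) (hz1 : z ^ p = 1) (h : ¬ F.StronglyClosed (zpowers z)) :
    ∃ σ : Perm Ω, Mor F (zpowers z) σ ∧ σ z ∉ zpowers z := by
  by_contra! h'
  refine h (stronglyClosed_iff'.2 ⟨zpowers_le.2 hz, fun P f hf x hx hx' => ?_⟩)
  rcases eq_or_ne x 1 with rfl | h1
  · rw [hf.homOn.map_one]; exact one_mem _
  obtain ⟨σ, h2, h3⟩ := (hf.mono (zpowers_le.2 hx)).perm
  rw [zp_eq hz1 hx' h1] at h2 h3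
  obtain ⟨k, rfl⟩ := mem_zpowers_iff.1 hx'
  rw [← h3 _ hx', h2.homOn.map_zpow (mem_zpowers z)]
  exact zpow_mem (h' σ h2) k

theorem Sat.gen_extra (hF : Sat p F) (hP : F.StronglyClosed P) (hw : H1.WS p P z) (hq : ∀ x ∈ P, x ^ p ∈ zpowers z)
    {a b : Ω} (ha : a ∈ P) (hb : b ∈ P) (hab : ⁅a, b⁆ = z) (h : ¬ F.StronglyClosed (zpowers z)) :
    ∃ y ∈ P, (∃ x ∈ P, ¬ Commute x y) ∧ IsElementaryAbelian p (P ⊓ centralizer {y}) := by
  have hz := hP.1 hw.mem
  have fc : F.IsFullyCentralized (zpowers z) := by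
    obtain ⟨σ, h1, h2⟩ := H2.exists_fn F (zpowers_le.2 hz)
    obtain ⟨τ, h3, h4⟩ := hF.extend_centralizer h1 (hF.fc_of_fn h2)
    have h5 : Mor F P τ := h3.mono fun g hg => mem_sup_right ⟨hP.1 hg, fun c hc => (H1.cm_of_zp (hw.cen g hg) hc).symm⟩
    have := finite_of_le (zpowers_le.2 hz)
    rw [h1.homOn.img_eq_of_le (img_le_iff.1 (by
      rw [h1.homOn.img_zpowers, zpowers_le, ← h4 z (mem_zpowers z), ← hab, h5.homOn.map_commutator ha hb, hab]
      exact hw.comm _ (sc_apply hP h5 ha ha) _ (sc_apply hP h5 hb hb)))] at h2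
    exact hF.fc_of_fn h2
  obtain ⟨σ, h1, h2⟩ := exists_not_zp hz hw.zp h
  have h3 := h1.inv
  have h4 := h1.homOn.img_inv_img
  rw [h1.homOn.img_zpowers] at h3 h4
  obtain ⟨τ, h5, h6⟩ := hF.extend_centralizer h3 (h4.symm ▸ fc)
  have hy := sc_apply hP h1 (mem_zpowers z) hw.mem
  have h7 : Mor F (P ⊓ centralizer {σ z}) τ := h5.mono fun g hg => mem_sup_right ⟨hP.1 hg.1, fun c hc =>
    (H1.cm_of_zp (Commute.symm (hg.2 _ rfl)) hc).symm⟩
  have hZ : zpowers z ≤ P ⊓ centralizer {σ z} := zpowers_le.2 ⟨hw.mem, fun c hc => hc ▸ hw.cen _ hy⟩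
  have key : ∀ w ∈ zpowers z, τ w ∈ zpowers z → w = 1 := fun w h8 h9 => by
    by_contra h10
    have e := zp_eq hw.zp h8 h10
    have := h7.mem_Stab hZ (img_le_iff.1 (by rw [← e, (h7.homOn.mono (e.le.trans hZ)).img_zpowers, e, zpowers_le]; exact h9))
    exact h2 ((this _).1 (by rw [h6 _ (mem_zpowers _), pia]; exact mem_zpowers z))
  have c1 : ∀ a ∈ P ⊓ centralizer {σ z}, ∀ b ∈ P ⊓ centralizer {σ z}, ⁅a, b⁆ = 1 := fun a ha b hb =>
    key _ (hw.comm a ha.1 b hb.1) (by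
      rw [h7.homOn.map_commutator ha hb]; exact hw.comm _ (sc_apply hP h7 ha ha.1) _ (sc_apply hP h7 hb hb.1))
  refine ⟨σ z, hy, ?_, ⟨⟨fun a b => Subtype.ext (H1.cm_iff.1 (c1 a a.2 b b.2))⟩⟩, fun a ha => key _ (hq a ha.1) (by
    rw [h7.homOn.map_pow ha]; exact hq _ (sc_apply hP h7 ha ha.1))⟩
  by_contra! h8
  have h9 : ∀ g ∈ P, g ∈ P ⊓ centralizer {σ z} := fun g hg => ⟨hg, fun c hc => hc ▸ (h8 g hg).symm⟩
  exact hp.out.one_lt.ne' (by rw [← hw.ord, ← hab, c1 a (h9 a ha) b (h9 b hb), orderOf_one])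

theorem sc_omega (hP : F.StronglyClosed P) {n : ℕ} (hV : ∀ x, x ∈ V ↔ x ∈ P ∧ x ^ n = 1) : F.StronglyClosed V :=
  stronglyClosed_iff'.2 ⟨fun x hx => hP.1 ((hV x).1 hx).1, fun _ _ hf x hx hx' => (hV _).2
    ⟨sc_apply hP hf hx ((hV x).1 hx').1, by rw [← hf.homOn.map_pow hx, ((hV x).1 hx').2, hf.homOn.map_one]⟩⟩

theorem Sat.normal_of_omega_sq (hF : Sat p F) (hp2 : p ≠ 2) (hP : F.StronglyClosed P)
    (hV : ∀ x, x ∈ V ↔ x ∈ P ∧ x ^ p = 1) (hc : V ≤ centralizer (V : Set Ω)) (hcard : Nat.card V = p ^ 2) : F.IsNormal P := by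
  have h1 := sc_omega hP hV
  have hVP : V ≤ P := fun x hx => ((hV x).1 hx).1
  have hs : ∀ x ∈ P, x ^ sm p = 1 → x ∈ V := fun x hx h => (hV x).2 ⟨hx, by simpa [sm, hp2] using h⟩
  have := finite_of_le hP.1
  have := finite_of_le h1.1
  have hn : P ≤ normalizer (V : Set Ω) := hP.1.trans (sc_normalizer h1)
  have pg := hF.pg.to_le hP.1
  obtain ⟨⟨z, hz⟩, h2⟩ := ne_bot_iff_exists_ne_one.1 (inf_centralizer_ne_bot pg hVP hn
    fun e => (Nat.one_lt_pow two_ne_zero hp.out.one_lt).ne' (by rw [← hcard, e, card_bot]))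
  have hz1 := ((hV z).1 hz.1).2
  have hZ := zpowers_le.2 hz.1
  have hi : (zpowers z).relIndex V = p := by
    have := relIndex_mul_relIndex ⊥ _ _ bot_le hZ
    rw [relIndex_bot_left, relIndex_bot_left, Nat.card_zpowers, orderOf_eq_prime hz1 fun e => h2 (Subtype.ext e), hcard, sq] at this
    exact Nat.eq_of_mul_eq_mul_left hp.out.pos this
  have gen : ∀ w ∈ V, w ∉ zpowers z → zpowers z ⊔ zpowers w = V := fun w hw h =>
    (L.eq_or_eq_of_relIndex_prime (hi ▸ hp.out) le_sup_left (sup_le hZ (zpowers_le.2 hw))).resolve_left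
      fun e => h (e.le (mem_sup_right (mem_zpowers w)))
  have cz : ∀ g ∈ P, g * z * g⁻¹ = z := fun g hg => by rw [hz.2 g hg, mul_inv_cancel_right]
  have h3 : ∀ g ∈ P, ∀ c ∈ V, c⁻¹ * (g * c * g⁻¹) ∈ zpowers z := fun g hg c hc => by
    have b1 : ⁅V, P⁆ ≤ V := commutator_le.2 fun a ha b hb => by
      simpa [commutatorElement_def, mul_assoc] using mul_mem ha ((mem_normalizer_iff.1 (hn hb) _).1 (inv_mem ha))
    rcases L.eq_or_eq_of_relIndex_prime (hi ▸ hp.out) le_sup_left (sup_le hZ b1) with e | e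
    · simpa [commutatorElement_def, mul_assoc] using e.le (mem_sup_right (commutator_mem_commutator (inv_mem hc) hg))
    · have := le_of_le_sup_commutator pg (fun g hg => centralizer_le_normalizer _ fun c hc =>
        (H1.cm_of_zp (hz.2 g hg) hc).symm) (hZ.trans hVP) hVP e.ge
      exact (hp.out.one_lt.ne' (hi ▸ relIndex_eq_one.2 this)).elim
  by_cases h4 : F.StronglyClosed (zpowers z)
  · refine hF.normal_of_sm_chain hP (fun i => if i = 0 then ⊥ else if i = 1 then zpowers z else V) 2 rfl hs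
      (fun i hi => ?_) fun i hi x hx a ha => ?_
    · interval_cases i
      exacts [sc_bot F, h4, h1]
    · interval_cases i
      · rw [H1.cm_of_zp (hz.2 a ha) hx]; simp
      · exact h3 a ha x hx
  by_cases h5 : P ≤ centralizer (V : Set Ω)
  · refine hF.normal_of_sm_chain hP (fun i => if i = 0 then ⊥ else V) 1 rfl hs (fun i hi => ?_) fun i hi x hx a ha => ?_
    · interval_cases i
      exacts [sc_bot F, h1]
    · interval_cases i
      rw [← h5 ha x hx]; simp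
  obtain ⟨x, hx, h6⟩ := SetLike.not_le_iff_exists.1 h5
  obtain ⟨β, b1, b2, b3, ⟨w, b4, b5, b6⟩, b7, -⟩ := hF.exists_neg hp2 hP (hF.normal_of_abelian h1
    (commutator_eq_bot_iff_le_centralizer.2 hc)) hVP hc hz.1 hz1 h3 hx (cz x hx) h6 (fun g hg => by
      obtain ⟨y, hy, c1⟩ : ∃ y ∈ V, MulAut.conj x y ≠ y := by
        by_contra! c1
        exact h6 fun c hc => by rw [← mul_inv_eq_iff_eq_mul.1 (c1 c hc)]
      obtain ⟨j, hj⟩ := mem_zpowers_iff.1 (h3 g hg y hy)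
      obtain ⟨k, hk⟩ := exists_transv (t := MulAut.conj x) hz1 (h3 x hx y hy) (cz x hx) c1 j
      rw [← map_pow, hj, mul_inv_cancel_left] at hk
      have : V ≤ MonoidHom.eqLocus (MulAut.conj g).toMonoidHom (MulAut.conj (x ^ k)).toMonoidHom := by
        rw [← gen y hy fun h => c1 (by simpa [mul_inv_eq_iff_eq_mul] using (H1.cm_of_zp (hz.2 x hx) h).eq)]
        exact sup_le (zpowers_le.2 ((cz g hg).trans (cz _ (pow_mem hx k)).symm)) (zpowers_le.2 hk.symm)
      exact ⟨k, fun c hc => this hc⟩) h4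
  have hβ := Aut.homOn b1
  have c1 : ∀ c ∈ V, β c = c⁻¹ := by
    have : HomOn V fun c => c⁻¹ := fun a ha b hb => by rw [← mul_inv_rev, hc ha b hb]
    rw [← gen w b4 b5] at this hVP ⊢
    refine (hβ.mono hVP).eqOn_sup this ?_ ?_
    · rintro _ ⟨k, rfl⟩; simp only [hβ.map_zpow (hVP (mem_sup_left (mem_zpowers z))), b3, inv_zpow]
    · rintro _ ⟨k, rfl⟩; simp only [hβ.map_zpow (hVP (mem_sup_right (mem_zpowers w))), b6, inv_zpow]
  have c2 := fix_of_small pg (Aut.homOn (pow_mem b1 2)) (Aut_le_Stab F P (pow_mem b1 2))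
    (b2.coprime_dvd_left (orderOf_pow_dvd 2)) fun c hc h => by rw [sq]; exact b7 c (hs c hc h)
  have c3 : MonoidHom.FixedPointFree (toAut hβ (Aut_le_Stab F P b1)) := fun g hg => by
    by_contra c4
    obtain ⟨k, hk⟩ := IsPGroup.iff_orderOf.1 pg g
    obtain ⟨k, rfl⟩ := Nat.exists_eq_add_one_of_ne_zero (n := k) fun e => c4 (by simpa [e] using hk)
    have c5 : orderOf (g ^ p ^ k) = p := by
      rw [orderOf_pow_of_dvd (pow_pos hp.out.pos k).ne' (hk ▸ pow_dvd_pow p k.le_succ), hk, pow_succ,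
        Nat.mul_div_cancel_left _ (pow_pos hp.out.pos k)]
    have c6 := c1 _ ((hV _).2 ⟨(g ^ p ^ k).2, congrArg Subtype.val (orderOf_dvd_iff_pow_eq_one.1 c5.dvd)⟩)
    rw [← toAut_apply hβ (Aut_le_Stab F P b1), map_pow, hg, eq_inv_iff_mul_eq_one, ← sq] at c6
    exact hp2 ((Nat.prime_dvd_prime_iff_eq hp.out Nat.prime_two).1 (c5 ▸ orderOf_dvd_of_pow_eq_one (Subtype.ext c6)))
  exact (h5 fun a ha c hc => congrArg Subtype.val (c3.commute_all_of_involutive
    (fun g => Subtype.ext (by rw [← c2 g g.2, sq]; rfl)) ⟨c, hVP hc⟩ ⟨a, ha⟩)).elim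

end H2
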