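import Cfsg.Agent.H9.Syl

/-! Sylow 2-subgroups of symmetric and alternating groups are self-normalizing. -/

set_option autoImplicit false
set_option linter.unusedSectionVars false

namespace H2P

open Subgroup Equiv Equiv.Perm H9

universe u
variable {α : Type u} [Fintype α] [DecidableEq α]

theorem swap_uniq {P : Subgroup (Perm α)} (hP : IsPGroup 2 P) {a b c : α} (hb : a ≠ b) (hc : a ≠ c)
    (h1 : swap a b ∈ P) (h2 : swap a c ∈ P) : b = c := by
  haveI : Fact (Nat.Prime 2) := ⟨Nat.prime_two⟩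
  by_contra h
  obtain ⟨k, hk⟩ := IsPGroup.iff_orderOf.1 hP ⟨_, mul_mem h1 h2⟩
  rw [orderOf_mk, (isThreeCycle_swap_mul_swap_same hb hc h).orderOf] at hk
  have : 3 ∣ 2 := Nat.prime_three.dvd_of_dvd_pow hk.dvd
  omega

/-- the transpositions in `P` -/
def TS (P : Subgroup (Perm α)) : Set (Perm α) := {t | t ∈ P ∧ t.IsSwap}

theorem isSwap_conj {g t : Perm α} (h : t.IsSwap) : (g * t * g⁻¹).IsSwap := by
  obtain ⟨a, b, hab, rfl⟩ := h
  exact ⟨g a, g b, g.injective.ne hab, (swap_apply_apply g a b).symm⟩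

theorem norm_le_TS (P : Subgroup (Perm α)) : normalizer (P : Set (Perm α)) ≤ normalizer (TS P) :=
  fun g hg => mem_normalizer_fintype fun t ht =>
    ⟨(mem_normalizer_iff.1 hg t).1 ht.1, isSwap_conj ht.2⟩

theorem isP_zpowers {G : Type*} [Group G] {x : G} (h : x * x = 1) : IsPGroup 2 (zpowers x) := by
  rintro ⟨_, n, rfl⟩
  refine ⟨1, Subtype.ext ?_⟩
  simp only [pow_one, SubmonoidClass.coe_pow, OneMemClass.coe_one]
  rw [← zpow_natCast, ← zpow_mul, mul_comm, zpow_mul, zpow_natCast, pow_two, h, one_zpow]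

theorem swap_conj_of_ne {a b c d : α} (h1 : a ≠ c) (h2 : a ≠ d) (h3 : b ≠ c) (h4 : b ≠ d) :
    swap c d * swap a b * (swap c d)⁻¹ = swap a b := by
  rw [← swap_apply_apply, swap_apply_of_ne_of_ne h1 h2, swap_apply_of_ne_of_ne h3 h4]

theorem cover {P : Subgroup (Perm α)} (hP : Syl 2 P ⊤) {u v : α} (h : u ≠ v) :
    (∃ w, u ≠ w ∧ swap u w ∈ P) ∨ ∃ w, v ≠ w ∧ swap v w ∈ P := by
  haveI : Fact (Nat.Prime 2) := ⟨Nat.prime_two⟩
  by_contra hc
  push Not at hc
  have h1 : Syl 2 P (normalizer (TS P)) := hP.mono (le_normalizer.trans (norm_le_TS P)) le_top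
  have h2 : swap u v ∈ normalizer (TS P) := mem_normalizer_fintype fun t ht => by
    obtain ⟨ht, a, b, hab, rfl⟩ := ht
    rw [swap_conj_of_ne]
    · exact ⟨ht, a, b, hab, rfl⟩
    · rintro rfl; exact hc.1 b hab ht
    · rintro rfl; exact hc.2 b hab ht
    · rintro rfl; exact hc.1 a hab.symm (swap_comm a b ▸ ht)
    · rintro rfl; exact hc.2 a hab.symm (swap_comm a b ▸ ht)
  obtain ⟨g, hg, e⟩ := h1.exists_cj_le (isP_zpowers (swap_mul_self u v)) (zpowers_le.2 h2)
  have := e (conj_mem_cj (mem_zpowers _))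
  exact hc.1 v h ((mem_set_normalizer_iff.1 hg _).2 ⟨this, isSwap_conj ⟨u, v, h, rfl⟩⟩).1

instance actTS (T : Set (Perm α)) : MulAction (normalizer T) T where
  smul g t := ⟨g * t * g⁻¹, (mem_set_normalizer_iff.1 g.2 t).1 t.2⟩
  one_smul t := Subtype.ext (show (1 : Perm α) * t * 1⁻¹ = t by simp)
  mul_smul g h t := Subtype.ext (show g.1 * h.1 * t * (g.1 * h.1)⁻¹ =
    g.1 * (h.1 * t * h.1⁻¹) * g.1⁻¹ by group)

theorem actTS_coe (T : Set (Perm α)) (g : normalizer T) (t : T) :
    ((g • t : T) : Perm α) = g * t * (g : Perm α)⁻¹ := rfl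

theorem TS_disj {P : Subgroup (Perm α)} (hP : IsPGroup 2 P) {a b c d : α} (hab : a ≠ b) (hcd : c ≠ d)
    (h1 : swap a b ∈ P) (h2 : swap c d ∈ P) (h : swap a b ≠ swap c d) :
    a ≠ c ∧ a ≠ d ∧ b ≠ c ∧ b ≠ d := by
  refine ⟨?_, ?_, ?_, ?_⟩ <;> rintro rfl
  · exact h (by rw [swap_uniq hP hab hcd h1 h2])
  · exact h (by rw [swap_uniq hP hab hcd.symm h1 (swap_comm c a ▸ h2), swap_comm])
  · exact h (by rw [swap_uniq hP hab.symm hcd (swap_comm a b ▸ h1) h2, swap_comm])
  · exact h (by rw [swap_uniq hP hab.symm hcd.symm (swap_comm a b ▸ h1) (swap_comm c b ▸ h2)])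

theorem TS_surj {P : Subgroup (Perm α)} (hP : IsPGroup 2 P) :
    Function.Surjective (MulAction.toPermHom (normalizer (TS P)) (TS P)) := by
  classical
  rw [← MonoidHom.range_eq_top, eq_top_iff, ← closure_isSwap, closure_le]
  rintro _ ⟨⟨_, h1, a, b, hab, rfl⟩, ⟨_, h2, c, d, hcd, rfl⟩, h, rfl⟩
  obtain ⟨n1, n2, n3, n4⟩ := TS_disj hP hab hcd h1 h2 fun e => h (Subtype.ext e)
  have k1 : swap a c * swap b d * swap a b * (swap a c * swap b d)⁻¹ = swap c d := by
    rw [← swap_apply_apply]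
    simp [swap_apply_def, *, hab.symm, n1.symm, n2.symm, n3.symm, n4.symm, hcd.symm]
  have k2 : swap a c * swap b d * swap c d * (swap a c * swap b d)⁻¹ = swap a b := by
    rw [← swap_apply_apply]
    simp [swap_apply_def, *, hab.symm, n1.symm, n2.symm, n3.symm, n4.symm, hcd.symm]
  have k3 : ∀ t ∈ TS P, t ≠ swap a b → t ≠ swap c d →
      swap a c * swap b d * t * (swap a c * swap b d)⁻¹ = t := by
    rintro _ ⟨h3, e, f, hef, rfl⟩ m1 m2
    obtain ⟨p1, p2, p3, p4⟩ := TS_disj hP hef hab h3 h1 m1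
    obtain ⟨q1, q2, q3, q4⟩ := TS_disj hP hef hcd h3 h2 m2
    rw [← swap_apply_apply]
    simp [swap_apply_def, *]
  refine ⟨⟨swap a c * swap b d, mem_normalizer_fintype fun t ht => ?_⟩, Equiv.ext fun t => Subtype.ext ?_⟩
  · by_cases m1 : t = swap a b
    · rw [m1, k1]; exact ⟨h2, c, d, hcd, rfl⟩
    by_cases m2 : t = swap c d
    · rw [m2, k2]; exact ⟨h1, a, b, hab, rfl⟩
    rwa [k3 t ht m1 m2]
  · show swap a c * swap b d * t * (swap a c * swap b d)⁻¹ = _
    by_cases m1 : t.1 = swap a b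
    · rw [m1, k1, (Subtype.ext m1 : t = ⟨_, h1, a, b, hab, rfl⟩), swap_apply_left]
    by_cases m2 : t.1 = swap c d
    · rw [m2, k2, (Subtype.ext m2 : t = ⟨_, h2, c, d, hcd, rfl⟩), swap_apply_right]
    rw [k3 _ t.2 m1 m2, swap_apply_of_ne_of_ne (fun e => m1 (congrArg Subtype.val e))
      (fun e => m2 (congrArg Subtype.val e))]

theorem TS_ker {P : Subgroup (Perm α)} (hP : Syl 2 P ⊤) {g : Perm α}
    (h : ∀ t ∈ TS P, g * t * g⁻¹ = t) : g * g = 1 := by
  have k : ∀ a b, a ≠ b → swap a b ∈ P → g a = a ∨ g a = b ∧ g b = a := fun a b hab h1 => by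
    have e := h _ ⟨h1, a, b, hab, rfl⟩
    rw [← swap_apply_apply] at e
    have e1 := congrArg (· (g a)) e
    simp only [swap_apply_left] at e1
    by_cases e2 : g a = a
    · exact Or.inl e2
    by_cases e3 : g a = b
    · rw [e3, swap_apply_right] at e1; exact Or.inr ⟨e3, e1⟩
    rw [swap_apply_of_ne_of_ne e2 e3] at e1
    exact absurd (g.injective e1).symm hab
  ext a
  show g (g a) = a
  by_cases e : a = g a
  · rw [← e, ← e]
  rcases cover hP e with ⟨w, h1, h2⟩ | ⟨w, h1, h2⟩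
  · rcases k a w h1 h2 with h3 | h3
    · rw [h3, h3]
    · rw [h3.1, h3.2]
  · rcases k _ w h1 h2 with h3 | h3
    · exact absurd (g.injective h3).symm e
    · rw [h3.1, g.injective h3.2]

theorem card_TS_lt {P : Subgroup (Perm α)} (hP : IsPGroup 2 P) [Nonempty α] :
    Nat.card (TS P) < Nat.card α := by
  have h : ∀ t : TS P, ∃ a b, a ≠ b ∧ t.1 = swap a b := fun t => t.2.2
  choose a b hab e using h
  have hm : ∀ t, swap (a t) (b t) ∈ P := fun t => e t ▸ t.2.1
  have k : ∀ s t, s ≠ t → a s ≠ a t ∧ a s ≠ b t ∧ b s ≠ a t ∧ b s ≠ b t := fun s t h =>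
    TS_disj hP (hab s) (hab t) (hm s) (hm t) fun e' => h (Subtype.ext (by rw [e, e, e']))
  have hi : Function.Injective (Sum.elim a b) := by
    rintro (s | s) (t | t) h <;> by_cases e' : s = t
    · rw [e']
    · exact absurd h (k s t e').1
    · subst e'; exact absurd h (hab s)
    · exact absurd h (k s t e').2.1
    · subst e'; exact absurd h.symm (hab s)
    · exact absurd h (k s t e').2.2.1
    · rw [e']
    · exact absurd h (k s t e').2.2.2
  have := Nat.card_le_card_of_injective _ hi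
  rw [Nat.card_sum] at this
  have : 0 < Nat.card α := Nat.card_pos
  omega

theorem selfnorm_perm (n : ℕ) : ∀ (α : Type u) [Fintype α] [DecidableEq α], Nat.card α = n →
    ∀ P : Subgroup (Perm α), Syl 2 P ⊤ → normalizer (P : Set (Perm α)) ≤ P := by
  haveI : Fact (Nat.Prime 2) := ⟨Nat.prime_two⟩
  induction n using Nat.strong_induction_on with
  | _ n ih =>
  intro α _ _ hn P hP x hx
  classical
  rcases isEmpty_or_nonempty α with h | h
  · rw [Subsingleton.elim x 1]; exact one_mem _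
  haveI : Fintype (TS P) := Fintype.ofFinite _
  set N := normalizer (TS P)
  have hPN : P ≤ N := le_normalizer.trans (norm_le_TS P)
  obtain ⟨Q, hQ⟩ := (hP.mono hPN le_top).exists_sylow'
  set φ := MulAction.toPermHom N (TS P)
  have h1 := (syl_top_of_sylow Q).map φ
  rw [map_top_of_surjective _ (TS_surj hP.isP)] at h1
  have h2 := ih _ (hn ▸ card_TS_lt hP.isP) (TS P) rfl _ h1
  have hx' : (⟨x, norm_le_TS P hx⟩ : N) ∈ normalizer ((Q : Subgroup N) : Set N) := by
    rw [hQ, mem_normalizer_iff]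
    exact fun y => mem_normalizer_iff.1 hx y
  obtain ⟨y, hy, e⟩ := h2 (le_normalizer_map φ (mem_map_of_mem φ hx'))
  have hk : IsPGroup 2 φ.ker := fun g => ⟨1, Subtype.ext (Subtype.ext (by
    simp only [pow_one, pow_two, MulMemClass.coe_mul, OneMemClass.coe_one]
    refine TS_ker hP fun t ht => ?_
    exact congrArg Subtype.val (Equiv.congr_fun (MonoidHom.mem_ker.1 g.2) ⟨t, ht⟩)))⟩
  have h3 : y⁻¹ * ⟨x, norm_le_TS P hx⟩ ∈ (Q : Subgroup N) :=
    hk.le_sylow_of_normal Q (by rw [MonoidHom.mem_ker, map_mul, map_inv, e, inv_mul_cancel])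
  have h4 := mul_mem hy h3
  rw [mul_inv_cancel_left, hQ] at h4
  exact h4

theorem selfnorm_alt (hα : 6 ≤ Fintype.card α) {S : Subgroup (Perm α)}
    (hS : Syl 2 S (alternatingGroup α)) {x : Perm α} (hxA : x ∈ alternatingGroup α)
    (hx : x ∈ normalizer (S : Set (Perm α))) : x ∈ S := by
  haveI : Fact (Nat.Prime 2) := ⟨Nat.prime_two⟩
  obtain ⟨P, hP, hSP⟩ := exists_syl_ge hS.isP (le_top : S ≤ ⊤)
  have hPS : P ⊓ alternatingGroup α = S :=
    hS.maximal hP.isP.to_inf_left inf_le_right (le_inf hSP hS.le)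
  have hm : ∀ g, g ∈ S ↔ g ∈ P ∧ sign g = 1 := fun g => by rw [← hPS]; rfl
  have hPN : P ≤ normalizer (S : Set (Perm α)) := fun p hp => mem_normalizer_fintype fun s hs => by
    rw [SetLike.mem_coe, hm] at hs ⊢
    exact ⟨mul_mem (mul_mem hp hs.1) (inv_mem hp), by simp [hs.2]⟩
  obtain ⟨a, b, hab, ht⟩ : ∃ a b, a ≠ b ∧ swap a b ∈ P := by
    obtain ⟨u, v, h⟩ := Fintype.exists_pair_of_one_lt_card (α := α) (by omega)
    rcases cover hP h with ⟨w, h⟩ | ⟨w, h⟩ <;> exact ⟨_, w, h⟩
  have hs : ∀ c d, c ≠ d → swap c d ∈ normalizer (S : Set (Perm α)) → swap c d ∈ P := by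
    have k : ∀ a b d, a ≠ b → swap a b ∈ P → a ≠ d → b ≠ d →
        swap a d ∉ normalizer (S : Set (Perm α)) := by
      intro a b d hab ht had hbd h
      obtain ⟨u, w, huw, h1, ua, ub, ud, wd⟩ : ∃ u w, u ≠ w ∧ swap u w ∈ P ∧ u ≠ a ∧ u ≠ b ∧ u ≠ d ∧
          w ≠ d := by
        have : 2 < (Finset.univ \ {a, b, d}).card := by
          rw [Finset.card_univ_diff]
          have := Finset.card_le_three (a := a) (b := b) (c := d)
          omega
        obtain ⟨u1, u2, u3, m1, m2, m3, n12, n13, n23⟩ := Finset.two_lt_card_iff.1 this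
        simp only [Finset.mem_sdiff, Finset.mem_univ, Finset.mem_insert, Finset.mem_singleton,
          not_or, true_and] at m1 m2 m3
        by_contra hc
        push Not at hc
        have q : ∀ u v : α, (u ≠ a ∧ u ≠ b ∧ u ≠ d) → (v ≠ a ∧ v ≠ b ∧ v ≠ d) → u ≠ v →
            swap d u ∈ P ∨ swap d v ∈ P := fun u v hu hv h => by
          rcases cover hP h with ⟨w, h1, h2⟩ | ⟨w, h1, h2⟩
          · left; rw [swap_comm, ← hc u w h1 h2 hu.1 hu.2.1 hu.2.2]; exact h2
          · right; rw [swap_comm, ← hc v w h1 h2 hv.1 hv.2.1 hv.2.2]; exact h2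
        have q2 : ∀ u v : α, u ≠ d → v ≠ d → u ≠ v → swap d u ∈ P → swap d v ∉ P :=
          fun u v hu hv h h1 h2 => h (swap_uniq hP.isP hu.symm hv.symm h1 h2)
        have := q2 _ _ m1.2.2 m2.2.2 n12
        have := q2 _ _ m1.2.2 m3.2.2 n13
        have := q2 _ _ m2.2.2 m3.2.2 n23
        have := q _ _ m1 m2 n12
        have := q _ _ m1 m3 n13
        have := q _ _ m2 m3 n23
        tauto
      obtain ⟨-, -, wa, -⟩ := TS_disj hP.isP huw hab h1 ht fun e => by
        have := congrArg (· u) e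
        simp only [swap_apply_left, swap_apply_of_ne_of_ne ua ub] at this
        exact huw this.symm
      have h2 : swap a b * swap u w ∈ S := (hm _).2 ⟨mul_mem ht h1, by simp [hab, huw]⟩
      have h3 := hSP ((mem_normalizer_iff.1 h _).1 h2)
      rw [show swap a d * (swap a b * swap u w) * (swap a d)⁻¹ =
        swap a d * swap a b * (swap a d)⁻¹ * (swap a d * swap u w * (swap a d)⁻¹) by group,
        swap_conj_of_ne ua ud wa wd, mul_mem_cancel_right h1, ← swap_apply_apply, swap_apply_left,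
        swap_apply_of_ne_of_ne hab.symm hbd, swap_comm] at h3
      exact had (swap_uniq hP.isP hab.symm hbd (swap_comm a b ▸ ht) h3)
    intro c d hcd h
    by_cases e : swap a b * swap c d * (swap a b * swap c d) = 1
    · have := hS.le_of_le_normalizer (isP_zpowers e) (zpowers_le.2 (by simp [hab, hcd]))
        (Or.inl (zpowers_le.2 (mul_mem (hPN ht) h)))
      exact (mul_mem_cancel_left ht).1 (hSP (this (mem_zpowers _)))
    exfalso
    by_cases e1 : c = a
    · subst e1
      exact k c b d hab ht hcd (by rintro rfl; simp at e) h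
    by_cases e2 : d = a
    · subst e2
      exact k d b c hab ht hcd.symm (by rintro rfl; simp [swap_comm d b] at e) (swap_comm c d ▸ h)
    by_cases e3 : c = b
    · subst e3
      exact k c a d hab.symm (swap_comm a c ▸ ht) hcd (Ne.symm e2) h
    by_cases e4 : d = b
    · subst e4
      exact k d a c hab.symm (swap_comm a d ▸ ht) hcd.symm (Ne.symm e1) (swap_comm c d ▸ h)
    have := swap_conj_of_ne (Ne.symm e1) (Ne.symm e2) (Ne.symm e3) (Ne.symm e4)
    rw [swap_inv] at this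
    apply e
    rw [show swap a b * swap c d * (swap a b * swap c d) = swap a b * (swap c d * swap a b * swap c d)
      by group, this, swap_mul_self]
  have h1 : x * swap a b * x⁻¹ ∈ P := by
    have := mul_mem (mul_mem hx (hPN ht)) (inv_mem hx)
    rw [← swap_apply_apply] at this ⊢
    exact hs _ _ (x.injective.ne hab) this
  refine (hm x).2 ⟨selfnorm_perm _ α rfl P hP (mem_normalizer_fintype fun p hp => ?_), hxA⟩
  rcases Int.units_eq_one_or (sign p) with e | e
  · exact hSP ((mem_normalizer_iff.1 hx p).1 ((hm p).2 ⟨hp, e⟩))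
  · have := hSP ((mem_normalizer_iff.1 hx _).1 ((hm (p * swap a b)).2
      ⟨mul_mem hp ht, by simp [e, hab]⟩))
    rwa [show x * (p * swap a b) * x⁻¹ = x * p * x⁻¹ * (x * swap a b * x⁻¹) by group,
      mul_mem_cancel_right h1] at this

theorem pronormal_of {G : Type*} [Group G] [Finite G] {p : ℕ} [Fact p.Prime] {S H : Subgroup G}
    (hS : Syl p S ⊤) (hSH : S ≤ H)
    (h : ∀ g ∈ normalizer (S : Set G), ∃ w ∈ H ⊔ cj g H, cj g H = cj w H) (g : G) :
    ∃ w ∈ H ⊔ cj g H, cj g H = cj w H := by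
  have h1 : Syl p S (H ⊔ cj g H) := hS.mono (hSH.trans le_sup_left) le_top
  have h2 : Syl p (cj g S) (H ⊔ cj g H) :=
    (hS.cj_of_mem (mem_normalizer_iff_cj.2 (cj_eq_of_normal g ⊤))).mono ((cj_mono g hSH).trans le_sup_right) le_top
  obtain ⟨k, hk, e⟩ := h2.conj h1
  obtain ⟨w, hw, e2⟩ := h (k * g) (mem_normalizer_iff_cj.2 (by rw [cj_mul, e]))
  have : H ⊔ cj (k * g) H ≤ H ⊔ cj g H :=
    sup_le le_sup_left (by rw [cj_mul]; exact (cj_mono k le_sup_right).trans (cj_eq_of_mem hk).le)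
  refine ⟨k⁻¹ * w, mul_mem (inv_mem hk) (this hw), ?_⟩
  rw [cj_mul, ← e2, ← cj_mul, inv_mul_cancel_left]

theorem pronormal_prime {G : Type*} [Group G] [Finite G] {H : Subgroup G} (h : H.index.Prime) (g : G) :
    ∃ w ∈ H ⊔ cj g H, cj g H = cj w H := by
  have h1 := relIndex_mul_index (le_sup_left : H ≤ H ⊔ cj g H)
  rcases (Nat.dvd_prime h).1 (Dvd.intro_left _ h1) with e | e
  · exact ⟨g, by rw [index_eq_one.1 e]; trivial, rfl⟩
  · rw [e] at h1
    have h2 := relIndex_eq_one.1 ((Nat.mul_eq_right h.ne_zero).1 h1)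
    refine ⟨1, one_mem _, ?_⟩
    rw [cj_one]
    exact eq_of_le_of_card_ge (le_sup_right.trans h2) (card_cj g H).ge

theorem pronormal_alt (hα : 5 ≤ Fintype.card α) (H : Subgroup (alternatingGroup α)) (hH : Odd H.index)
    (g : alternatingGroup α) : ∃ w ∈ H ⊔ cj g H, cj g H = cj w H := by
  haveI : Fact (Nat.Prime 2) := ⟨Nat.prime_two⟩
  obtain ⟨S, hS⟩ := exists_syl 2 H
  have hS' : Syl 2 S ⊤ := hS.trans_index le_top (by
    rw [relIndex_top_right]; exact hH.not_two_dvd_nat)
  rcases hα.eq_or_lt with e | e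
  · have h60 : Nat.card (alternatingGroup α) = 60 := by
      haveI : Nontrivial α := Fintype.one_lt_card_iff_nontrivial.1 (by omega)
      have := two_mul_nat_card_alternatingGroup (α := α)
      rw [Nat.card_perm, Nat.card_eq_fintype_card (α := α), ← e] at this
      simp [Nat.factorial] at this ⊢
      omega
    have h1 : H.index ∣ 60 := h60 ▸ H.index_dvd_card
    have h2 : H.index = 1 ∨ H.index = 3 ∨ H.index = 5 ∨ H.index = 15 := by
      have := Nat.le_of_dvd (by norm_num) h1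
      obtain ⟨k, hk⟩ := hH
      generalize H.index = m at *
      interval_cases m <;> omega
    rcases h2 with h | h | h | h
    · exact ⟨g, by rw [index_eq_one.1 h]; simp, rfl⟩
    · exact pronormal_prime (h ▸ Nat.prime_three) g
    · exact pronormal_prime (h ▸ Nat.prime_five) g
    have h4 : Nat.card H = 2 ^ 2 := by
      have := H.card_mul_index
      rw [h, h60] at this; omega
    have : S = H := hS.eq_of_isPGroup (IsPGroup.of_card h4)
    subst this
    exact pronormal_of hS' le_rfl (fun g hg => ⟨1, one_mem _, by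
      rw [cj_one, mem_normalizer_iff_cj.1 hg]⟩) g
  refine pronormal_of hS' hS.le (fun g hg => ⟨1, one_mem _, ?_⟩) g
  have h1 := hS'.map (alternatingGroup α).subtype
  rw [← MonoidHom.range_eq_map, range_subtype] at h1
  obtain ⟨y, hy, e2⟩ := selfnorm_alt e h1 g.2 (le_normalizer_map _ (mem_map_of_mem _ hg))
  rw [cj_one, ← (Subtype.ext e2 : y = g), cj_eq_of_mem (hS.le hy)]

end H2P
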