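import Cfsg.Agent.H2.PC2
import Cfsg.Agent.H8.GM11

/-! H2.SyM11: the 2-fusion system of the permutation model is simple (generated certificate) -/

set_option autoImplicit false
set_option maxRecDepth 200000

namespace H2.SyM11
open H8 H2.PC

noncomputable def t0 : ℕ := (nat_lit 0xbd94f3ca30a384c2d4c39a56143480)
noncomputable def t1 : ℕ := (nat_lit 0x8b8e5acaf05d86ca4c2d511e9120c0)
noncomputable def t2 : ℕ := (nat_lit 0x8d8f4542f27b86c2cd22a99616a080)
noncomputable def t3 : ℕ := (nat_lit 0xb5d67a49d09c48c514697a2a2305a0)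
noncomputable def t4 : ℕ := (nat_lit 0x2b94fa9161a590cb9d2399a3013640)
noncomputable def t5 : ℕ := (nat_lit 0x2d677a21e35460db2c493b1c1910c0)
noncomputable def t6 : ℕ := (nat_lit 0xb5d743b2307b9b2a94669a14148880)
noncomputable def T : Tr ℕ := (.node (nat_lit 3) (.node (nat_lit 1) (.leaf t0)
 (.node (nat_lit 2) (.leaf t1)
 (.leaf t2)))
 (.node (nat_lit 5) (.node (nat_lit 4) (.leaf t3)
 (.leaf t4))
 (.node (nat_lit 6) (.leaf t5)
 (.leaf t6))))
noncomputable def D : Tr (List ℕ) := (.node (nat_lit 3) (.node (nat_lit 1) (.leaf [nat_lit 2, nat_lit 0, nat_lit 6, nat_lit 5, nat_lit 3, nat_lit 0])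
 (.node (nat_lit 2) (.leaf [nat_lit 0, nat_lit 6, nat_lit 3, nat_lit 0, nat_lit 5, nat_lit 3, nat_lit 0, nat_lit 4, nat_lit 0])
 (.leaf [nat_lit 2, nat_lit 0, nat_lit 6, nat_lit 2, nat_lit 0, nat_lit 5, nat_lit 4, nat_lit 0, nat_lit 0])))
 (.node (nat_lit 5) (.node (nat_lit 4) (.leaf [nat_lit 0, nat_lit 0, nat_lit 6, nat_lit 0, nat_lit 5, nat_lit 2, nat_lit 0, nat_lit 4, nat_lit 1])
 (.leaf [nat_lit 6, nat_lit 3, nat_lit 0, nat_lit 5, nat_lit 4, nat_lit 2]))
 (.node (nat_lit 6) (.leaf [nat_lit 0, nat_lit 6, nat_lit 0, nat_lit 5, nat_lit 2, nat_lit 0])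
 (.leaf [nat_lit 2, nat_lit 0, nat_lit 6, nat_lit 2, nat_lit 5, nat_lit 3, nat_lit 0, nat_lit 4]))))
theorem lets : Lets M11.P 24 (nat_lit 5) (nat_lit 31) (Fin.ofNat 24) T := lets_words M11.lets D (by decide +kernel)
noncomputable def q : List ℕ → List ℕ → Bool := weqOn (nat_lit 5) (nat_lit 31) T M11.B
theorem dec : Dec lets.e q := dec_weqOn lets M11.base (ofNat_inj _)
theorem c1 : pcChk q 4 (nat_lit 0x1000700030001000000000000000000000000000000000000000000000000000000000003000100000000000000000000000000000000000000000000000000000000000100010000000000000000000000000000000000000000000000000000000000000000) = true := by decide +kernel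
theorem c2 : ndChk q 4 = true := by decide +kernel
theorem c3 : cenChk q 4 1 4 = true := by decide +kernel
theorem c4 : fusChk q 4 [([nat_lit 4], [nat_lit 1], nat_lit 5),
 ([nat_lit 5], [nat_lit 1, nat_lit 5], nat_lit 6),
 ([nat_lit 6], [nat_lit 5, nat_lit 6], nat_lit 10),
 ([], [nat_lit 6, nat_lit 5], nat_lit 2),
 ([], [nat_lit 1, nat_lit 5], nat_lit 4),
 ([], [nat_lit 5, nat_lit 10, nat_lit 5], nat_lit 8)] [1] = true := by decide +kernel
theorem c5 : phiChk q 4 2 (nat_lit 0x2000200030003000100010001000100000000000000000001000100000000) (.node (nat_lit 1) (.leaf [nat_lit 2])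
 (.leaf [nat_lit 14])) = true := by decide +kernel
theorem c6 : tyChk q 4 2 4 (nat_lit 0x10040207) = true := by decide +kernel
theorem simple : IsSylowIn 2 (Sk lets.e 4) ⊤ ∧ (Cfsg.groupFusionSystem (Sk lets.e 4)).IsSimple 2 :=
  dec.simple (m := 247) (M11.card.trans (by norm_num)) (by norm_num) (by norm_num) (by norm_num) c1 c2 c3 c4 c5 c6 fun _ _ K _ g _ => top_triv K g

end H2.SyM11
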