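import Cfsg.Agent.H2.PC2
import Cfsg.Agent.H8.GM12

/-! H2.SyM12: the 2-fusion system of the permutation model is simple (generated certificate) -/

set_option autoImplicit false
set_option maxRecDepth 200000

namespace H2.SyM12
open H8 H2.PC

noncomputable def t0 : ℕ := (nat_lit 0xbbaaa7c9619d98d8d122398a402203)
noncomputable def t1 : ℕ := (nat_lit 0xabef1b494c74e01a2d20298e440da2)
noncomputable def t2 : ℕ := (nat_lit 0xbceb17194db3c30a2c803c8a940d82)
noncomputable def t3 : ℕ := (nat_lit 0x3ccaa7256cb3e018d0c8a92f2189a0)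
noncomputable def t4 : ℕ := (nat_lit 0xbbeaa74a2db4e015d082298e91a180)
noncomputable def t5 : ℕ := (nat_lit 0xbaeb3512c2a440373cd03a4b26850c)
noncomputable def t6 : ℕ := (nat_lit 0xbc6c57b1689aa46a1c80726ad08870)
noncomputable def t7 : ℕ := (nat_lit 0xbceb45b1528ba0d39462b05e0490c8)
noncomputable def t8 : ℕ := (nat_lit 0xa4caa709e68adb2b1d88b92a11a600)
noncomputable def t9 : ℕ := (nat_lit 0xa29d33a6acbda03794065ca21221a2)
noncomputable def t10 : ℕ := (nat_lit 0xa1ef32b5d2b2d2854410a91e61b022)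
noncomputable def T : Tr ℕ := (.node (nat_lit 5) (.node (nat_lit 2) (.node (nat_lit 1) (.leaf t0)
 (.leaf t1))
 (.node (nat_lit 3) (.leaf t2)
 (.node (nat_lit 4) (.leaf t3)
 (.leaf t4))))
 (.node (nat_lit 8) (.node (nat_lit 6) (.leaf t5)
 (.node (nat_lit 7) (.leaf t6)
 (.leaf t7)))
 (.node (nat_lit 9) (.leaf t8)
 (.node (nat_lit 10) (.leaf t9)
 (.leaf t10)))))
noncomputable def D : Tr (List ℕ) := (.node (nat_lit 5) (.node (nat_lit 2) (.node (nat_lit 1) (.leaf [nat_lit 4, nat_lit 0, nat_lit 7, nat_lit 0, nat_lit 6, nat_lit 1, nat_lit 5, nat_lit 0, nat_lit 4, nat_lit 2, nat_lit 0])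
 (.leaf [nat_lit 7, nat_lit 0, nat_lit 7, nat_lit 0, nat_lit 0, nat_lit 6, nat_lit 2, nat_lit 5, nat_lit 2, nat_lit 4, nat_lit 2]))
 (.node (nat_lit 3) (.leaf [nat_lit 7, nat_lit 0, nat_lit 7, nat_lit 3, nat_lit 0, nat_lit 6, nat_lit 2, nat_lit 5, nat_lit 2, nat_lit 4, nat_lit 2, nat_lit 0])
 (.node (nat_lit 4) (.leaf [nat_lit 0, nat_lit 6, nat_lit 0, nat_lit 0, nat_lit 4])
 (.leaf [nat_lit 0, nat_lit 0, nat_lit 6, nat_lit 1, nat_lit 5, nat_lit 4, nat_lit 0, nat_lit 0]))))
 (.node (nat_lit 8) (.node (nat_lit 6) (.leaf [nat_lit 1, nat_lit 7, nat_lit 2, nat_lit 6, nat_lit 3, nat_lit 5, nat_lit 0, nat_lit 4, nat_lit 1])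
 (.node (nat_lit 7) (.leaf [nat_lit 2, nat_lit 7, nat_lit 4, nat_lit 6, nat_lit 2, nat_lit 5, nat_lit 2, nat_lit 0, nat_lit 4, nat_lit 0])
 (.leaf [nat_lit 3, nat_lit 7, nat_lit 5, nat_lit 2, nat_lit 6, nat_lit 3, nat_lit 4, nat_lit 1])))
 (.node (nat_lit 9) (.leaf [nat_lit 3, nat_lit 0, nat_lit 6, nat_lit 0, nat_lit 0, nat_lit 5, nat_lit 1, nat_lit 4, nat_lit 2, nat_lit 0])
 (.node (nat_lit 10) (.leaf [nat_lit 7, nat_lit 0, nat_lit 7, nat_lit 0, nat_lit 0, nat_lit 6])
 (.leaf [nat_lit 7, nat_lit 0, nat_lit 7, nat_lit 0, nat_lit 5, nat_lit 0, nat_lit 4, nat_lit 0])))))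
theorem lets : Lets M12.P 24 (nat_lit 5) (nat_lit 31) (Fin.ofNat 24) T := lets_words M12.lets D (by decide +kernel)
noncomputable def q : List ℕ → List ℕ → Bool := weqOn (nat_lit 5) (nat_lit 31) T M12.B
theorem dec : Dec lets.e q := dec_weqOn lets M12.base (ofNat_inj _)
theorem c1 : pcChk q 6 (nat_lit 0x10015000c000500020001000000000000000000000000000000000000000000000000000f0005000300010000000000000000000000000000000000000000000000000007000400020001000000000000000000000000000000000000000000000000000000010002000100000000000000000000000000000000000000000000000000000000000100010000000000000000000000000000000000000000000000000000000000000000) = true := by decide +kernel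
theorem c2 : ndChk q 6 = true := by decide +kernel
theorem c3 : cenChk q 6 1 6 = true := by decide +kernel
theorem c4 : fusChk q 6 [([nat_lit 6], [nat_lit 1], nat_lit 21),
 ([nat_lit 7], [nat_lit 1, nat_lit 21], nat_lit 16),
 ([nat_lit 8], [nat_lit 1, nat_lit 16], nat_lit 22),
 ([nat_lit 9], [nat_lit 21], nat_lit 31),
 ([nat_lit 10], [nat_lit 21, nat_lit 22, nat_lit 31], nat_lit 38),
 ([], [nat_lit 22, nat_lit 21], nat_lit 2),
 ([], [nat_lit 21, nat_lit 16], nat_lit 4),
 ([], [nat_lit 31, nat_lit 16], nat_lit 8),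
 ([], [nat_lit 21, nat_lit 38, nat_lit 22], nat_lit 32)] [1] = true := by decide +kernel
theorem c5 : phiChk q 6 3 (nat_lit 0x100010001000100040004000400040005000500050005000200020003000300020002000300030000000000010001000000000001000100000000000000000000000000000000000000000000000000000000000000000007000700060006000600060007000700000000000100010001000100000000) (.node (nat_lit 1) (.leaf [nat_lit 2])
 (.node (nat_lit 2) (.leaf [nat_lit 42])
 (.leaf [nat_lit 52]))) = true := by decide +kernel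
theorem c6 : tyChk q 6 3 6 (nat_lit 0x610100602020807) = true := by decide +kernel
theorem simple : IsSylowIn 2 (Sk lets.e 6) ⊤ ∧ (Cfsg.groupFusionSystem (Sk lets.e 6)).IsSimple 2 :=
  dec.simple (m := 742) (M12.card.trans (by norm_num)) (by norm_num) (by norm_num) (by norm_num) c1 c2 c3 c4 c5 c6 fun _ _ K _ g _ => top_triv K g

end H2.SyM12
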