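import Cfsg.Agent.H2.PC2
import Cfsg.Agent.H8.GM22

/-! H2.SyM22: the 2-fusion system of the permutation model is simple (generated certificate) -/

set_option autoImplicit false
set_option maxRecDepth 200000

namespace H2.SyM22
open H8 H2.PC

noncomputable def t0 : ℕ := (nat_lit 0xbda74ac88b73d4983583118b141c20)
noncomputable def t1 : ℕ := (nat_lit 0xbda3424aa8535c71bc50618b35a420)
noncomputable def t2 : ℕ := (nat_lit 0xbd8928d27073d475b448604b51a4c0)
noncomputable def t3 : ℕ := (nat_lit 0xbd9346484a40d736c2af218a774420)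
noncomputable def t4 : ℕ := (nat_lit 0xb95944c85073db55aa63206c7444c0)
noncomputable def t5 : ℕ := (nat_lit 0xb95c1799443898b8a615452cd98e40)
noncomputable def t6 : ℕ := (nat_lit 0xb94e11192373db342ab08d2cc59240)
noncomputable def t7 : ℕ := (nat_lit 0xb9136614ca42dc27b4f0a4e211caa0)
noncomputable def t8 : ℕ := (nat_lit 0xb99158c0435b2747342492acf39520)
noncomputable def t9 : ℕ := (nat_lit 0xb9dc27b2235a293818816d935928a0)
noncomputable def t10 : ℕ := (nat_lit 0xbd5c719a0aa25967c8882866d5c440)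
noncomputable def T : Tr ℕ := (.node (nat_lit 5) (.node (nat_lit 2) (.node (nat_lit 1) (.leaf t0)
 (.leaf t1))
 (.node (nat_lit 3) (.leaf t2)
 (.node (nat_lit 4) (.leaf t3)
 (.leaf t4))))
 (.node (nat_lit 8) (.node (nat_lit 6) (.leaf t5)
 (.node (nat_lit 7) (.leaf t6)
 (.leaf t7)))
 (.node (nat_lit 9) (.leaf t8)
 (.node (nat_lit 10) (.leaf t9)
 (.leaf t10)))))
noncomputable def D : Tr (List ℕ) := (.node (nat_lit 5) (.node (nat_lit 2) (.node (nat_lit 1) (.leaf [nat_lit 0, nat_lit 3, nat_lit 5, nat_lit 1, nat_lit 3, nat_lit 4, nat_lit 3, nat_lit 1, nat_lit 2, nat_lit 1])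
 (.leaf [nat_lit 0, nat_lit 3, nat_lit 0, nat_lit 5, nat_lit 0, nat_lit 3, nat_lit 4, nat_lit 0]))
 (.node (nat_lit 3) (.leaf [nat_lit 0, nat_lit 2, nat_lit 0, nat_lit 6, nat_lit 5, nat_lit 2, nat_lit 4, nat_lit 0, nat_lit 3])
 (.node (nat_lit 4) (.leaf [nat_lit 5, nat_lit 0, nat_lit 5, nat_lit 4, nat_lit 2, nat_lit 0, nat_lit 4, nat_lit 1, nat_lit 2, nat_lit 0])
 (.leaf [nat_lit 0, nat_lit 2, nat_lit 0, nat_lit 6, nat_lit 5, nat_lit 0, nat_lit 5, nat_lit 4, nat_lit 2, nat_lit 4, nat_lit 2, nat_lit 0, nat_lit 3, nat_lit 1]))))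
 (.node (nat_lit 8) (.node (nat_lit 6) (.leaf [nat_lit 5, nat_lit 1, nat_lit 6, nat_lit 2, nat_lit 0, nat_lit 5, nat_lit 0, nat_lit 2, nat_lit 4, nat_lit 2, nat_lit 1, nat_lit 3])
 (.node (nat_lit 7) (.leaf [nat_lit 5, nat_lit 1, nat_lit 6, nat_lit 5, nat_lit 1, nat_lit 5, nat_lit 0, nat_lit 4, nat_lit 3, nat_lit 1, nat_lit 2])
 (.leaf [nat_lit 6, nat_lit 0, nat_lit 6, nat_lit 0, nat_lit 2, nat_lit 5, nat_lit 0, nat_lit 3, nat_lit 4, nat_lit 1, nat_lit 3, nat_lit 2, nat_lit 1])))
 (.node (nat_lit 9) (.leaf [nat_lit 3, nat_lit 1, nat_lit 6, nat_lit 5, nat_lit 1, nat_lit 5, nat_lit 1, nat_lit 3, nat_lit 4, nat_lit 0, nat_lit 3, nat_lit 1])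
 (.node (nat_lit 10) (.leaf [nat_lit 6, nat_lit 2, nat_lit 6, nat_lit 3, nat_lit 5, nat_lit 1, nat_lit 2, nat_lit 4])
 (.leaf [nat_lit 5, nat_lit 3, nat_lit 6, nat_lit 3, nat_lit 0, nat_lit 5, nat_lit 4, nat_lit 2, nat_lit 4, nat_lit 2, nat_lit 0])))))
theorem lets : Lets M22.P 24 (nat_lit 5) (nat_lit 31) (Fin.ofNat 24) T := lets_words M22.lets D (by decide +kernel)
noncomputable def q : List ℕ → List ℕ → Bool := weqOn (nat_lit 5) (nat_lit 31) T M22.B
theorem dec : Dec lets.e q := dec_weqOn lets M22.base (ofNat_inj _)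
theorem c1 : pcChk q 7 (nat_lit 0x5002a0015000b0004000300010000000000000000000000000000000000000000000d001f000b00070003000100000000000000000000000000000000000000000000000000080004000300010000000000000000000000000000000000000000000000000000000500020001000000000000000000000000000000000000000000000000000000000002000100000000000000000000000000000000000000000000000000000000000000010000000000000000000000000000000000000000000000000000000000000000) = true := by decide +kernel
theorem c2 : ndChk q 7 = true := by decide +kernel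
theorem c3 : cenChk q 7 1 7 = true := by decide +kernel
theorem c4 : fusChk q 7 [([nat_lit 7], [nat_lit 1], nat_lit 7),
 ([nat_lit 8], [nat_lit 1, nat_lit 7], nat_lit 108),
 ([nat_lit 9], [nat_lit 1], nat_lit 84),
 ([nat_lit 10], [nat_lit 108, nat_lit 7, nat_lit 108, nat_lit 84], nat_lit 25),
 ([], [nat_lit 1, nat_lit 7, nat_lit 108, nat_lit 7, nat_lit 108], nat_lit 2),
 ([], [nat_lit 108, nat_lit 7, nat_lit 108], nat_lit 4),
 ([], [nat_lit 1, nat_lit 108, nat_lit 25, nat_lit 108, nat_lit 25], nat_lit 8),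
 ([], [nat_lit 108, nat_lit 25, nat_lit 108], nat_lit 16),
 ([], [nat_lit 25, nat_lit 84, nat_lit 108], nat_lit 32),
 ([], [nat_lit 108, nat_lit 25, nat_lit 84, nat_lit 108], nat_lit 64)] [1] = true := by decide +kernel
theorem c5 : phiChk q 7 4 (nat_lit 0x8000800090009000a000a000b000b0008000800090009000b000b000a000a0000000000000000000300030003000300000000000000000002000200020002000200020002000200030003000300030000000000000000000000000000000000070007000600060006000600070007000400040005000500040004000500050003000300030003000100010001000100010001000100010002000200020002000d000d000c000c000e000e000f000f000e000e000f000f000c000c000d000d00000000000100010001000100000000000100010000000000010001000000000001000100010001000000000000000000000000000000000000000000000000) (.node (nat_lit 2) (.node (nat_lit 1) (.leaf [nat_lit 12])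
 (.leaf [nat_lit 48]))
 (.node (nat_lit 3) (.leaf [nat_lit 66])
 (.leaf [nat_lit 118]))) = true := by decide +kernel
theorem c6 : tyChk q 7 4 7 (nat_lit 0x80a0a080c100607) = true := by decide +kernel
theorem simple : IsSylowIn 2 (Sk lets.e 7) ⊤ ∧ (Cfsg.groupFusionSystem (Sk lets.e 7)).IsSimple 2 :=
  dec.simple (m := 1732) (M22.card.trans (by norm_num)) (by norm_num) (by norm_num) (by norm_num) c1 c2 c3 c4 c5 c6 fun _ _ K _ g _ => top_triv K g

end H2.SyM22
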