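import Cfsg.Agent.H2.PC2
import Cfsg.Agent.H8.GM23

/-! H2.SyM23: the 2-fusion system of the permutation model is simple (generated certificate) -/

set_option autoImplicit false
set_option maxRecDepth 200000

namespace H2.SyM23
open H8 H2.PC

noncomputable def t0 : ℕ := (nat_lit 0xbd87064a344a1b3029ee09844a94eb)
noncomputable def t1 : ℕ := (nat_lit 0xbd96914a2f81da5aaa817198404d03)
noncomputable def t2 : ℕ := (nat_lit 0xbda61aca2773da3129098180462e85)
noncomputable def t3 : ℕ := (nat_lit 0xbb58eaca280c2c3290f47980a9ad22)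
noncomputable def t4 : ℕ := (nat_lit 0xbb674ac6504a2c32a9ee3996460022)
noncomputable def t5 : ℕ := (nat_lit 0xba82b7c640a94897346299a163d188)
noncomputable def t6 : ℕ := (nat_lit 0xb92b02ca3449d425b5e171a761b100)
noncomputable def t7 : ℕ := (nat_lit 0xbd8499c1af6568b91805520ee18491)
noncomputable def t8 : ℕ := (nat_lit 0xbb40f0c0ac20a4e1ccd455aa941e2b)
noncomputable def t9 : ℕ := (nat_lit 0xbc54c1a61338a4bad1c54188fb3420)
noncomputable def T : Tr ℕ := (.node (nat_lit 5) (.node (nat_lit 2) (.node (nat_lit 1) (.leaf t0)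
 (.leaf t1))
 (.node (nat_lit 3) (.leaf t2)
 (.node (nat_lit 4) (.leaf t3)
 (.leaf t4))))
 (.node (nat_lit 7) (.node (nat_lit 6) (.leaf t5)
 (.leaf t6))
 (.node (nat_lit 8) (.leaf t7)
 (.node (nat_lit 9) (.leaf t8)
 (.leaf t9)))))
noncomputable def D : Tr (List ℕ) := (.node (nat_lit 5) (.node (nat_lit 2) (.node (nat_lit 1) (.leaf [nat_lit 5, nat_lit 1, nat_lit 7, nat_lit 1, nat_lit 5, nat_lit 6, nat_lit 2, nat_lit 1, nat_lit 5, nat_lit 3, nat_lit 0, nat_lit 4, nat_lit 3, nat_lit 1])
 (.leaf [nat_lit 6, nat_lit 4, nat_lit 0, nat_lit 7, nat_lit 0, nat_lit 2, nat_lit 6, nat_lit 4, nat_lit 5, nat_lit 0, nat_lit 5, nat_lit 1, nat_lit 3, nat_lit 1, nat_lit 4, nat_lit 1, nat_lit 2, nat_lit 0]))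
 (.node (nat_lit 3) (.leaf [nat_lit 4, nat_lit 0, nat_lit 7, nat_lit 0, nat_lit 5, nat_lit 2, nat_lit 6, nat_lit 5, nat_lit 1, nat_lit 3, nat_lit 0, nat_lit 4, nat_lit 3, nat_lit 0, nat_lit 2])
 (.node (nat_lit 4) (.leaf [nat_lit 6, nat_lit 4, nat_lit 7, nat_lit 4, nat_lit 0, nat_lit 2, nat_lit 6, nat_lit 5, nat_lit 1, nat_lit 5, nat_lit 3, nat_lit 0, nat_lit 4, nat_lit 2, nat_lit 1, nat_lit 3, nat_lit 1])
 (.leaf [nat_lit 6, nat_lit 4, nat_lit 7, nat_lit 1, nat_lit 2, nat_lit 6, nat_lit 5, nat_lit 1, nat_lit 5, nat_lit 1, nat_lit 4, nat_lit 3, nat_lit 4, nat_lit 0, nat_lit 3]))))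
 (.node (nat_lit 7) (.node (nat_lit 6) (.leaf [nat_lit 1, nat_lit 7, nat_lit 4, nat_lit 3, nat_lit 6, nat_lit 4, nat_lit 0, nat_lit 5, nat_lit 4, nat_lit 3, nat_lit 4, nat_lit 0, nat_lit 3, nat_lit 0, nat_lit 2])
 (.leaf [nat_lit 1, nat_lit 5, nat_lit 6, nat_lit 5, nat_lit 0, nat_lit 5, nat_lit 4, nat_lit 1, nat_lit 3, nat_lit 4, nat_lit 2, nat_lit 0, nat_lit 3]))
 (.node (nat_lit 8) (.leaf [nat_lit 5, nat_lit 3, nat_lit 7, nat_lit 1, nat_lit 2, nat_lit 6, nat_lit 3, nat_lit 0, nat_lit 5, nat_lit 1, nat_lit 3, nat_lit 1, nat_lit 4, nat_lit 3])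
 (.node (nat_lit 9) (.leaf [nat_lit 5, nat_lit 1, nat_lit 7, nat_lit 0, nat_lit 2, nat_lit 6, nat_lit 5, nat_lit 1, nat_lit 5, nat_lit 0, nat_lit 4, nat_lit 3, nat_lit 4, nat_lit 0, nat_lit 3, nat_lit 0])
 (.leaf [nat_lit 5, nat_lit 2, nat_lit 5, nat_lit 2, nat_lit 1, nat_lit 4, nat_lit 2, nat_lit 0, nat_lit 3, nat_lit 1])))))
theorem lets : Lets M23.P 24 (nat_lit 5) (nat_lit 31) (Fin.ofNat 24) T := lets_words M23.lets D (by decide +kernel)
noncomputable def q : List ℕ → List ℕ → Bool := weqOn (nat_lit 5) (nat_lit 31) T M23.B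
theorem dec : Dec lets.e q := dec_weqOn lets M23.base (ofNat_inj _)
theorem c1 : pcChk q 7 (nat_lit 0x2f001e000b000700020001000000000000000000000000000000000000000000080018000800070003000100000000000000000000000000000000000000000000000000090004000300010000000000000000000000000000000000000000000000000001000500020001000000000000000000000000000000000000000000000000000000000002000100000000000000000000000000000000000000000000000000000000000000010000000000000000000000000000000000000000000000000000000000000000) = true := by decide +kernel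
theorem c2 : ndChk q 7 = true := by decide +kernel
theorem c3 : cenChk q 7 1 7 = true := by decide +kernel
theorem c4 : fusChk q 7 [([nat_lit 7], [nat_lit 1], nat_lit 30),
 ([nat_lit 8], [nat_lit 1, nat_lit 30], nat_lit 116),
 ([nat_lit 9], [nat_lit 1], nat_lit 79),
 ([], [nat_lit 30, nat_lit 79, nat_lit 30, nat_lit 116, nat_lit 30, nat_lit 79, nat_lit 30, nat_lit 116], nat_lit 2),
 ([], [nat_lit 116, nat_lit 79, nat_lit 30, nat_lit 116, nat_lit 30, nat_lit 79], nat_lit 4),
 ([], [nat_lit 116, nat_lit 30, nat_lit 116, nat_lit 79, nat_lit 30, nat_lit 79], nat_lit 8),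
 ([], [nat_lit 79, nat_lit 30, nat_lit 79], nat_lit 16),
 ([], [nat_lit 79, nat_lit 30, nat_lit 116], nat_lit 32),
 ([], [nat_lit 1, nat_lit 30, nat_lit 79, nat_lit 30], nat_lit 64)] [1] = true := by decide +kernel
theorem c5 : phiChk q 7 4 (nat_lit 0x20002000200020003000300030003000000000000000000000000000000000006000600070007000700070006000600040004000500050004000400050005000e000e000f000f000d000d000c000c000d000d000c000c000f000f000e000e00000000000000000002000200020002000300030003000300000000000000000003000300030003000100010001000100020002000200020001000100010001000b000b000a000a0008000800090009000b000b000a000a000900090008000800000000000100010001000100000000000100010000000000010001000000000000000000000000000100010001000100000000000000000000000000000000) (.node (nat_lit 2) (.node (nat_lit 1) (.leaf [nat_lit 8])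
 (.leaf [nat_lit 52]))
 (.node (nat_lit 3) (.leaf [nat_lit 98])
 (.leaf [nat_lit 32]))) = true := by decide +kernel
theorem c6 : tyChk q 7 4 7 (nat_lit 0xa08080a0c100607) = true := by decide +kernel
theorem simple : IsSylowIn 2 (Sk lets.e 7) ⊤ ∧ (Cfsg.groupFusionSystem (Sk lets.e 7)).IsSimple 2 :=
  dec.simple (m := 39847) (M23.card.trans (by norm_num)) (by norm_num) (by norm_num) (by norm_num) c1 c2 c3 c4 c5 c6 fun _ _ K _ g _ => top_triv K g

end H2.SyM23
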