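import Cfsg.Agent.H9.Norm
import Cfsg.Agent.H9.LE1
import Cfsg.Agent.H2.Cocycle
import Cfsg.Agent.H1.Primitive

/-!
H2.T1: small technical lemmas (averaging, small-order elements, coprime action on chains).
-/

set_option linter.unusedSectionVars false

namespace H2T

open Subgroup Cfsg H9
open scoped Pointwise commutatorElement

universe u

/-- averaging over the cosets of `T` -/
theorem avg {L M : Type*} [Group L] [Finite L] [CommGroup M] (ρ : L →* MulAut M) (T : Subgroup L) :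
    ∃ τ : M →* M, (∀ c, (∀ t ∈ T, ρ t c = c) → ∀ l, ρ l (τ c) = τ c) ∧
      ∀ (N : Subgroup M) (c : M), (∀ l, ρ l c * c⁻¹ ∈ N) → τ c * (c ^ T.index)⁻¹ ∈ N := by
  refine ⟨MonoidHom.mk' (fun c => Nm T fun t => ρ t c) fun a b => by simp only [map_mul, Nm_mul], fun c hc l => ?_,
    fun N c h => ?_⟩
  · have := Nm_map (ρ l).toMonoidHom T fun t => ρ t c
    refine this.trans ?_
    have h2 := Nm_shift (M := T) (ψ := fun t => ρ t c) (fun t m hm => by
      rw [map_mul, MulAut.mul_apply, hc m hm]) l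
    simp only [map_mul, MulAut.mul_apply] at h2
    exact h2
  · rw [← QuotientGroup.eq_one_iff, QuotientGroup.mk_mul, QuotientGroup.mk_inv, mul_inv_eq_one]
    have := Nm_map (QuotientGroup.mk' N) T fun t => ρ t c
    refine this.trans ?_
    rw [QuotientGroup.mk_pow, ← Nm_const T]
    congr 1
    funext t
    have := (QuotientGroup.eq_one_iff _).2 (h t)
    rwa [QuotientGroup.mk_mul, QuotientGroup.mk_inv, mul_inv_eq_one] at this

variable {G : Type u} [Group G] [Finite G] {p : ℕ} [hp : Fact p.Prime]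

/-- internal averaging -/
theorem avg_int {S N V : Subgroup G} (hV : IsMulCommutative V) (hN : N ≤ normalizer (V : Set G)) :
    ∃ τ : V →* V, (∀ c : V, (c : G) ∈ centralizer (S : Set G) → (τ c : G) ∈ centralizer (N : Set G)) ∧
      ∀ c : V, (c : G) ∈ centralizer (N : Set G) → τ c = c ^ S.relIndex N := by
  let _ : CommGroup V := { mul_comm := hV.is_comm.comm }
  obtain ⟨τ, h1, h2⟩ := avg (V.normalizerMonoidHom.comp (inclusion hN)) (S.subgroupOf N)
  refine ⟨τ, fun c hc n hn => ?_, fun c hc => ?_⟩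
  · have := congrArg Subtype.val (h1 c (fun t ht => Subtype.ext (by
      change (t : G) * c * (t : G)⁻¹ = c
      rw [hc t ht, mul_inv_cancel_right])) ⟨n, hn⟩)
    exact mul_inv_eq_iff_eq_mul.1 this
  · refine mul_inv_eq_one.1 (mem_bot.1 (h2 ⊥ c fun l => mem_bot.2 (mul_inv_eq_one.2 (Subtype.ext ?_))))
    change (l : G) * c * (l : G)⁻¹ = c
    rw [hc l l.2, mul_inv_cancel_right]

/-- elements of order `p`, or dividing `4` when `p = 2` -/
def Sm (p : ℕ) (a : G) : Prop := a ^ p = 1 ∨ (p = 2 ∧ a ^ 4 = 1)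

theorem Sm.of_mem {a b : G} (h : Sm p a) (hb : b ∈ zpowers a) : Sm p b := by
  obtain ⟨k, rfl⟩ := hb
  refine h.imp (fun e => ?_) (And.imp_right fun e => ?_) <;>
    simp only [← zpow_natCast] at e ⊢ <;> rw [← zpow_mul, mul_comm, zpow_mul, e, one_zpow]

theorem Sm.conj {a : G} (h : Sm p a) (g : G) : Sm p (g * a * g⁻¹) :=
  h.imp (fun e => by rw [conj_pow, e]; simp) (And.imp_right fun e => by rw [conj_pow, e]; simp)

theorem cent_of_sm {A P : Subgroup G} (hA : (Nat.card A).Coprime p) (hP : IsPGroup p P) (hn : A ≤ normalizer (P : Set G))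
    (h : ∀ x ∈ P, Sm p x → x ∈ centralizer (A : Set G)) : P ≤ centralizer (A : Set G) := by
  rcases eq_or_ne p 2 with rfl | h2
  · exact L.le_centralizer_of_omega_four hA hP hn fun x hx e => h x hx (Or.inr ⟨rfl, e⟩)
  · exact L.le_centralizer_of_omega hA dvd_rfl (hp.out.dvd_choose_self two_ne_zero (lt_of_le_of_ne hp.out.two_le h2.symm))
      P hP hn fun x hx e => h x hx (Or.inl e)

theorem cop_zpowers {g : G} (h : (orderOf g).Coprime p) : (Nat.card (zpowers g)).Coprime p := by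
  rwa [Nat.card_zpowers]

theorem npc_of_cent (P : Sylow p G) (h : ∀ Q A : Subgroup G, Q ≤ P → (Nat.card A).Coprime p → A ≤ normalizer (Q : Set G) →
    Q ≤ centralizer (A : Set G)) : HasNormalPComplement p G :=
  H2.frobenius P fun Q hQ g hg hc => zpowers_le.1 (le_centralizer_iff.1 (h Q _ hQ (cop_zpowers hc) (zpowers_le.2 hg)))

theorem eq_bot_of_le_commutator {Q P : Subgroup G} (hP : Group.IsNilpotent P) (h1 : Q ≤ P) (h : Q ≤ ⁅Q, P⁆) : Q = ⊥ := by
  by_contra h0
  exact H1.not_le_commutator_of_nilpotent hP h1 h0 h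

theorem cent_of_fusion {P A : Subgroup G} (hP : IsPGroup p P) (hA : (Nat.card A).Coprime p)
    (h : ∀ a ∈ P, Sm p a → ∀ g ∈ A, g * a * g⁻¹ ∈ P → ∃ x ∈ P, g * a * g⁻¹ = x * a * x⁻¹) (Q : Subgroup G) :
    Q ≤ P → A ≤ normalizer (Q : Set G) → Q ≤ centralizer (A : Set G) := by
  induction Q using WellFoundedLT.induction with | ind Q ih => ?_
  intro h1 h2
  let O : Subgroup G := ⨆ x : {x : G // x ∈ Q ∧ Sm p x}, zpowers x.1
  have o1 : O ≤ Q := iSup_le fun x => zpowers_le.2 x.2.1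
  have o2 : A ≤ normalizer (O : Set G) := le_normalizer_of_cj_le fun g hg => by
    rw [cj_iSup]
    exact iSup_le fun x => le_iSup_of_le ⟨_, conj_mem_of_le_normalizer h2 hg x.2.1, x.2.2.conj g⟩ (cj_zpowers _ _).le
  rcases o1.lt_or_eq with o3 | o3
  · exact cent_of_sm hA (hP.to_le h1) h2 fun x hx hs =>
      ih O o3 (o1.trans h1) o2 (le_iSup (fun x : {x : G // x ∈ Q ∧ Sm p x} => zpowers x.1) ⟨x, hx, hs⟩ (mem_zpowers x))
  have c := copA_of_p' (hP.to_le h1) hA
  rcases (commutator_le_left' h2).lt_or_eq with o4 | o4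
  · exact cop_le_centralizer h2 c le_rfl (ih _ o4 (o4.le.trans h1) (normalizer_commutator h2 le_normalizer))
  have : Q ≤ ⁅Q, P⁆ := by
    refine o4.ge.trans ((commutator_mono o3.ge le_rfl).trans (commutator_iSup_le (fun x => ?_) fun x => ?_))
    · exact (zpowers_le.2 x.2.1).trans (normalizer_commutator_ge_left Q P)
    · refine commutator_le.2 fun a ha g hg => ?_
      have ha' := zpowers_le.2 x.2.1 ha
      obtain ⟨y, hy, e⟩ := h a⁻¹ (h1 (inv_mem ha')) (x.2.2.of_mem (inv_mem ha)) g hg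
        (h1 (conj_mem_of_le_normalizer h2 hg (inv_mem ha')))
      have : ⁅a, g⁆ = ⁅a, y⁆ := by
        rw [commutatorElement_def, commutatorElement_def, mul_assoc a g, mul_assoc a, e]; group
      exact this ▸ commutator_mem_commutator ha' hy
  rw [eq_bot_of_le_commutator hP.isNilpotent h1 this]
  exact bot_le

theorem cent_of_normalizes_syl (G : Type u) [Group G] [Finite G] : ∀ (Q A P : Subgroup G), PSol p (⊤ : Subgroup G) →
    (Nat.card Q).Coprime p → IsPGroup p A → A ≤ normalizer (Q : Set G) → Syl p P ⊤ → Q ≤ normalizer (P : Set G) →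
    ⁅Q, A⁆ = ⊥ := by
  refine H1.group_induction (P := fun G _ _ => ∀ (Q A P : Subgroup G), PSol p (⊤ : Subgroup G) →
    (Nat.card Q).Coprime p → IsPGroup p A → A ≤ normalizer (Q : Set G) → Syl p P ⊤ → Q ≤ normalizer (P : Set G) →
    ⁅Q, A⁆ = ⊥) (fun G _ _ ih Q A P h1 h2 h3 h4 h5 h6 => ?_) G
  have key : ∀ N : Subgroup G, N.Normal → N ≠ ⊥ → ⁅Q, A⁆ ≤ N := fun N _ hN => by
    have e : (⊤ : Subgroup G).map (QuotientGroup.mk' N) = ⊤ := map_top_of_surjective _ (QuotientGroup.mk'_surjective N)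
    have := ih _ (H1.card_quotient_lt hN) _ _ _ (e ▸ h1.map (QuotientGroup.mk' N)) (cop_map _ h2) (h3.map _)
      (map_le_normalizer_map _ h4) (e ▸ h5.map _) (map_le_normalizer_map _ h6)
    rwa [← map_commutator, Subgroup.map_eq_bot_iff, QuotientGroup.ker_mk'] at this
  have c1 : ⁅Q, A⁆ ≤ Q := commutator_le_left' h4
  by_cases hO : pPrimeCore p G = ⊥
  · by_cases hP : pCore p G = ⊥
    · have := centralizer_Op_le_of_PLay (PLay_eq_bot_of_psol h1) ((Op'_top p).trans hO)
      rw [Op_top, hP] at this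
      exact eq_bot_iff.2 fun x _ => this ⟨trivial, fun y hy => by rw [mem_bot.1 hy]; simp⟩
    · exact eq_bot_of_p_p' ((pCore_p p).to_le (key _ inferInstance hP)) (cop_of_le h2 c1)
  have c2 : ⁅⁅Q, A⁆, P⁆ = ⊥ := eq_bot_of_p_p' (h5.isP.to_le (commutator_le_right' (c1.trans h6)))
    (cop_of_le (pPrimeCore_cop p) ((commutator_mono (key _ inferInstance hO) le_rfl).trans
      (commutator_le_left' le_normalizer_of_normal)))
  rw [commutator_comm, commutator_eq_bot_iff_le_centralizer] at c2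
  obtain ⟨g, hg, c3⟩ := (h5.mono (c2.trans (centralizer_le_normalizer' _)) le_top).exists_le_cj h3
    (normalizer_commutator h4 le_normalizer)
  refine cop_comm_eq_bot h4 (copA_of_p h3 h2) ?_
  rw [commutator_comm, commutator_eq_bot_iff_le_centralizer]
  refine c3.trans ((cj_mono g c2).trans ?_)
  rw [cj_centralizer, mem_normalizer_iff_cj.1 hg]

theorem not_mem_res {W : Subgroup G} {e : G} (h2 : Even (orderOf e)) (h : ∀ (g : G) (n : ℕ), g * e ^ n * g⁻¹ ∈ W → e ^ n = 1)
    {c : ℕ} (hc : W.index = orderOf e * c) (ho : Odd c) : e ∉ pResidual 2 G := by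
  classical
  have := Fintype.ofFinite (G ⧸ W)
  let f : G →* ℤˣ := Equiv.Perm.sign.comp (MulAction.toPermHom G (G ⧸ W))
  have h1 : pResidual 2 G ≤ f.ker := (closure_le _).2 fun x hx => by
    have e1 : f x ^ orderOf x = 1 := by rw [← map_pow, pow_orderOf_eq_one, map_one]
    rcases Int.units_eq_one_or (f x) with e2 | e2
    · exact e2
    · rw [e2, (Nat.coprime_two_right.1 hx).neg_one_pow] at e1
      exact absurd e1 (by decide)
  intro he
  set σ := MulAction.toPermHom G (G ⧸ W) e with hσ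
  have fx : ∀ (n : ℕ) (x : G ⧸ W), (σ ^ n) x = x → orderOf e ∣ n := fun n x hx => by
    rw [hσ, ← map_pow] at hx
    exact orderOf_dvd_of_pow_eq_one (h x.out⁻¹ n (by simpa using H2.smul_eq_iff_out.1 hx))
  have h3 : ∀ n ∈ σ.cycleType, n = orderOf e := fun n hn => by
    refine Nat.dvd_antisymm ((Equiv.Perm.dvd_of_mem_cycleType hn).trans (orderOf_map_dvd _ _)) ?_
    obtain ⟨c, τ, a1, a2, a3, rfl⟩ := Equiv.Perm.mem_cycleType_iff.1 hn
    obtain ⟨x, hx, -⟩ := id a3
    refine fx _ x ?_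
    rw [a1, a2.commute.mul_pow, ← a3.orderOf, pow_orderOf_eq_one, one_mul]
    exact Equiv.Perm.pow_apply_eq_self_of_apply_eq_self ((a2 x).resolve_left hx) _
  have h4 : σ.support = Finset.univ := Finset.eq_univ_of_forall fun x => Equiv.Perm.mem_support.2 fun hx => by
    have := Nat.dvd_one.1 (fx 1 x (by rwa [pow_one]))
    rw [this] at h2
    exact absurd h2 (by decide)
  have h5 := σ.sum_cycleType
  rw [h4, Finset.card_univ, ← Nat.card_eq_fintype_card, ← index_eq_card, hc, Multiset.eq_replicate_card.2 h3,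
    Multiset.sum_replicate, smul_eq_mul, mul_comm] at h5
  have h6 : Equiv.Perm.sign σ = 1 := h1 he
  rw [Equiv.Perm.sign_of_cycleType, σ.sum_cycleType, h4, Finset.card_univ, ← Nat.card_eq_fintype_card, ← index_eq_card, hc,
    Nat.eq_of_mul_eq_mul_left (orderOf_pos e) h5, ((h2.mul_right c).add_odd ho).neg_one_pow] at h6
  exact absurd h6 (by decide)

theorem equiv_of_compl {A D N : Subgroup G} (hA : A ≤ normalizer (N : Set G)) (hD : D ≤ normalizer (N : Set G))
    (h1 : A ⊓ N = ⊥) (h2 : D ⊓ N = ⊥) (h : A ⊔ N = D ⊔ N) : Nonempty (A ≃* D) := by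
  have a1 : N ≤ normalizer (N : Set G) := le_normalizer
  haveI : (N.subgroupOf (normalizer (N : Set G))).Normal := normal_in_normalizer
  obtain ⟨e⟩ := H1.equiv_of_complements (A := A.subgroupOf (normalizer (N : Set G))) (D := D.subgroupOf (normalizer (N : Set G)))
    (N := N.subgroupOf (normalizer (N : Set G))) (by rw [subgroupOf, subgroupOf, ← comap_inf, h1]; exact bot_subgroupOf _)
    (by rw [subgroupOf, subgroupOf, ← comap_inf, h2]; exact bot_subgroupOf _)
    (by rw [← subgroupOf_sup hA a1, ← subgroupOf_sup hD a1, h])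
  exact ⟨((subgroupOfEquivOfLe hA).symm.trans e).trans (subgroupOfEquivOfLe hD)⟩

theorem opp_fac {P : Subgroup G} {y d : G} (hy : y ∈ normalizer (P : Set G)) (hP : IsPGroup p P) (h1 : IsPGroup p (zpowers y))
    (hd : d ∈ pPrimeCore p G) (h2 : d⁻¹ * y * d ∈ normalizer (P : Set G)) :
    ∃ d₁ ∈ pPrimeCore p G ⊓ centralizer ({y} : Set G), ∃ d₂ ∈ pPrimeCore p G ⊓ centralizer (P : Set G), d = d₁ * d₂ := by
  have c : pPrimeCore p G ⊓ normalizer (P : Set G) ≤ centralizer (P : Set G) := by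
    rw [← commutator_eq_bot_iff_le_centralizer]
    exact eq_bot_of_p_p' (hP.to_le (commutator_le_right' inf_le_right)) (cop_of_le (pPrimeCore_cop p)
      ((commutator_mono inf_le_left le_rfl).trans (commutator_le_left' le_normalizer_of_normal)))
  obtain ⟨d', a1, a2⟩ := cop_fixed' (A := zpowers y) (D := pPrimeCore p G ⊓ normalizer (P : Set G))
    (normalizer_inf le_normalizer_of_normal ((zpowers_le.2 hy).trans le_normalizer))
    (copA_of_p h1 (cop_of_le (pPrimeCore_cop p) inf_le_left)) (x := d) fun a ha => ⟨by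
      rw [mul_assoc, mul_assoc, ← mul_assoc a]
      exact (pPrimeCore p G).mul_mem (inv_mem hd) ((inferInstance : (pPrimeCore p G).Normal).conj_mem d hd a), by
      obtain ⟨k, rfl⟩ := ha
      refine (normalizer (P : Set G)).mul_mem ?_ (inv_mem (zpow_mem hy k))
      have := zpow_mem h2 k
      rwa [show d⁻¹ * y * d = d⁻¹ * y * d⁻¹⁻¹ by rw [inv_inv], conj_zpow, inv_inv] at this⟩
  rw [centralizer_zpowers] at a2
  exact ⟨_, mem_inf.2 ⟨mul_mem hd a1.1, a2⟩, d'⁻¹, inv_mem (mem_inf.2 ⟨a1.1, c a1⟩), by group⟩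

theorem opp_frattini {P : Subgroup G} (hP : Syl p P ⊤) (g : G) :
    ∃ n ∈ normalizer ((P ⊓ pPrimePCore p G : Subgroup G) : Set G), ∃ d ∈ pPrimeCore p G, g = n * d := by
  have h1 : Syl p (P ⊓ Opp p ⊤) (Opp p ⊤) := hP.inf_normal le_top (le_normalizer_Opp p ⊤)
  have h2 := h1.frattini le_top (le_normalizer_Opp p ⊤)
  nth_rw 1 [← Opp_eq_sup h1] at h2
  rw [top_inf_eq, sup_assoc, sup_eq_right.2 le_normalizer, Op'_top, Opp_top, sup_comm] at h2
  obtain ⟨n, a1, d, a2, rfl⟩ := mem_sup_of_normal_right.1 (h2.ge (mem_top g))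
  exact ⟨n, a1, d, a2, rfl⟩

theorem opp_fusion {P : Subgroup G} (hP : Syl p P ⊤) {x g : G} (hx : x ∈ P) (h : g * x * g⁻¹ ∈ P) :
    ∃ n ∈ normalizer ((P ⊓ pPrimePCore p G : Subgroup G) : Set G), n * x * n⁻¹ = g * x * g⁻¹ := by
  obtain ⟨n, a1, d, a2, rfl⟩ := opp_frattini hP g
  have c : P ≤ normalizer ((P ⊓ pPrimePCore p G : Subgroup G) : Set G) :=
    normalizer_inf le_normalizer (le_top.trans (Opp_top (G := G) (p := p) ▸ le_normalizer_Opp p ⊤))
  obtain ⟨d₁, b1, d₂, b2, e⟩ := opp_fac (c hx) (hP.isP.to_le inf_le_left) (isPGroup_zpowers_of_mem hP.isP hx) (inv_mem a2) (by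
    have := mul_mem (mul_mem (inv_mem a1) (c h)) a1
    convert this using 1
    group)
  refine ⟨n * d₂⁻¹, mul_mem a1 (inv_mem (centralizer_le_normalizer' _ b2.2)), ?_⟩
  have e2 := mem_centralizer_singleton_iff.1 b1.2
  rw [inv_eq_iff_eq_inv.1 e]
  calc _ = n * d₂⁻¹ * d₁⁻¹ * (d₁ * x) * d₂ * n⁻¹ := by group
    _ = _ := by rw [e2]; group

end H2T
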