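import Cfsg.Agent.H1.Invol

/-! Small lemmas on involutions fixing a unique coset. -/

namespace Cfsg.Agent.H2
open Subgroup

variable {G : Type*} [Group G]

theorem dih_conj {x y z : G} (hx : x * x = 1) (hy : y * y = 1) (hz : z ∈ zpowers (x * y)) :
    IsConj x (x * z) ∨ IsConj y (x * z) := by
  obtain ⟨n, rfl⟩ := hz
  have hi : x * (x * y) * x⁻¹ = (x * y)⁻¹ := by
    rw [mul_inv_rev, inv_eq_of_mul_eq_one_right hx, inv_eq_of_mul_eq_one_right hy, ← mul_assoc, hx, one_mul]
  have h : ∀ j : ℤ, ((x * y) ^ j)⁻¹ * x = x * (x * y) ^ j := fun j => by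
    have : x * (x * y) ^ j * x⁻¹ = ((x * y) ^ j)⁻¹ := by rw [← conj_zpow, hi, inv_zpow]
    rw [← this, inv_mul_cancel_right]
  obtain ⟨j, rfl | rfl⟩ := Int.even_or_odd' n
  · refine Or.inl (isConj_iff.2 ⟨((x * y) ^ j)⁻¹, ?_⟩)
    rw [h, inv_inv, mul_assoc, ← zpow_add, two_mul]
  · refine Or.inr (isConj_iff.2 ⟨((x * y) ^ j)⁻¹, ?_⟩)
    have e : y = x * (x * y) := by rw [← mul_assoc, hx, one_mul]
    show _ = x * (x * y) ^ (2 * j + 1)
    calc _ = ((x * y) ^ j)⁻¹ * x * (x * y) * (x * y) ^ j := by rw [inv_inv, mul_assoc _ x, ← e]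
      _ = _ := by rw [h, mul_assoc, mul_assoc, ← zpow_one_add, ← zpow_add]; congr 2; ring

theorem smul_mk_eq {H : Subgroup G} {x g : G} : x • (g : G ⧸ H) = g ↔ g⁻¹ * x * g ∈ H := by
  rw [MulAction.Quotient.smul_coe, eq_comm, QuotientGroup.eq, smul_eq_mul, mul_assoc]

theorem mem_map_conj {H : Subgroup G} {x g : G} : x ∈ H.map (MulAut.conj g).toMonoidHom ↔ g⁻¹ * x * g ∈ H := by
  constructor
  · rintro ⟨h, hh, rfl⟩
    simpa [mul_assoc] using hh
  · exact fun h => ⟨_, h, by simp [mul_assoc]⟩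

theorem sq_of_two {x : G} (h : orderOf x = 2) : x * x = 1 := by
  rw [← pow_two, ← h, pow_orderOf_eq_one]

theorem conj_sq {x y : G} (h : IsConj x y) (hx : x * x = 1) : y * y = 1 := by
  obtain ⟨k, rfl⟩ := isConj_iff.1 h
  rw [mul_assoc, mul_assoc, mul_assoc, inv_mul_cancel_left, ← mul_assoc x, hx, one_mul, mul_inv_cancel]

/-- an involution of a finite type with exactly one fixed point: the type has odd cardinality -/
theorem odd_card_of_invol {α : Type*} [Finite α] (f : α → α) (hf : ∀ x, f (f x) = x) (a : α)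
    (h : ∀ x, f x = x ↔ x = a) : Odd (Nat.card α) := by
  classical
  haveI := Fintype.ofFinite α
  have h1 := Equiv.Perm.card_fixedPoints_modEq (f := (f : Function.End α)) (p := 2) (n := 1) (funext hf)
  have h2 : Function.fixedPoints f = {a} := Set.ext h
  have h3 : Fintype.card (Function.fixedPoints f) = 1 := by simp [h2]
  rw [Nat.card_eq_fintype_card, Nat.odd_iff]
  exact h1.trans (by rw [h3])

end Cfsg.Agent.H2
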