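import Cfsg.Agent.H1.Frob
import Cfsg.Agent.H1.Fitting

/-! Weight vectors for elementary abelian 2-groups acting on groups of odd order (Thompson's dihedral lemma). -/

namespace Cfsg.Agent.H2
open Subgroup H1

variable {G : Type*} [Group G]

/-- `y` is centralized or inverted by each element of `A` -/
def Wt (A : Subgroup G) (y : G) : Prop := ∀ a ∈ A, a * y * a⁻¹ = y ∨ a * y * a⁻¹ = y⁻¹

theorem ea_comm {A : Subgroup G} (hA : IsElementaryAbelian 2 A) {a b : G} (ha : a ∈ A) (hb : b ∈ A) : a * b = b * a :=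
  (le_centralizer_iff_isMulCommutative.2 hA.1 hb a ha)

theorem exists_wt [Finite G] {A V : Subgroup G} (hA : IsElementaryAbelian 2 A) (hn : A ≤ normalizer (V : Set G))
    (h : V ≠ ⊥) : ∃ y ∈ V, (orderOf y).Prime ∧ Wt A y := by
  obtain ⟨W, w1, w2, w3, w4⟩ := exists_minimal_invariant A V hn h
  obtain ⟨y, y1, y2⟩ := exists_prime_orderOf_mem w2
  refine ⟨y, w3 y1, y2, fun a ha => ?_⟩
  have hc : A ≤ centralizer {a} := fun b hb => mem_centralizer_singleton_iff.2 (ea_comm hA hb ha)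
  rcases w4 (W ⊓ centralizer {a}) (le_normalizer_inf w1 (hc.trans le_normalizer)) inf_le_left with e | e
  · exact Or.inr (conj_eq_inv_of_fpf (w1 ha) e (by rw [← pow_two, hA.2 a ha]; exact one_mem _) y1)
  · exact Or.inl (by rw [← mem_centralizer_singleton_iff.1 (e.ge y1).2, mul_inv_cancel_right])

theorem exists_wt_rel [Finite G] {A M C : Subgroup G} (hA : IsElementaryAbelian 2 A) (h1 : A ≤ normalizer (M : Set G))
    (h2 : A ≤ normalizer (C : Set G)) (h3 : C ≤ normalizer (M : Set G)) (h : ¬ C ≤ M) :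
    ∃ y ∈ C, y ∉ M ∧ ∀ a ∈ A, a * y * a⁻¹ ∈ M ⊔ zpowers y := by
  set L := normalizer (M : Set G)
  let π := QuotientGroup.mk' (M.subgroupOf L)
  obtain ⟨_, ⟨y, y1, rfl⟩, y2, y3⟩ := exists_wt (A := (A.subgroupOf L).map π) (V := (C.subgroupOf L).map π)
    ⟨le_centralizer_iff_isMulCommutative.1 (by
      rintro _ ⟨a, ha, rfl⟩ _ ⟨b, hb, rfl⟩
      rw [← map_mul, ← map_mul]; exact congrArg _ (Subtype.ext (ea_comm hA hb ha))), by
      rintro _ ⟨a, ha, rfl⟩
      rw [← map_pow, show a ^ 2 = 1 from Subtype.ext (hA.2 a ha), map_one]⟩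
    ((Subgroup.map_mono (le_normalizer_subgroupOf L h2)).trans (le_normalizer_map π)) (fun e => h fun c hc => by
      have := (Subgroup.map_eq_bot_iff _).1 e (x := ⟨c, h3 hc⟩) hc
      rwa [QuotientGroup.ker_mk'] at this)
  refine ⟨y, y1, fun h => y2.one_lt.ne' (orderOf_eq_one_iff.2 ((QuotientGroup.eq_one_iff y).2 h)), fun a ha => ?_⟩
  have key : ∀ z : L, (z : G) ∈ zpowers (y : G) → π ⟨a, h1 ha⟩ * π y * (π ⟨a, h1 ha⟩)⁻¹ = π z →
      a * y * a⁻¹ ∈ M ⊔ zpowers (y : G) := fun z hz e => by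
    rw [← map_inv, ← map_mul, ← map_mul, eq_comm, QuotientGroup.mk'_eq_mk'] at e
    obtain ⟨m, hm, e⟩ := e
    exact (congr(($e : G)) : (z : G) * m = a * y * a⁻¹) ▸ mul_mem (mem_sup_right hz) (mem_sup_left hm)
  exact (y3 _ ⟨⟨a, h1 ha⟩, ha, rfl⟩).elim (key y (mem_zpowers _)) (key y⁻¹ (inv_mem (mem_zpowers _)))

theorem exists_ab_faithful [Finite G] {A X : Subgroup G} (hA : IsElementaryAbelian 2 A) (hX : Group.IsNilpotent X)
    (ho : (Nat.card A).Coprime (Nat.card X)) (hn : A ≤ normalizer (X : Set G)) (hf : A ⊓ centralizer (X : Set G) = ⊥) :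
    ∃ M ≤ X, IsMulCommutative M ∧ A ≤ normalizer (M : Set G) ∧ A ⊓ centralizer (M : Set G) = ⊥ := by
  obtain ⟨M, ⟨m1, m2, m3⟩, hM⟩ := Set.Finite.exists_maximal (s := {M : Subgroup G | M ≤ X ∧ IsMulCommutative M ∧
    A ≤ normalizer (M : Set G)}) (Set.toFinite _) ⟨⊥, bot_le, inferInstance, le_normalizer_of_normal⟩
  refine ⟨M, m1, m2, m3, le_bot_iff.1 (hf ▸ le_inf inf_le_left (le_centralizer_of_centralizer_le hX
    (inf_le_left.trans hn) (coprime_of_le_left ho inf_le_left) m1 inf_le_right ?_))⟩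
  by_contra h
  obtain ⟨y, ⟨y1, y2⟩, y3, y4⟩ := exists_wt_rel hA m3 (le_normalizer_inf hn (le_normalizer_centralizer m3))
    (inf_le_right.trans (centralizer_le_normalizer _)) h
  have c1 : M ⊔ zpowers y ≤ centralizer (M : Set G) := sup_le (le_centralizer_iff_isMulCommutative.2 m2) (zpowers_le.2 y2)
  refine y3 (hM (y := M ⊔ zpowers y) ⟨sup_le m1 (zpowers_le.2 y1), le_centralizer_iff_isMulCommutative.1 ?_, ?_⟩ le_sup_left
    (mem_sup_right (mem_zpowers y)))
  · refine le_centralizer_iff.2 (sup_le (le_centralizer_iff.1 c1) (zpowers_le.2 ?_)) |> fun h => h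
    refine le_centralizer_iff.1 (sup_le (le_centralizer_iff.1 (zpowers_le.2 y2)) ?_) (mem_zpowers y)
    exact le_centralizer_iff_isMulCommutative.2 inferInstance
  · refine fun a ha => conj_smul_eq_self_iff.1 (eq_of_le_of_card_ge ?_ (card_conj_smul _ _).ge)
    rw [conj_smul_eq_map, Subgroup.map_sup, MonoidHom.map_zpowers]
    exact sup_le ((conj_smul_eq_self_iff.2 (m3 ha)).le.trans le_sup_left) (zpowers_le.2 (y4 a ha))

theorem inv_inv_comm {a b y : G} (ha : a * y * a⁻¹ = y⁻¹) (hb : b * y * b⁻¹ = y⁻¹) : Commute (a * b) y := by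
  have : a * y⁻¹ * a⁻¹ = y := by rw [← conj_inv, ha, inv_inv]
  show a * b * y = y * (a * b)
  conv_rhs => rw [← this, ← hb]
  group

theorem comm_inv {a b y : G} (ha : a * y * a⁻¹ = y⁻¹) (hb : Commute b y) : a * b * y * (a * b)⁻¹ = y⁻¹ := by
  rw [mul_assoc a, hb.eq, ← ha]; group

theorem comm_of_conj {a y : G} (ha : a * y * a⁻¹ = y) : Commute a y := mul_inv_eq_iff_eq_mul.1 ha

theorem exists_dual [Finite G] {A M : Subgroup G} (hA : IsElementaryAbelian 2 A) (hM : IsMulCommutative M)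
    (ho : Odd (Nat.card M)) (hn : A ≤ normalizer (M : Set G)) (hf : A ⊓ centralizer (M : Set G) = ⊥) (n : ℕ) :
    ∀ B ≤ A, Nat.card B = 2 ^ n → ∃ y b : Fin n → G, (∀ i, y i ∈ M ∧ (orderOf (y i)).Prime ∧ Wt A (y i) ∧ b i ∈ B ∧
      b i * y i * (b i)⁻¹ = (y i)⁻¹ ∧ ∀ j, j ≠ i → Commute (b i) (y j)) ∧ (∀ a ∈ A, ∃ c ∈ B, ∀ i, Commute (a * c) (y i)) ∧
      (∀ x ∈ B, (∀ i, Commute x (y i)) → x = 1) ∧ B ≤ ⨆ i, zpowers (b i) := by
  have mc : ∀ {u v}, u ∈ M → v ∈ M → u * v = v * u := fun hu hv => le_centralizer_iff_isMulCommutative.2 hM hv _ hu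
  induction n with
  | zero =>
    intro B _ h
    obtain rfl := card_eq_one.1 h
    exact ⟨Fin.elim0, Fin.elim0, fun i => i.elim0, fun a _ => ⟨1, one_mem _, fun i => i.elim0⟩, fun x hx _ => hx, bot_le⟩
  | succ n ih =>
    intro B hB h
    obtain ⟨⟨a, aB⟩, a1⟩ := ne_bot_iff_exists_ne_one.1 (show B ≠ ⊥ from fun e => by
      rw [e, card_bot] at h; exact absurd h.symm (by simp))
    have aa : a * a = 1 := by rw [← pow_two, hA.2 a (hB aB)]
    let V : Subgroup G := { carrier := {m | m ∈ M ∧ a * m * a⁻¹ = m⁻¹}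
                            mul_mem' := fun {u v} hu hv => ⟨mul_mem hu.1 hv.1, by
                              rw [mc hu.1 hv.1, mul_inv_rev, ← hu.2, ← hv.2, mc hv.1 hu.1]; group⟩
                            one_mem' := ⟨one_mem _, by simp⟩
                            inv_mem' := fun {u} hu => ⟨inv_mem hu.1, by rw [← conj_inv, hu.2]⟩ }
    obtain ⟨y, ⟨yM, ya⟩, y1, y2⟩ := exists_wt (V := V) hA (le_normalizer_iff.2 fun c hc m hm =>
      ⟨conj_mem_of_mem_normalizer (hn hc) hm.1, by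
        have := ea_comm hA hc (hB aB)
        calc _ = (a * c) * m * (a * c)⁻¹ := by group
          _ = _ := by rw [← this, mul_inv_rev c, ← mul_assoc, mul_assoc c a, mul_assoc c, hm.2]; group⟩) (fun e => a1
        (Subtype.ext (mem_bot.1 (hf.le ⟨hB aB, fun m hm => by
          have h1 := conj_mem_of_mem_normalizer (hn (hB aB)) hm
          have : m⁻¹ * (a * m * a⁻¹) ∈ V := ⟨mul_mem (inv_mem hm) h1, by
            have e1 : a⁻¹ = a := inv_eq_of_mul_eq_one_right aa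
            calc _ = (a * m * a⁻¹)⁻¹ * (a * a) * m * (a * a)⁻¹ := by rw [mul_inv_rev a a]; group
              _ = _ := by rw [aa]; group⟩
          rw [e, mem_bot, inv_mul_eq_one, eq_mul_inv_iff_mul_eq] at this
          exact this⟩))))
    have ny : ¬ Commute a y := fun e => by
      rw [e.eq, mul_inv_cancel_right, eq_inv_iff_mul_eq_one, ← pow_two, ← orderOf_dvd_iff_pow_eq_one,
        Nat.prime_dvd_prime_iff_eq y1 Nat.prime_two] at ya
      exact ho.not_two_dvd_nat (ya ▸ M.orderOf_dvd_natCard yM)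
    have hc : ∀ {x}, x ∈ B ⊓ centralizer {y} ↔ x ∈ B ∧ Commute x y := Iff.rfl.and mem_centralizer_singleton_iff
    obtain ⟨y', b', h1, h2, h3, h4⟩ := ih (B ⊓ centralizer {y}) (inf_le_left.trans hB) (by
      have e := card_mul_relIndex (inf_le_left : B ⊓ centralizer {y} ≤ B)
      rw [relIndex_eq_two_iff.2 ⟨a, aB, fun x hx => ?_⟩, h, pow_succ] at e
      · exact Nat.eq_of_mul_eq_mul_right two_pos e
      · rcases y2 x (hB hx) with e | e
        · exact Or.inr ⟨hc.2 ⟨hx, comm_of_conj e⟩, fun h => ny (by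
            simpa using (comm_of_conj e).inv_left.mul_left (hc.1 h).2)⟩
        · exact Or.inl ⟨hc.2 ⟨mul_mem hx aB, inv_inv_comm e ya⟩, fun h => ny (by
            simpa using (hc.1 h).2.inv_left.mul_left (inv_inv_comm e ya))⟩)
    obtain ⟨c, c1, c2⟩ := h2 a (hB aB)
    have c3 := comm_inv ya (hc.1 c1).2
    have c4 := mul_mem aB c1.1
    refine ⟨Fin.cons y y', Fin.cons (a * c) b', Fin.cases ⟨yM, y1, y2, c4, c3, Fin.cases (fun h => absurd rfl h)
      fun j _ => c2 j⟩ fun i => ⟨(h1 i).1, (h1 i).2.1, (h1 i).2.2.1, (h1 i).2.2.2.1.1, (h1 i).2.2.2.2.1, Fin.cases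
        (fun _ => (hc.1 (h1 i).2.2.2.1).2) fun j h => (h1 i).2.2.2.2.2 j fun e => h (by rw [e])⟩, fun x hx => ?_,
      fun x hx h => h3 x (hc.2 ⟨hx, h 0⟩) fun i => h i.succ, fun x hx => ?_⟩
    · rcases y2 x hx with e | e
      · obtain ⟨d, d1, d2⟩ := h2 x hx
        exact ⟨d, d1.1, Fin.cases ((comm_of_conj e).mul_left (hc.1 d1).2) d2⟩
      · obtain ⟨d, d1, d2⟩ := h2 (x * a) (mul_mem hx (hB aB))
        exact ⟨a * d, mul_mem aB d1.1, by
          rw [← mul_assoc]; exact Fin.cases ((inv_inv_comm e ya).mul_left (hc.1 d1).2) d2⟩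
    · have h5 : B ⊓ centralizer {y} ≤ ⨆ i, zpowers ((Fin.cons (a * c) b' : Fin (n + 1) → G) i) :=
        h4.trans (iSup_le fun i => le_iSup_of_le i.succ le_rfl)
      rcases y2 x (hB hx) with e | e
      · exact h5 (hc.2 ⟨hx, comm_of_conj e⟩)
      · exact (Subgroup.mul_mem_cancel_right _ (mem_iSup_of_mem 0 (mem_zpowers (a * c)))).1
          (h5 (hc.2 ⟨mul_mem hx c4, inv_inv_comm e c3⟩))

end Cfsg.Agent.H2
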